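import Cfsg.Agent.H480.Kill
import Cfsg.Agent.BpSpor.Cen
import Cfsg.Agent.CpAutRuFive.Cert
import Cfsg.Agent.RuLat.Main
import Cfsg.Agent.FastGrp
import Cfsg.Agent.Prune
set_option linter.all false

section
prune_inst 0x7f00000000000000000000000000000000000000000000000000000000000000000000000000000000000000000000000000000000000000000000000000000000000000000000000000000000000000003fffffffffffffffffffffffffffbeffbdffffffff

-- part: H480/KillNil
section
set_option linter.all false
open scoped Cfsg.Agent.FastGrp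

-- part: H480/KillSq
section
/-!
# Nilpotent minimal covers: criteria for `Kill` (helper480, S3925, S3926)

* `Kill.of_sq` : `z` of order `r`, `r ^ 2 ∤ |S|`, commuting with `a`, `b` which generate a nonnilpotent group;
* `Kill.of_dihedral` : the same with `b` an involution inverting `a`;
* `Kill.of_quot` : `C(z)` with a homomorphism with kernel `⟨z⟩`;
* `Kill.of_two_quot` : `C(z)`, `z` an involution, with a homomorphism whose kernel is a 2-group.
-/

set_option autoImplicit false

namespace Cfsg.Agent.H480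

open Subgroup

variable {S : Type*} [Group S]

theorem mem_zpowers_of_sq [Finite S] {r : ℕ} (hr : r.Prime) (h2 : ¬ r ^ 2 ∣ Nat.card S) {z x : S}
    (hz : orderOf z = r) (hx : orderOf x = r) (hxz : x * z = z * x) : x ∈ zpowers z := by
  have hfr : Fact r.Prime := ⟨hr⟩
  by_contra hn
  apply h2
  -- the group generated by `x` and `z`
  have hcop : zpowers x ⊓ zpowers z = ⊥ := by
    have h1 : Nat.card ↥(zpowers x ⊓ zpowers z) ∣ r := by
      have h3 : Nat.card ↥(zpowers x) = r := by rw [Nat.card_zpowers, hx]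
      rw [← h3]
      exact card_dvd_of_le inf_le_left
    rcases (Nat.dvd_prime hr).1 h1 with h3 | h3
    · exact (card_eq_one).1 h3
    · exfalso
      apply hn
      have h4 : zpowers x ⊓ zpowers z = zpowers x :=
        eq_of_le_of_card_ge inf_le_left (by rw [Nat.card_zpowers, hx, h3])
      have h5 : x ∈ zpowers x ⊓ zpowers z := by rw [h4]; exact mem_zpowers x
      exact h5.2
  have hcm : ∀ (a : zpowers x) (b : zpowers z), Commute (a : S) (b : S) := by
    rintro ⟨a, ha⟩ ⟨b, hb⟩
    obtain ⟨i, rfl⟩ := mem_zpowers_iff.1 ha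
    obtain ⟨j, rfl⟩ := mem_zpowers_iff.1 hb
    exact ((show Commute x z from hxz).zpow_left i).zpow_right j
  let f : ↥(zpowers x) × ↥(zpowers z) →* S :=
    (zpowers x).subtype.noncommCoprod (zpowers z).subtype (fun a b => hcm a b)
  have hf : Function.Injective f := by
    rw [injective_iff_map_eq_one]
    rintro ⟨a, b⟩ hab
    have h3 : (a : S) * (b : S) = 1 := hab
    have h4 : (a : S) ∈ zpowers x ⊓ zpowers z := by
      refine ⟨a.2, ?_⟩
      rw [eq_inv_of_mul_eq_one_left h3]
      exact (zpowers z).inv_mem b.2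
    rw [hcop, mem_bot] at h4
    have h5 : (b : S) = 1 := by rw [h4, one_mul] at h3; exact h3
    exact Prod.ext (Subtype.ext h4) (Subtype.ext h5)
  have h6 := card_dvd_of_injective f hf
  rw [Nat.card_prod, Nat.card_zpowers, Nat.card_zpowers, hx, hz] at h6
  rw [pow_two]
  exact h6

/-- **A prime dividing the order once**, with a nonnilpotent centralizer. -/
theorem Kill.of_sq [Finite S] {r : ℕ} (hr : r.Prime) (h2 : ¬ r ^ 2 ∣ Nat.card S) {z a b : S} (hz : orderOf z = r)
    (hza : z * a = a * z) (hzb : z * b = b * z) (hb : (orderOf b).Coprime r)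
    (hcop : (orderOf (a * b * a⁻¹ * b⁻¹)).Coprime (orderOf b))
    (hne : (a * b * a⁻¹ * b⁻¹) * b ≠ b * (a * b * a⁻¹ * b⁻¹)) : Kill S := by
  refine ⟨r, z, b, hr, hz, hb, hzb, fun x hx hxz _ => mem_zpowers_of_sq hr h2 hz hx hxz, ?_⟩
  exact not_nilpotent_of_commutator (q := a) (mem_centralizer_singleton_iff.2 hza.symm) hcop hne

/-- the dihedral case -/
theorem Kill.of_dihedral [Finite S] {r : ℕ} (hr : r.Prime) (hr2 : r ≠ 2) (h2 : ¬ r ^ 2 ∣ Nat.card S) {z a b : S}
    (hz : orderOf z = r) (hza : z * a = a * z) (hzb : z * b = b * z) (hb : b * b = 1) (hab : b * a * b = a⁻¹)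
    (ha : Odd (orderOf a)) (ha1 : a ≠ 1) : Kill S := by
  have hb1 : b ≠ 1 := by
    rintro rfl
    rw [one_mul, mul_one] at hab
    have h3 : a ^ 2 = 1 := by
      rw [pow_two]
      calc a * a = a * a⁻¹ := by rw [← hab]
        _ = 1 := mul_inv_cancel a
    have h4 := orderOf_dvd_of_pow_eq_one h3
    have h5 : orderOf a = 1 := by
      rcases (Nat.dvd_prime Nat.prime_two).1 h4 with h | h
      · exact h
      · rw [h] at ha
        exact absurd ha (by decide)
    exact ha1 (orderOf_eq_one_iff.1 h5)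
  have hbo : orderOf b = 2 := by
    have : Fact (Nat.Prime 2) := ⟨Nat.prime_two⟩
    exact orderOf_eq_prime (by rw [pow_two, hb]) hb1
  have hbi : b⁻¹ = b := inv_eq_of_mul_eq_one_right hb
  have e : a * b * a⁻¹ * b⁻¹ = a ^ 2 := by
    have h3 : b * a⁻¹ * b = a := by
      have h4 := congrArg (·⁻¹) hab
      simp only [mul_inv_rev, inv_inv, hbi] at h4
      rw [mul_assoc]
      exact h4
    rw [hbi, mul_assoc, mul_assoc, ← mul_assoc b, h3, pow_two]
  have ho : Odd (orderOf (a ^ 2)) := ha.of_dvd_nat (orderOf_pow_dvd 2)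
  refine Kill.of_sq hr h2 hz hza hzb ?_ ?_ ?_
  · rw [hbo]
    exact (Nat.coprime_primes Nat.prime_two hr).2 (Ne.symm hr2)
  · rw [e, hbo]
    exact ho.coprime_two_right
  · rw [e]
    intro h3
    have h4 : b * a ^ 2 * b = (a ^ 2)⁻¹ := by
      calc b * a ^ 2 * b = (b * a * b) * (b * a * b) := by
            rw [pow_two]
            calc b * (a * a) * b = b * a * (1 * a) * b := by rw [one_mul]; group
              _ = b * a * (b * b * a) * b := by rw [hb]
              _ = _ := by group
        _ = (a ^ 2)⁻¹ := by rw [hab, pow_two, mul_inv_rev]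
    rw [← h3, mul_assoc, hb, mul_one] at h4
    have h5 : (a ^ 2) ^ 2 = 1 := by
      rw [pow_two (a ^ 2)]
      calc a ^ 2 * a ^ 2 = a ^ 2 * (a ^ 2)⁻¹ := by rw [← h4]
        _ = 1 := mul_inv_cancel _
    rw [← pow_mul] at h5
    have h6 : orderOf a ∣ 2 ^ 2 := orderOf_dvd_of_pow_eq_one h5
    have h7 : orderOf a = 1 := Nat.Coprime.eq_one_of_dvd (ha.coprime_two_right.pow_right 2) h6
    exact ha1 (orderOf_eq_one_iff.1 h7)

/-- **A centralizer with a homomorphism with kernel `⟨z⟩`.** -/
theorem Kill.of_quot {L : Type*} [Group L] [Finite S] {r : ℕ} (hr : r.Prime) {z : S} (hz : orderOf z = r)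
    (π : ↥(centralizer ({z} : Set S)) →* L) (hker : ∀ c, π c = 1 → (c : S) ∈ zpowers z) {σ : L} (hσ : σ ∈ π.range)
    (hσr : (orderOf σ).Coprime r) (hC : ∀ y : L, y ^ r = 1 → y * σ = σ * y → y = 1)
    (hnil : ¬ Group.IsNilpotent ↥(_root_.Subgroup.closure (cjs π.range σ))) : Kill S := by
  obtain ⟨d0, rfl⟩ := hσ
  set n := orderOf (π d0) with hn
  have hn0 : 0 < n := orderOf_pos_iff.2 (MonoidHom.isOfFinOrder π (isOfFinOrder_of_finite d0))
  obtain ⟨k, hk1, hk2⟩ := Nat.chineseRemainder hσr 1 0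
  have hkd : π (d0 ^ k) = π d0 := by
    rw [map_pow]
    conv_rhs => rw [← pow_one (π d0)]
    exact pow_eq_pow_iff_modEq.2 hk1
  have hd0 : (d0 : S) ^ (n * r) = 1 := by
    have h1 : π (d0 ^ n) = 1 := by rw [map_pow, hn, pow_orderOf_eq_one]
    have h2 := hker _ h1
    obtain ⟨i, hi⟩ := mem_zpowers_iff.1 h2
    rw [pow_mul]
    have h3 : ((d0 ^ n : ↥(centralizer ({z} : Set S))) : S) = (d0 : S) ^ n := by simp
    rw [h3] at hi
    rw [← hi, ← zpow_natCast, ← zpow_mul, mul_comm, zpow_mul, zpow_natCast, ← hz, pow_orderOf_eq_one, one_zpow]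
  have hkr : r ∣ k := (Nat.modEq_zero_iff_dvd).1 hk2
  have hdn : ((d0 ^ k : ↥(centralizer ({z} : Set S))) : S) ^ n = 1 := by
    obtain ⟨m, hm⟩ := hkr
    have h3 : ((d0 ^ k : ↥(centralizer ({z} : Set S))) : S) = (d0 : S) ^ k := by simp
    rw [h3, ← pow_mul, hm]
    have h4 : r * m * n = (n * r) * m := by ring
    rw [h4, pow_mul, hd0, one_pow]
  refine ⟨r, z, ((d0 ^ k : ↥(centralizer ({z} : Set S))) : S), hr, hz, ?_, ?_, ?_, ?_⟩
  · exact Nat.Coprime.coprime_dvd_left (orderOf_dvd_of_pow_eq_one hdn) hσr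
  · exact (mem_centralizer_singleton_iff.1 (d0 ^ k).2).symm
  · intro x hx hxz hxd
    have h1 : (⟨x, mem_centralizer_singleton_iff.2 hxz⟩ : ↥(centralizer ({z} : Set S))) ^ r = 1 := by
      apply Subtype.ext
      simp only [← hx, pow_orderOf_eq_one, _root_.SubmonoidClass.mk_pow, _root_.OneMemClass.coe_one]
    refine hker ⟨x, mem_centralizer_singleton_iff.2 hxz⟩ (hC _ ?_ ?_)
    · rw [← map_pow, h1, map_one]
    · rw [← hkd, ← map_mul, ← map_mul]
      exact congrArg π (Subtype.ext hxd)
  · intro hnl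
    apply hnil
    set D := _root_.Subgroup.closure (cjs (centralizer ({z} : Set S)) ((d0 ^ k : ↥(centralizer ({z} : Set S))) : S)) with hD
    have hDC : D ≤ centralizer ({z} : Set S) := by
      rw [hD, closure_le]
      rintro _ ⟨m, hm, rfl⟩
      exact mul_mem (mul_mem hm (d0 ^ k).2) (inv_mem hm)
    let g : ↥D →* L := π.comp (Subgroup.inclusion hDC)
    have h1 : _root_.Subgroup.closure (cjs π.range (π d0)) ≤ g.range := by
      rw [closure_le]
      rintro _ ⟨_, ⟨m, rfl⟩, rfl⟩
      refine ⟨⟨(m : S) * ((d0 ^ k : ↥(centralizer ({z} : Set S))) : S) * (m : S)⁻¹,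
        subset_closure ⟨m, m.2, rfl⟩⟩, ?_⟩
      have h2 : (Subgroup.inclusion hDC ⟨(m : S) * ((d0 ^ k : ↥(centralizer ({z} : Set S))) : S) * (m : S)⁻¹,
        subset_closure ⟨m, m.2, rfl⟩⟩ : ↥(centralizer ({z} : Set S))) = m * d0 ^ k * m⁻¹ := by
        apply Subtype.ext
        simp only [_root_.SubmonoidClass.coe_pow, _root_.Subgroup.coe_inclusion, _root_.Subgroup.coe_mul, _root_.InvMemClass.coe_inv]
      change π _ = _
      rw [h2, map_mul, map_mul, hkd, map_inv]
    have h3 : Group.IsNilpotent ↥g.range :=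
      Group.nilpotent_of_surjective (h := hnl) g.rangeRestrict g.rangeRestrict_surjective
    exact nilpotent_of_le h1 h3

/-- `d` of order coprime to the 2-group `N` which it normalises; if the conjugates of `d` by `N` generate a nilpotent
group, `d` centralises `N` -/
theorem comm_of_nilpotent_cjs {C N : Subgroup S} {d : S} (hNC : N ≤ C) (hN : IsPGroup 2 N)
    (hdN : ∀ q ∈ N, d * q * d⁻¹ ∈ N) (hd : Odd (orderOf d)) (hnil : Group.IsNilpotent ↥(_root_.Subgroup.closure (cjs C d))) {q : S}
    (hq : q ∈ N) : q * d = d * q := by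
  have hfin : IsOfFinOrder d := by
    rw [← orderOf_pos_iff]
    exact hd.pos
  have hqc : q * d * q⁻¹ * d⁻¹ ∈ N := by
    have h1 := N.mul_mem hq (hdN q⁻¹ (inv_mem hq))
    have e : q * (d * q⁻¹ * d⁻¹) = q * d * q⁻¹ * d⁻¹ := by group
    rwa [e] at h1
  have hpow : ∀ w ∈ N, ∃ k : ℕ, w ^ 2 ^ k = 1 := by
    intro w hw
    obtain ⟨k, hk⟩ := hN ⟨w, hw⟩
    exact ⟨k, by simpa only [_root_.SubmonoidClass.mk_pow, _root_.OneMemClass.coe_one] using congrArg Subtype.val hk⟩
  have hcomm : (q * d * q⁻¹ * d⁻¹) * d = d * (q * d * q⁻¹ * d⁻¹) := by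
    have hd' : d ∈ _root_.Subgroup.closure (cjs C d) := _root_.Subgroup.subset_closure (mem_cjs_self C d)
    have h1 : q * d * q⁻¹ ∈ closure (cjs C d) := subset_closure ⟨q, hNC hq, rfl⟩
    have h2 : q * d * q⁻¹ * d⁻¹ ∈ closure (cjs C d) := mul_mem h1 (inv_mem hd')
    obtain ⟨k, hk⟩ := hpow _ hqc
    have h3 : Commute (⟨_, h2⟩ : ↥(closure (cjs C d))) ⟨d, hd'⟩ := by
      refine Lib.NilpotentCoprime.commute_of_pow_eq_one (m := 2 ^ k) (n := orderOf d)
        (Nat.Coprime.pow_left k hd.coprime_two_left) (Subtype.ext ?_) (Subtype.ext ?_)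
      · simpa only [_root_.SubmonoidClass.mk_pow, _root_.OneMemClass.coe_one] using hk
      · simp [pow_orderOf_eq_one]
    exact congrArg Subtype.val h3.eq
  -- `c = [q, d]` commutes with `d`, so `q d ^ n q⁻¹ = c ^ n d ^ n`
  set c := q * d * q⁻¹ * d⁻¹ with hc
  have h1 : q * d * q⁻¹ = c * d := by rw [hc]; group
  have h2 : q * d ^ orderOf d * q⁻¹ = c ^ orderOf d * d ^ orderOf d := by
    rw [← conj_pow, h1]
    exact (show Commute c d from hcomm).mul_pow _
  rw [pow_orderOf_eq_one, mul_one, mul_one, mul_inv_cancel] at h2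
  have h3 : c = 1 := by
    obtain ⟨k, hk⟩ := hpow c hqc
    have h4 : orderOf c ∣ 2 ^ k := orderOf_dvd_of_pow_eq_one hk
    have h5 : orderOf c ∣ orderOf d := orderOf_dvd_of_pow_eq_one h2.symm
    have h6 : orderOf c = 1 := Nat.Coprime.eq_one_of_dvd
      (Nat.Coprime.coprime_dvd_left h5 (hd.coprime_two_right.pow_right k)) h4
    exact orderOf_eq_one_iff.1 h6
  rw [h3, one_mul] at h1
  calc q * d = q * d * q⁻¹ * q := by group
    _ = d * q := by rw [h1]

/-- **An involution centralizer with a homomorphism whose kernel is a 2-group.** -/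
theorem Kill.of_two_quot {L : Type*} [Group L] [Finite S] {z : S} (hz : orderOf z = 2)
    (π : ↥(centralizer ({z} : Set S)) →* L) {n p : ℕ} (hp : p.Prime) (hp2 : p ≠ 2) (hker : Nat.card π.ker = 2 ^ n)
    {σ : L} (hσ : σ ∈ π.range) (hσp : orderOf σ = p) (hC : ∀ y : L, y ^ 2 = 1 → y * σ = σ * y → y = 1)
    (hnum : ∀ i < n, 2 ^ n ≡ 2 ^ i [MOD p] → i ≤ 1)
    (hcen : ∀ c : ↥(centralizer ({z} : Set S)), (∀ k ∈ π.ker, c * k = k * c) → π c = 1) : Kill S := by
  have hfp : Fact p.Prime := ⟨hp⟩
  obtain ⟨d0, hd0⟩ := hσ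
  -- the kernel as a subgroup of `S`
  set N : Subgroup S := π.ker.map (centralizer ({z} : Set S)).subtype with hN
  have hNcard : Nat.card N = 2 ^ n := by
    rw [hN, card_map_of_injective (centralizer ({z} : Set S)).subtype_injective, hker]
  have hNC : N ≤ centralizer ({z} : Set S) := by
    rintro _ ⟨k, hk, rfl⟩
    exact k.2
  have hNp : IsPGroup 2 N := IsPGroup.of_card hNcard
  -- an element of order `p` above `σ`
  have hcop : p.Coprime (2 ^ n) := (Nat.Coprime.pow_right n ((Nat.coprime_primes hp Nat.prime_two).2 hp2))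
  obtain ⟨k, hk1, hk2⟩ := Nat.chineseRemainder hcop 1 0
  have hkσ : π (d0 ^ k) = σ := by
    rw [map_pow, hd0]
    conv_rhs => rw [← pow_one σ]
    refine pow_eq_pow_iff_modEq.2 ?_
    rw [hσp]
    exact hk1
  obtain ⟨d, hd⟩ : ∃ d : ↥(centralizer ({z} : Set S)), d = d0 ^ k := ⟨_, rfl⟩
  rw [← hd] at hkσ
  have hdp : d ^ p = 1 := by
    have h1 : d0 ^ p ∈ π.ker := by
      rw [MonoidHom.mem_ker, map_pow, hd0, ← hσp, pow_orderOf_eq_one]
    have h2 : (d0 ^ p) ^ 2 ^ n = 1 := by
      have h3 := pow_card_eq_one' (G := ↥π.ker) (x := ⟨d0 ^ p, h1⟩)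
      rw [hker] at h3
      exact congrArg Subtype.val h3
    obtain ⟨m, hm⟩ := (Nat.modEq_zero_iff_dvd).1 hk2
    rw [hd, ← pow_mul, hm]
    have h4 : 2 ^ n * m * p = p * 2 ^ n * m := by ring
    rw [h4, pow_mul, pow_mul, h2, one_pow]
  have hdo : orderOf d = p := by
    have h1 : orderOf d ∣ p := orderOf_dvd_of_pow_eq_one hdp
    rcases (Nat.dvd_prime hp).1 h1 with h2 | h2
    · exfalso
      rw [orderOf_eq_one_iff] at h2
      rw [h2, map_one] at hkσ
      rw [← hkσ, orderOf_one] at hσp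
      exact hp.one_lt.ne hσp
    · exact h2
  have hdS : orderOf (d : S) = p := by rw [orderOf_coe, hdo]
  have hdN : ∀ q ∈ N, (d : S) * q * (d : S)⁻¹ ∈ N := by
    rintro _ ⟨q, hq, rfl⟩
    have h1 : d * q * d⁻¹ ∈ π.ker := (inferInstance : π.ker.Normal).conj_mem q hq d
    exact ⟨_, h1, by simp only [_root_.Subgroup.subtype_apply, _root_.Subgroup.coe_mul, _root_.InvMemClass.coe_inv]⟩
  have hodd : Odd (orderOf (d : S)) := by
    rw [hdS]
    exact hp.odd_of_ne_two hp2
  have hnc : ¬ ∀ y ∈ N, (d : S) * y = y * d := by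
    intro hall
    have h1 : π d = 1 := hcen d (fun k hk => Subtype.ext (hall _ ⟨k, hk, rfl⟩))
    rw [hkσ] at h1
    rw [h1, orderOf_one] at hσp
    exact hp.one_lt.ne hσp
  obtain ⟨i, hi, hi2, hi3⟩ := BpSpor.Cen.exists_fix hNcard hdS hdN hnc
  have hi1 : i ≤ 1 := hnum i hi hi3
  have hz1 : z ≠ 1 := by
    rintro rfl
    rw [orderOf_one] at hz
    exact absurd hz (by norm_num)
  have hzc : z ∈ centralizer ({z} : Set S) := mem_centralizer_singleton_iff.2 rfl
  have hker2 : ∀ x : S, (hx : x ∈ centralizer ({z} : Set S)) → x ^ 2 = 1 → x * d = d * x → x ∈ N := by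
    intro x hx hx2 hxd
    refine ⟨⟨x, hx⟩, ?_, rfl⟩
    change π ⟨x, hx⟩ = 1
    apply hC
    · rw [← map_pow]
      have h1 : (⟨x, hx⟩ : ↥(centralizer ({z} : Set S))) ^ 2 = 1 := Subtype.ext (by simpa only [_root_.SubmonoidClass.mk_pow, _root_.OneMemClass.coe_one] using hx2)
      rw [h1, map_one]
    · rw [← hkσ, ← map_mul, ← map_mul]
      exact congrArg π (Subtype.ext hxd)
  have hzd : z * (d : S) = d * z := (mem_centralizer_singleton_iff.1 d.2).symm
  have hz2 : z ^ 2 = 1 := by rw [← hz, pow_orderOf_eq_one]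
  have hzN : z ∈ N ⊓ centralizer ({(d : S)} : Set S) :=
    ⟨hker2 z hzc hz2 hzd, mem_centralizer_singleton_iff.2 hzd⟩
  refine ⟨2, z, d, Nat.prime_two, hz, ?_, hzd, ?_, ?_⟩
  · exact hodd.coprime_two_right
  · intro x hx hxz hxd
    have hx2 : x ^ 2 = 1 := by rw [← hx, pow_orderOf_eq_one]
    have h1 : x ∈ N ⊓ centralizer ({(d : S)} : Set S) :=
      ⟨hker2 x (mem_centralizer_singleton_iff.2 hxz) hx2 hxd, mem_centralizer_singleton_iff.2 hxd⟩
    have h2 : zpowers z = N ⊓ centralizer ({(d : S)} : Set S) := by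
      refine eq_of_le_of_card_ge (zpowers_le.2 hzN) ?_
      rw [hi2, Nat.card_zpowers, hz]
      exact (Nat.pow_le_pow_right (by norm_num) hi1).trans (by norm_num)
    rw [h2]
    exact h1
  · intro hnl
    exact hnc fun y hy => (comm_of_nilpotent_cjs hNC hNp hdN hodd hnl hy).symm

end Cfsg.Agent.H480
end

-- part: H480/KillNil
section
/-!
# Nilpotent minimal covers: a prime dividing the order once, nonnilpotent centralizer (helper480, S3925, S3926)
-/

set_option autoImplicit false

namespace Cfsg.Agent.H480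

open Subgroup

/-- a group in which all `r'`-elements have nilpotent normal closure and all `r`-elements are central is nilpotent -/
theorem nilpotent_of_closures {H : Type*} [Group H] [Finite H] {r : ℕ} (hr : r.Prime)
    (h1 : ∀ d : H, (orderOf d).Coprime r → Group.IsNilpotent ↥(normalClosure ({d} : Set H)))
    (h2 : ∀ x : H, (∃ k, x ^ r ^ k = 1) → x ∈ center H) : Group.IsNilpotent H := by
  refine ((Group.isNilpotent_of_finite_tfae (G := H)).out 0 3).2 ?_
  intro p hp P
  constructor
  intro d hd g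
  obtain ⟨k, hk⟩ := P.isPGroup' ⟨d, hd⟩
  have hk' : d ^ p ^ k = 1 := by simpa only [_root_.SubmonoidClass.mk_pow, _root_.OneMemClass.coe_one] using congrArg Subtype.val hk
  by_cases hpr : p = r
  · subst hpr
    have h3 := h2 d ⟨k, hk'⟩
    have h4 : g * d * g⁻¹ = d := by
      rw [mem_center_iff.1 h3 g]
      group
    rw [h4]
    exact hd
  · have hcop : (orderOf d).Coprime r :=
      Nat.Coprime.coprime_dvd_left (orderOf_dvd_of_pow_eq_one hk')
        (Nat.Coprime.pow_left k ((Nat.coprime_primes hp.out hr).2 hpr))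
    set N := normalClosure ({d} : Set H) with hN
    have hNn : N.Normal := inferInstance
    have hnil := h1 d hcop
    obtain ⟨Q⟩ : Nonempty (Sylow p ↥N) := inferInstance
    have hQn : (Q : Subgroup ↥N).Normal := by
      have := (Group.isNilpotent_of_finite_tfae (G := ↥N)).out 0 3
      exact this.1 hnil p hp Q
    have hel : ∀ b : ↥N, (∃ i : ℕ, b ^ p ^ i = 1) → b ∈ (Q : Subgroup ↥N) := by
      rintro b ⟨i, hi⟩
      have h2 : IsPGroup p ↥(zpowers b) := by
        rw [IsPGroup]
        rintro ⟨c, hc⟩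
        obtain ⟨n, rfl⟩ := mem_zpowers_iff.1 hc
        exact ⟨i, Subtype.ext (by
          have h3 : (b ^ n) ^ p ^ i = (b ^ p ^ i) ^ n := by
            rw [← zpow_natCast, ← zpow_natCast, ← zpow_mul, ← zpow_mul, mul_comm]
          simpa only [hi, _root_.SubmonoidClass.mk_pow, _root_.OneMemClass.coe_one, _root_.one_zpow] using h3)⟩
      obtain ⟨Q', hQ'⟩ := h2.exists_le_sylow
      have hQQ : Q' = Q := by
        have hss := Sylow.unique_of_normal Q hQn
        exact (hss.uniq Q').trans (hss.uniq Q).symm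
      rw [← hQQ]
      exact hQ' (mem_zpowers b)
    -- the image of `Q` is a normal `p`-subgroup
    have hQc : (Q : Subgroup ↥N).Characteristic := Sylow.characteristic_of_normal Q hQn
    have hQm : ((Q : Subgroup ↥N).map N.subtype).Normal := ConjAct.normal_of_characteristic_of_normal
    have hQp : IsPGroup p ↥((Q : Subgroup ↥N).map N.subtype) := Q.isPGroup'.map _
    obtain ⟨P', hP'⟩ := hQp.exists_le_sylow
    obtain ⟨u, hu⟩ := MulAction.exists_smul_eq H P' P
    have hle : ∀ x ∈ (Q : Subgroup ↥N).map N.subtype, x ∈ (P : Subgroup H) := by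
      intro x hx
      have h3 := hQm.conj_mem x hx u⁻¹
      have h4 := hP' h3
      rw [← hu, Sylow.coe_subgroup_smul]
      refine ⟨_, h4, ?_⟩
      simp only [mul_assoc, _root_.MulDistribMulAction.toMonoidEnd_apply, _root_.inv_inv, _root_.MulDistribMulAction.toMonoidHom_apply, _root_.smul_mul', _root_.smul_inv', _root_.MulAut.smul_def, _root_.MulAut.conj_apply, _root_.mul_inv_cancel, _root_.mul_one, _root_.inv_mul_cancel, _root_.inv_mul_cancel_left]
    apply hle
    have hdN : d ∈ N := subset_normalClosure (Set.mem_singleton d)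
    have hgd : g * d * g⁻¹ ∈ N := hNn.conj_mem d hdN g
    refine ⟨⟨_, hgd⟩, hel _ ⟨k, Subtype.ext ?_⟩, rfl⟩
    rw [SubmonoidClass.coe_pow, OneMemClass.coe_one]
    change (g * d * g⁻¹) ^ p ^ k = 1
    rw [conj_pow, hk', mul_one, mul_inv_cancel]

/-- **A prime dividing the order once**, with a nonnilpotent centralizer. -/
theorem Kill.of_nonnil {S : Type*} [Group S] [Finite S] {r : ℕ} (hr : r.Prime) (h2 : ¬ r ^ 2 ∣ Nat.card S) {z : S}
    (hz : orderOf z = r) (hn : ¬ Group.IsNilpotent ↥(centralizer ({z} : Set S))) : Kill S := by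
  by_contra hk
  apply hn
  have hfr : Fact r.Prime := ⟨hr⟩
  refine nilpotent_of_closures hr ?_ ?_
  · intro d hdr
    have hdc : (d : S) * z = z * d := mem_centralizer_singleton_iff.1 d.2
    have h1 : Group.IsNilpotent ↥(_root_.Subgroup.closure (cjs (centralizer ({z} : Set S)) (d : S))) := by
      by_contra h
      exact hk ⟨r, z, d, hr, hz, by rw [orderOf_coe]; exact hdr, hdc.symm,
        fun x hx hxz _ => mem_zpowers_of_sq hr h2 hz hx hxz, h⟩
    have h3 : (normalClosure ({d} : Set ↥(centralizer ({z} : Set S)))).map (centralizer ({z} : Set S)).subtype ≤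
        _root_.Subgroup.closure (cjs (centralizer ({z} : Set S)) (d : S)) := by
      rw [map_le_iff_le_comap, normalClosure, closure_le]
      intro x hx
      obtain ⟨y, hy, hxy⟩ := Group.mem_conjugatesOfSet_iff.1 hx
      rw [Set.mem_singleton_iff] at hy
      subst hy
      obtain ⟨c, rfl⟩ := isConj_iff.1 hxy
      exact subset_closure ⟨c, c.2, by simp only [_root_.Subgroup.subtype_apply, _root_.Subgroup.coe_mul, _root_.InvMemClass.coe_inv]⟩
    have h4 := nilpotent_of_le h3 h1
    exact Group.nilpotent_of_mulEquiv (_h := h4) ((normalClosure ({d} : Set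
      ↥(centralizer ({z} : Set S)))).equivMapOfInjective _ (centralizer ({z} : Set S)).subtype_injective).symm
  · rintro ⟨x, hx⟩ ⟨k, hk⟩
    have hxk : x ^ r ^ k = 1 := by simpa only [_root_.SubmonoidClass.mk_pow, _root_.OneMemClass.coe_one] using congrArg Subtype.val hk
    have hxz : x * z = z * x := mem_centralizer_singleton_iff.1 hx
    -- the order of `x` is `1` or `r`
    obtain ⟨m, -, hm⟩ := (Nat.dvd_prime_pow hr).1 (orderOf_dvd_of_pow_eq_one hxk)
    have hm2 : m < 2 := by
      by_contra h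
      apply h2
      exact (pow_dvd_pow r (not_lt.1 h)).trans (hm ▸ _root_.orderOf_dvd_natCard x)
    have hmem : x ∈ zpowers z := by
      rcases Nat.eq_zero_or_pos m with h0 | h0
      · rw [h0, pow_zero, orderOf_eq_one_iff] at hm
        rw [hm]
        exact one_mem _
      · have h1 : m = 1 := by omega
        rw [h1, pow_one] at hm
        exact mem_zpowers_of_sq hr h2 hz hm hxz
    rw [mem_center_iff]
    rintro ⟨g, hg⟩
    apply Subtype.ext
    obtain ⟨i, hi⟩ := mem_zpowers_iff.1 hmem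
    have hgz : Commute g z := mem_centralizer_singleton_iff.1 hg
    change g * x = x * g
    rw [← hi]
    exact (hgz.zpow_right i).eq

/-- the version with a subgroup `X` of the centralizer -/
theorem Kill.of_nonnil_le {S : Type*} [Group S] [Finite S] {r : ℕ} (hr : r.Prime) (h2 : ¬ r ^ 2 ∣ Nat.card S) {z : S}
    (hz : orderOf z = r) {X : Subgroup S} (hX : ∀ x ∈ X, x * z = z * x) (hn : ¬ Group.IsNilpotent ↥X) : Kill S :=
  Kill.of_nonnil hr h2 hz fun h => hn (nilpotent_of_le (fun x hx => mem_centralizer_singleton_iff.2 (hX x hx)) h)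

/-- a prime dividing the order once, centralizer of squarefree order and not commutative -/
theorem Kill.of_squarefree {S : Type*} [Group S] [Finite S] {r : ℕ} (hr : r.Prime) (h2 : ¬ r ^ 2 ∣ Nat.card S) {z : S}
    (hz : orderOf z = r) (hsf : Squarefree (Nat.card ↥(centralizer ({z} : Set S))))
    (hn : ∃ x ∈ centralizer ({z} : Set S), ∃ y ∈ centralizer ({z} : Set S), x * y ≠ y * x) : Kill S := by
  refine Kill.of_nonnil hr h2 hz fun h => ?_
  obtain ⟨x, hx, y, hy, hxy⟩ := hn
  apply hxy
  have : Group.IsNilpotent ↥(centralizer ({z} : Set S)) := h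
  have : IsZGroup ↥(centralizer ({z} : Set S)) := IsZGroup.of_squarefree hsf
  have hcyc : IsCyclic ↥(centralizer ({z} : Set S)) := inferInstance
  have h1 := (IsCyclic.isMulCommutative (α := ↥(centralizer ({z} : Set S)))).is_comm.comm ⟨x, hx⟩ ⟨y, hy⟩
  exact congrArg Subtype.val h1

/-- the version for an embedded group -/
theorem Kill.of_emb {S T : Type*} [Group S] [Group T] [Finite S] (f : T →* S) (hf : Function.Injective f) {r : ℕ}
    (hr : r.Prime) (h2 : ¬ r ^ 2 ∣ Nat.card S) {z : T} (hz : orderOf z = r)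
    (hn : ¬ Group.IsNilpotent ↥(centralizer ({z} : Set T))) : Kill S := by
  refine Kill.of_nonnil_le hr h2 (z := f z) (by rw [orderOf_injective f hf, hz])
    (X := (centralizer ({z} : Set T)).map f) ?_ ?_
  · rintro _ ⟨x, hx, rfl⟩
    rw [← map_mul, ← map_mul, mem_centralizer_singleton_iff.1 hx]
  · intro h
    exact hn (Group.nilpotent_of_mulEquiv (_h := h)
      ((centralizer ({z} : Set T)).equivMapOfInjective f hf).symm)

/-- nonnilpotent: squarefree order, not commutative -/
theorem not_nilpotent_of_squarefree {G : Type*} [Group G] [Finite G] (hsf : Squarefree (Nat.card G))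
    (hn : ∃ x y : G, x * y ≠ y * x) : ¬ Group.IsNilpotent G := by
  intro h
  obtain ⟨x, y, hxy⟩ := hn
  apply hxy
  have : IsZGroup G := IsZGroup.of_squarefree hsf
  have hcyc : IsCyclic G := inferInstance
  exact (IsCyclic.isMulCommutative (α := G)).is_comm.comm x y

end Cfsg.Agent.H480
end
end

-- part: H480/KillBound
section
set_option linter.all false
open scoped Cfsg.Agent.FastGrp

/-!
# Nilpotent minimal covers: a criterion with a bound on the order of the centralizer (helper480, S3925, S3926)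
-/

set_option autoImplicit false

namespace Cfsg.Agent.H480

open Subgroup

/-- `C(z) ∩ C(d)` not divisible by `r ^ 2` -/
theorem Kill.of_inf {S : Type*} [Group S] [Finite S] {r : ℕ} (hr : r.Prime) {z d q : S} (hz : orderOf z = r)
    (hdr : (orderOf d).Coprime r) (hzd : z * d = d * z)
    (h2 : ¬ r ^ 2 ∣ Nat.card ↥(centralizer ({z} : Set S) ⊓ centralizer ({d} : Set S)))
    (hq : q * z = z * q) (hcop : (orderOf (q * d * q⁻¹ * d⁻¹)).Coprime (orderOf d))
    (hne : (q * d * q⁻¹ * d⁻¹) * d ≠ d * (q * d * q⁻¹ * d⁻¹)) : Kill S := by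
  refine ⟨r, z, d, hr, hz, hdr, hzd, ?_, not_nilpotent_of_commutator (mem_centralizer_singleton_iff.2 hq) hcop hne⟩
  intro x hx hxz hxd
  have hzK : z ∈ centralizer ({z} : Set S) ⊓ centralizer ({d} : Set S) :=
    ⟨mem_centralizer_singleton_iff.2 rfl, mem_centralizer_singleton_iff.2 hzd⟩
  have hxK : x ∈ centralizer ({z} : Set S) ⊓ centralizer ({d} : Set S) :=
    ⟨mem_centralizer_singleton_iff.2 hxz, mem_centralizer_singleton_iff.2 hxd⟩
  have h3 := mem_zpowers_of_sq (S := ↥(centralizer ({z} : Set S) ⊓ centralizer ({d} : Set S))) hr h2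
    (z := ⟨z, hzK⟩) (x := ⟨x, hxK⟩) (by rw [← orderOf_coe]; exact hz) (by rw [← orderOf_coe]; exact hx)
    (Subtype.ext hxz)
  obtain ⟨i, hi⟩ := mem_zpowers_iff.1 h3
  exact mem_zpowers_iff.2 ⟨i, congrArg Subtype.val hi⟩

/-- a bound for the order of `C(z)` -/
theorem Kill.of_bound {S : Type*} [Group S] [Finite S] {r m : ℕ} (hr : r.Prime) {z d a q : S} (hz : orderOf z = r)
    (hdm : orderOf d = m) (hdr : m.Coprime r) (hzd : z * d = d * z)
    (hcard : Nat.card ↥(centralizer ({z} : Set S)) < r * (r ^ 2 * m))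
    (haz : a * z = z * a) (har : a ^ r = 1) (had : a * d ≠ d * a)
    (hq : q * z = z * q) (hcop : (orderOf (q * d * q⁻¹ * d⁻¹)).Coprime (orderOf d))
    (hne : (q * d * q⁻¹ * d⁻¹) * d ≠ d * (q * d * q⁻¹ * d⁻¹)) : Kill S := by
  refine Kill.of_inf hr hz (by rw [hdm]; exact hdr) hzd ?_ hq hcop hne
  intro hdvd
  have hfr : Fact r.Prime := ⟨hr⟩
  set K := centralizer ({z} : Set S) ⊓ centralizer ({d} : Set S) with hK
  have hdK : d ∈ K := ⟨mem_centralizer_singleton_iff.2 hzd.symm, mem_centralizer_singleton_iff.2 rfl⟩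
  have h1 : m ∣ Nat.card ↥K := by
    rw [← hdm]
    exact Subgroup.orderOf_dvd_natCard K hdK
  have h2 : r ^ 2 * m ∣ Nat.card ↥K := Nat.Coprime.mul_dvd_of_dvd_of_dvd (Nat.Coprime.pow_left 2 hdr.symm) hdvd h1
  have ha1 : a ≠ 1 := by
    rintro rfl
    exact had (by rw [one_mul, mul_one])
  have hao : orderOf a = r := orderOf_eq_prime har ha1
  -- powers of `a` not commuting with `d`
  have hpow : ∀ i : ℤ, a ^ i ∈ K → a ^ i = 1 := by
    intro i hi
    by_contra hne1
    have h3 : orderOf (a ^ i) = r := orderOf_eq_prime (by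
      rw [← zpow_natCast, ← zpow_mul, mul_comm, zpow_mul, zpow_natCast, har, one_zpow]) hne1
    have h4 : zpowers (a ^ i) = zpowers a := by
      apply eq_of_le_of_card_ge
      · rw [zpowers_le]
        exact zpow_mem (mem_zpowers a) i
      · rw [Nat.card_zpowers, Nat.card_zpowers, h3, hao]
    have h5 : a ∈ zpowers (a ^ i) := by rw [h4]; exact mem_zpowers a
    have h7 : a ∈ K := (zpowers_le.2 hi) h5
    exact had (mem_centralizer_singleton_iff.1 h7.2)
  -- the products `a ^ i k`
  let f : Fin r × ↥K → ↥(centralizer ({z} : Set S)) := fun p => ⟨a ^ (p.1 : ℕ) * p.2,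
    mul_mem (pow_mem (mem_centralizer_singleton_iff.2 haz) _) p.2.2.1⟩
  have hf : Function.Injective f := by
    rintro ⟨i, k⟩ ⟨j, l⟩ h
    have h3 : a ^ (i : ℕ) * (k : S) = a ^ (j : ℕ) * (l : S) := congrArg Subtype.val h
    have h4 : a ^ ((i : ℤ) - (j : ℤ)) = (l : S) * (k : S)⁻¹ := by
      rw [sub_eq_neg_add, zpow_add, zpow_neg, zpow_natCast, zpow_natCast]
      calc (a ^ (j : ℕ))⁻¹ * a ^ (i : ℕ) = (a ^ (j : ℕ))⁻¹ * (a ^ (i : ℕ) * k) * (k : S)⁻¹ := by group
        _ = (l : S) * (k : S)⁻¹ := by rw [h3]; group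
    have h5 : a ^ ((i : ℤ) - (j : ℤ)) = 1 := hpow _ (by rw [h4]; exact mul_mem l.2 (inv_mem k.2))
    have h6 := orderOf_dvd_iff_zpow_eq_one.2 h5
    rw [hao] at h6
    have h7 : i = j := by
      have hi := i.2
      have hj := j.2
      apply Fin.ext
      obtain ⟨c, hc⟩ := h6
      have h8 : c = 0 := by
        by_contra hc0
        have h9 : (r : ℤ) ≤ |(i : ℤ) - (j : ℤ)| := by
          rw [hc, abs_mul, Nat.abs_cast]
          have : (1 : ℤ) ≤ |c| := Int.one_le_abs hc0
          nlinarith [hr.pos]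
        rw [le_abs] at h9
        omega
      rw [h8, mul_zero] at hc
      omega
    subst h7
    rw [sub_self, zpow_zero] at h4
    have h8 : (l : S) = k := by
      rw [eq_comm, mul_inv_eq_one] at h4
      exact h4
    exact Prod.ext rfl (Subtype.ext h8.symm)
  have h3 := Nat.card_le_card_of_injective f hf
  rw [Nat.card_prod, Nat.card_eq_fintype_card (α := Fin r), Fintype.card_fin] at h3
  have h4 : r ^ 2 * m ≤ Nat.card ↥K := Nat.le_of_dvd Nat.card_pos h2
  have h5 : r * (r ^ 2 * m) ≤ r * Nat.card ↥K := Nat.mul_le_mul_left r h4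
  omega

end Cfsg.Agent.H480
end

-- part: H480/SporRu
section
set_option linter.all false
open scoped Cfsg.Agent.FastGrp

/-!
# Nilpotent minimal covers: `Ru` (helper480, S3925, S3926)
-/

set_option autoImplicit false
set_option maxRecDepth 100000
set_option exponentiation.threshold 5000

namespace Cfsg.Agent.H480.RuRow

open Subgroup
open Cfsg.Agent.SporadicB Cfsg.Agent.SporRec.TCUpperCert Cfsg.Agent.RuD.Letters Cfsg.Agent.KFacts.Ru.CentEng
  Cfsg.Agent.CpAutRuFive.Cert Cfsg.Agent.SporRec.R3.Kernel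

noncomputable def chkEq (u v : List ℕ) : Bool :=
  allL (fun b => Nat.beq (evalK u b) (evalK v b)) [0, 29, 580, 577]

theorem eq_of_chkEq {u v : List ℕ} (h : chkEq u v = true) : wprod ml u = (wprod ml v : RuOrder.H) := by
  have h1 := (allL_iff _ _).1 h
  apply eq_of_base
  intro b hb
  rw [evalK_eq, evalK_eq]
  simp only [List.mem_cons, List.not_mem_nil, or_false] at hb
  rcases hb with rfl | rfl | rfl | rfl
  · exact Nat.eq_of_beq_eq_true (h1 0 (by simp))
  · exact Nat.eq_of_beq_eq_true (h1 29 (by simp))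
  · exact Nat.eq_of_beq_eq_true (h1 580 (by simp))
  · exact Nat.eq_of_beq_eq_true (h1 577 (by simp))

theorem ne_of_eval {u v : List ℕ} (i : ℕ) (hi : i < 4060) (h : Nat.beq (evalK u i) (evalK v i) = false) :
    wprod ml u ≠ (wprod ml v : RuOrder.H) := by
  intro he
  have h1 := evalK_eq u ⟨i, hi⟩
  have h2 := evalK_eq v ⟨i, hi⟩
  rw [he, h2] at h1
  have h3 : evalK v i = evalK u i := h1
  rw [h3] at h
  simp at h

theorem cardB : Nat.card ↥(centralizer ({wprod ml wB} : Set RuOrder.H)) ≤ 300 := by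
  have e : centralizer ({wprod ml wB} : Set RuOrder.H) = Cen [wB] := by
    ext x
    rw [mem_centralizer_singleton_iff, mem_Cen]
    simp
  rw [e]
  exact card_B

theorem comm_word {u v : List ℕ} (h : chkEq (u ++ v) (v ++ u) = true) :
    (wprod ml u : RuOrder.H) * wprod ml v = wprod ml v * wprod ml u := by
  rw [← wprod_append, ← wprod_append]
  exact eq_of_chkEq h

theorem kill_h : Kill ↥RuOrder.H := by
  have hfin : Finite RuOrder.H := by
    have : Finite (Equiv.Perm (Fin 4060)) := inferInstance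
    infer_instance
  have hf2 : Fact (Nat.Prime 2) := ⟨Nat.prime_two⟩
  have hf3 : Fact (Nat.Prime 3) := ⟨Nat.prime_three⟩
  have hf5 : Fact (Nat.Prime 5) := ⟨by norm_num⟩
  have hz : orderOf (wprod ml wB : RuOrder.H) = 5 := by
    refine orderOf_eq_prime ?_ ?_
    · have h1 : wprod ml (wB ++ (wB ++ (wB ++ (wB ++ wB)))) = (wprod ml [] : RuOrder.H) :=
        eq_of_chkEq (by decide +kernel)
      rw [wprod_append, wprod_append, wprod_append, wprod_append, wprod_nil] at h1
      rw [← h1]
      simp only [pow_succ, pow_zero, one_mul, mul_assoc]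
    · rw [← wprod_nil ml]
      exact ne_of_eval 1 (by norm_num) (by decide +kernel)
  have hd : orderOf (wprod ml [4] : RuOrder.H) = 3 := by
    refine orderOf_eq_prime ?_ ?_
    · have h1 : wprod ml ([4] ++ ([4] ++ [4])) = (wprod ml [] : RuOrder.H) :=
        eq_of_chkEq (by decide +kernel)
      rw [wprod_append, wprod_append, wprod_nil] at h1
      rw [← h1]
      simp only [pow_succ, pow_zero, one_mul, mul_assoc]
    · rw [← wprod_nil ml]
      exact ne_of_eval 1 (by norm_num) (by decide +kernel)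
  have hqi : (wprod ml [0] : RuOrder.H)⁻¹ = wprod ml [0] := by
    apply inv_eq_of_mul_eq_one_left
    rw [← wprod_append, ← wprod_nil ml]
    exact eq_of_chkEq (by decide +kernel)
  have hdi : (wprod ml [4] : RuOrder.H)⁻¹ = wprod ml [8] := by
    apply inv_eq_of_mul_eq_one_left
    rw [← wprod_append, ← wprod_nil ml]
    exact eq_of_chkEq (by decide +kernel)
  have hc : (wprod ml [0] : RuOrder.H) * wprod ml [4] * (wprod ml [0])⁻¹ * (wprod ml [4])⁻¹ = wprod ml [0, 4, 0, 8] := by
    rw [hqi, hdi, ← wprod_append, ← wprod_append, ← wprod_append]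
    rfl
  refine Kill.of_bound (r := 5) (m := 3) (by norm_num) (z := wprod ml wB) (d := wprod ml [4])
    (a := wprod ml [0, 5, 4, 0, 5, 4]) (q := wprod ml [0]) hz hd (by norm_num)
    (comm_word (by decide +kernel)) (lt_of_le_of_lt cardB (by norm_num)) (comm_word (by decide +kernel)) ?_ ?_
    (comm_word (by decide +kernel)) ?_ ?_
  · have h1 : wprod ml ([0, 5, 4, 0, 5, 4] ++ ([0, 5, 4, 0, 5, 4] ++ ([0, 5, 4, 0, 5, 4] ++ ([0, 5, 4, 0, 5, 4] ++
        [0, 5, 4, 0, 5, 4])))) = (wprod ml [] : RuOrder.H) := eq_of_chkEq (by decide +kernel)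
    rw [wprod_append, wprod_append, wprod_append, wprod_append, wprod_nil] at h1
    rw [← h1]
    simp only [pow_succ, pow_zero, one_mul, mul_assoc]
  · rw [← wprod_append, ← wprod_append]
    exact ne_of_eval 0 (by norm_num) (by decide +kernel)
  · rw [hc, hd]
    have h2 : orderOf (wprod ml [0, 4, 0, 8] : RuOrder.H) = 2 := by
      refine orderOf_eq_prime ?_ ?_
      · have h1 : wprod ml ([0, 4, 0, 8] ++ [0, 4, 0, 8]) = (wprod ml [] : RuOrder.H) :=
          eq_of_chkEq (by decide +kernel)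
        rw [wprod_append, wprod_nil] at h1
        rw [pow_two]
        exact h1
      · rw [← wprod_nil ml]
        exact ne_of_eval 0 (by norm_num) (by decide +kernel)
    rw [h2]
    norm_num
  · rw [hc, ← wprod_append, ← wprod_append]
    exact ne_of_eval 0 (by norm_num) (by decide +kernel)

theorem kill_ru : Kill Cfsg.Spor.Ru := Kill.congr RuLat.Main.equiv.symm kill_h

end Cfsg.Agent.H480.RuRow
end
end
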