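import Cfsg.Agent.Lib.NilpotentCoprime
set_option linter.all false

/-!
# Nilpotent minimal covers: the elementary facts (helper480, S3925, S3926)

* `NMC 𝓐` : `𝓐` is a cover of `G` by proper subgroups with the least number of members, all nilpotent;
* `NMC.card_le` : a part of `𝓐` cannot be replaced by fewer proper subgroups;
* `NMC.sup_eq_top` : two members generate `G`;
* `NMC.nilpotent_of_le` : if all nilpotent subgroups containing `x` are in the proper subgroup `M`, then the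
  `M`-conjugates of `x` generate a nilpotent group;
* `NMC.exists_outside` : if `G` has no nilpotent normal subgroup and `K` is normal of prime index `r`, every
  nontrivial `r'`-element commutes with an `r`-element outside `K`;
* `NMC.nilpotent_of_pair` : `z` an `r`-element, `d` an `r'`-element commuting with `z`; if all `r`-subgroups of
  `C(d)` containing `z` centralise `z`, then the `C(z)`-conjugates of `d` generate a nilpotent group.
-/

set_option autoImplicit false

namespace Cfsg.Agent.H480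

open Subgroup

variable {G : Type*} [Group G]

/-- a cover by proper subgroups -/
def IsCov (𝓑 : Finset (Subgroup G)) : Prop := (∀ A ∈ 𝓑, A ≠ ⊤) ∧ (∀ g : G, ∃ A ∈ 𝓑, g ∈ A)

/-- a minimal cover with nilpotent members -/
structure NMC (𝓐 : Finset (Subgroup G)) : Prop where
  cov : IsCov 𝓐
  min : ∀ 𝓑 : Finset (Subgroup G), IsCov 𝓑 → 𝓐.card ≤ 𝓑.card
  nil : ∀ A ∈ 𝓐, Group.IsNilpotent ↥A

/-- the conjugates of `x` by the elements of `M` -/
def cjs (M : Subgroup G) (x : G) : Set G := {y | ∃ m ∈ M, y = m * x * m⁻¹}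

theorem mem_cjs_self (M : Subgroup G) (x : G) : x ∈ cjs M x := ⟨1, M.one_mem, by group⟩

theorem cjs_mono {M N : Subgroup G} (h : M ≤ N) (x : G) : cjs M x ⊆ cjs N x := by
  rintro y ⟨m, hm, rfl⟩
  exact ⟨m, h hm, rfl⟩

/-- nilpotency of the conjugate subgroup -/
theorem nilpotent_conj {A : Subgroup G} (h : Group.IsNilpotent ↥A) (g : G) :
    Group.IsNilpotent ↥(A.map (MulAut.conj g).toMonoidHom) :=
  Group.nilpotent_of_surjective (h := h)
    ((MulEquiv.subgroupMap (MulAut.conj g) A).toMonoidHom) (MulEquiv.subgroupMap (MulAut.conj g) A).surjective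

theorem mem_conj {A : Subgroup G} {g x : G} : x ∈ A.map (MulAut.conj g).toMonoidHom ↔ g⁻¹ * x * g ∈ A := by
  constructor
  · rintro ⟨a, ha, rfl⟩
    have h : g⁻¹ * ((MulAut.conj g).toMonoidHom a) * g = a := by
      simp [MulAut.conj_apply, mul_assoc]
    rw [h]
    exact ha
  · intro h
    exact ⟨_, h, by simp [MulAut.conj_apply, mul_assoc]⟩

theorem nilpotent_of_le {A B : Subgroup G} (h : A ≤ B) (hB : Group.IsNilpotent ↥B) : Group.IsNilpotent ↥A :=
  Group.nilpotent_of_mulEquiv (_h := Subgroup.isNilpotent (hG := hB) (A.subgroupOf B)) (subgroupOfEquivOfLe h)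

theorem pow_eq_self {x : G} {u n : ℕ} (hx : x ^ n = 1) (hu : u ≡ 1 [MOD n]) : x ^ u = x := by
  have h1 : x ^ u = x ^ 1 := pow_eq_pow_iff_modEq.2 (hu.of_dvd (orderOf_dvd_of_pow_eq_one hx))
  rwa [pow_one] at h1

theorem pow_eq_one' {x : G} {u n : ℕ} (hx : x ^ n = 1) (hu : u ≡ 0 [MOD n]) : x ^ u = 1 := by
  have h1 : x ^ u = x ^ 0 := pow_eq_pow_iff_modEq.2 (hu.of_dvd (orderOf_dvd_of_pow_eq_one hx))
  rwa [pow_zero] at h1

namespace NMC

variable {𝓐 : Finset (Subgroup G)}

open Classical in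
/-- A part of a minimal cover cannot be replaced by fewer subgroups. -/
theorem card_le (h : NMC 𝓐) (𝓑 𝓗 : Finset (Subgroup G)) (hB : 𝓑 ⊆ 𝓐) (hH : ∀ H ∈ 𝓗, H ≠ ⊤)
    (hc : ∀ A ∈ 𝓑, ∀ a ∈ A, ∃ H ∈ 𝓗, a ∈ H) : 𝓑.card ≤ 𝓗.card := by
  have h1 : IsCov ((𝓐 \ 𝓑) ∪ 𝓗) := by
    constructor
    · intro A hA
      rcases Finset.mem_union.1 hA with h2 | h2
      · exact h.cov.1 A (Finset.mem_sdiff.1 h2).1
      · exact hH A h2
    · intro g
      obtain ⟨A, hA, hg⟩ := h.cov.2 g
      by_cases hAB : A ∈ 𝓑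
      · obtain ⟨H, hH1, hH2⟩ := hc A hAB g hg
        exact ⟨H, Finset.mem_union_right _ hH1, hH2⟩
      · exact ⟨A, Finset.mem_union_left _ (Finset.mem_sdiff.2 ⟨hA, hAB⟩), hg⟩
  have h2 := h.min _ h1
  have h3 := Finset.card_union_le (𝓐 \ 𝓑) 𝓗
  have h4 := Finset.card_sdiff_add_card_eq_card hB
  omega

open Classical in
/-- Two members of a minimal cover generate the group. -/
theorem sup_eq_top (h : NMC 𝓐) {A B : Subgroup G} (hA : A ∈ 𝓐) (hB : B ∈ 𝓐) (hAB : A ≠ B) : A ⊔ B = ⊤ := by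
  by_contra hne
  have h1 := h.card_le {A, B} {A ⊔ B} (by
    intro X hX
    rcases Finset.mem_insert.1 hX with rfl | hX
    · exact hA
    · rw [Finset.mem_singleton.1 hX]
      exact hB) (by
    intro X hX
    rw [Finset.mem_singleton.1 hX]
    exact hne) (by
    intro X hX a ha
    refine ⟨A ⊔ B, Finset.mem_singleton_self _, ?_⟩
    rcases Finset.mem_insert.1 hX with rfl | hX
    · exact le_sup_left (a := X) ha
    · rw [Finset.mem_singleton.1 hX] at ha
      exact le_sup_right (b := B) ha)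
  rw [Finset.card_pair hAB, Finset.card_singleton] at h1
  omega

/-- Two members in the same proper subgroup are equal. -/
theorem eq_of_le (h : NMC 𝓐) {A B M : Subgroup G} (hA : A ∈ 𝓐) (hB : B ∈ 𝓐) (hM : M ≠ ⊤) (hAM : A ≤ M)
    (hBM : B ≤ M) : A = B := by
  by_contra hAB
  exact hM (top_le_iff.1 ((h.sup_eq_top hA hB hAB).ge.trans (sup_le hAM hBM)))

/-- If all nilpotent subgroups containing `x` are in the proper subgroup `M`, then the `M`-conjugates of `x` are
in one member, which is contained in `M`. -/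
theorem exists_member (h : NMC 𝓐) {M : Subgroup G} (hM : M ≠ ⊤) {x : G}
    (hx : ∀ A : Subgroup G, Group.IsNilpotent ↥A → x ∈ A → A ≤ M) :
    ∃ A ∈ 𝓐, A ≤ M ∧ closure (cjs M x) ≤ A := by
  have h1 : ∀ m ∈ M, ∀ A : Subgroup G, Group.IsNilpotent ↥A → m * x * m⁻¹ ∈ A → A ≤ M := by
    intro m hm A hA hxA
    have h2 := hx (A.map (MulAut.conj m⁻¹).toMonoidHom) (nilpotent_conj hA _)
      (by rw [mem_conj, inv_inv]; exact hxA)
    intro a ha
    have h3 : m⁻¹ * a * m ∈ M := h2 (by rw [mem_conj]; simpa [mul_assoc] using ha)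
    have h4 : m * (m⁻¹ * a * m) * m⁻¹ ∈ M := M.mul_mem (M.mul_mem hm h3) (M.inv_mem hm)
    simpa [mul_assoc] using h4
  obtain ⟨A, hA, hxA⟩ := h.cov.2 x
  have hAM := hx A (h.nil A hA) hxA
  refine ⟨A, hA, hAM, (closure_le A).2 ?_⟩
  rintro y ⟨m, hm, rfl⟩
  obtain ⟨B, hB, hyB⟩ := h.cov.2 (m * x * m⁻¹)
  have hBM := h1 m hm B (h.nil B hB) hyB
  rw [h.eq_of_le hA hB hM hAM hBM]
  exact hyB

/-- (F2) If all nilpotent subgroups containing `x` are in the proper subgroup `M`, then the `M`-conjugates of `x`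
generate a nilpotent group. -/
theorem nilpotent_of_le (h : NMC 𝓐) {M : Subgroup G} (hM : M ≠ ⊤) {x : G}
    (hx : ∀ A : Subgroup G, Group.IsNilpotent ↥A → x ∈ A → A ≤ M) : Group.IsNilpotent ↥(closure (cjs M x)) := by
  obtain ⟨A, hA, -, h1⟩ := h.exists_member hM hx
  exact H480.nilpotent_of_le h1 (h.nil A hA)

/-- (c2) `K` normal of prime index `r`, no nilpotent normal subgroups: every `r'`-element `y ≠ 1` commutes with an
`r`-element outside `K`. -/
theorem exists_outside [Finite G] (h : NMC 𝓐) (hF : ∀ N : Subgroup G, N.Normal → Group.IsNilpotent ↥N → N = ⊥)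
    (K : Subgroup G) [hK : K.Normal] {r : ℕ} (hr : r.Prime) (hi : K.index = r) {y : G} (hy : y ≠ 1)
    (hyr : (orderOf y).Coprime r) : ∃ g : G, g ∉ K ∧ (∃ k : ℕ, g ^ r ^ k = 1) ∧ g * y = y * g := by
  by_contra hno
  have hKtop : K ≠ ⊤ := by
    rintro rfl
    rw [index_top] at hi
    exact hr.one_lt.ne hi
  have h1 : ∀ A : Subgroup G, Group.IsNilpotent ↥A → ∀ g : G, g * y * g⁻¹ ∈ A → A ≤ K := by
    intro A hA g hgA a ha
    by_contra haK
    -- the r-part of `a`
    have hfr : Fact r.Prime := ⟨hr⟩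
    have hr0 : orderOf a ≠ 0 := (orderOf_pos a).ne'
    obtain ⟨k, m, hm, hkm⟩ := Nat.exists_eq_pow_mul_and_not_dvd hr0 r hr.ne_one
    have hcop : m.Coprime r := ((Nat.Prime.coprime_iff_not_dvd hr).2 hm).symm
    have hb1 : a ^ m ∉ K := by
      intro hb
      have h2 : ((a : G ⧸ K)) ^ m = 1 := by
        rw [← QuotientGroup.mk_pow]
        exact (QuotientGroup.eq_one_iff _).2 hb
      have h3 : ((a : G ⧸ K)) ^ r = 1 := by
        rw [← hi, Subgroup.index]
        exact pow_card_eq_one'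
      have h4 : orderOf (a : G ⧸ K) ∣ Nat.gcd m r :=
        Nat.dvd_gcd (orderOf_dvd_of_pow_eq_one h2) (orderOf_dvd_of_pow_eq_one h3)
      rw [hcop] at h4
      have h5 := orderOf_eq_one_iff.1 (Nat.dvd_one.1 h4)
      exact haK ((QuotientGroup.eq_one_iff _).1 h5)
    have hb2 : (a ^ m) ^ r ^ k = 1 := by
      rw [← pow_mul, mul_comm, ← hkm, pow_orderOf_eq_one]
    have hcomm : a ^ m * (g * y * g⁻¹) = (g * y * g⁻¹) * a ^ m := by
      have h6 : Commute (⟨a ^ m, A.pow_mem ha m⟩ : ↥A) ⟨g * y * g⁻¹, hgA⟩ := by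
        refine Lib.NilpotentCoprime.commute_of_pow_eq_one (m := r ^ k) (n := orderOf y)
          (Nat.Coprime.pow_left k hyr.symm) (Subtype.ext ?_) (Subtype.ext ?_)
        · simpa using hb2
        · simp [pow_orderOf_eq_one]
      exact congrArg Subtype.val h6.eq
    refine hno ⟨g⁻¹ * a ^ m * g, ?_, ⟨k, ?_⟩, ?_⟩
    · intro hc
      have h7 := hK.conj_mem _ hc g
      apply hb1
      simpa [mul_assoc] using h7
    · have h8 : g⁻¹ * a ^ m * g = g⁻¹ * a ^ m * (g⁻¹)⁻¹ := by rw [inv_inv]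
      rw [h8, conj_pow, hb2]
      group
    · calc g⁻¹ * a ^ m * g * y = g⁻¹ * (a ^ m * (g * y * g⁻¹)) * g := by group
        _ = g⁻¹ * ((g * y * g⁻¹) * a ^ m) * g := by rw [hcomm]
        _ = y * (g⁻¹ * a ^ m * g) := by group
  obtain ⟨A, hA, hyA⟩ := h.cov.2 y
  have hAK : A ≤ K := h1 A (h.nil A hA) 1 (by simpa using hyA)
  have h2 : normalClosure {y} ≤ A := by
    rw [normalClosure, closure_le]
    intro x hx
    rw [Group.mem_conjugatesOfSet_iff] at hx
    obtain ⟨y', hy', hc⟩ := hx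
    rw [Set.mem_singleton_iff] at hy'
    subst hy'
    obtain ⟨c, hc⟩ := isConj_iff.1 hc
    subst hc
    obtain ⟨B, hB, hyB⟩ := h.cov.2 (c * y' * c⁻¹)
    have hBK := h1 B (h.nil B hB) c hyB
    rw [h.eq_of_le hA hB hKtop hAK hBK]
    exact hyB
  have h3 := hF (normalClosure {y}) inferInstance (H480.nilpotent_of_le h2 (h.nil A hA))
  have h4 : y ∈ normalClosure ({y} : Set G) := subset_normalClosure (Set.mem_singleton y)
  rw [h3, mem_bot] at h4
  exact hy h4

/-- (F9) `z` an `r`-element, `d` an `r'`-element commuting with `z`; if all `r`-subgroups of `C(d)` containing `z`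
centralise `z`, then the `C(z)`-conjugates of `d` generate a nilpotent group. -/
theorem nilpotent_of_pair [Finite G] (h : NMC 𝓐) {r : ℕ} (hr : r.Prime) {z d : G} (hz : ∃ k : ℕ, z ^ r ^ k = 1)
    (hzc : centralizer ({z} : Set G) ≠ ⊤) (hd : (orderOf d).Coprime r) (hzd : z * d = d * z)
    (hD : ∀ D : Subgroup G, IsPGroup r ↥D → z ∈ D → (∀ x ∈ D, x * d = d * x) → ∀ x ∈ D, x * z = z * x) :
    Group.IsNilpotent ↥(closure (cjs (centralizer ({z} : Set G)) d)) := by
  have hfr : Fact r.Prime := ⟨hr⟩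
  obtain ⟨k, hk⟩ := hz
  have hcop : (r ^ k).Coprime (orderOf d) := Nat.Coprime.pow_left k hd.symm
  -- all nilpotent subgroups containing `z * d` are in `C(z)`
  have hpow : ∀ A : Subgroup G, z * d ∈ A → z ∈ A ∧ d ∈ A := by
    intro A hA
    obtain ⟨u, hu⟩ := Nat.chineseRemainder hcop 1 0
    obtain ⟨v, hv⟩ := Nat.chineseRemainder hcop 0 1
    have hcm : Commute z d := hzd
    have hzu : z ^ u = z := pow_eq_self hk hu.1
    have hdu : d ^ u = 1 := pow_eq_one' (pow_orderOf_eq_one d) hu.2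
    have hzv : z ^ v = 1 := pow_eq_one' hk hv.1
    have hdv : d ^ v = d := pow_eq_self (pow_orderOf_eq_one d) hv.2
    constructor
    · have h1 := A.pow_mem hA u
      rwa [hcm.mul_pow, hzu, hdu, mul_one] at h1
    · have h1 := A.pow_mem hA v
      rwa [hcm.mul_pow, hzv, hdv, one_mul] at h1
  have hx : ∀ A : Subgroup G, Group.IsNilpotent ↥A → z * d ∈ A → A ≤ centralizer ({z} : Set G) := by
    intro A hA hxA a ha
    obtain ⟨hzA, hdA⟩ := hpow A hxA
    -- the Sylow `r`-subgroup of `A`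
    have hr0 : orderOf a ≠ 0 := (orderOf_pos a).ne'
    obtain ⟨j, m, hm, hjm⟩ := Nat.exists_eq_pow_mul_and_not_dvd hr0 r hr.ne_one
    have hcop2 : (r ^ j).Coprime m := Nat.Coprime.pow_left j ((Nat.Prime.coprime_iff_not_dvd hr).2 hm)
    -- a = a ^ s * a ^ t with a ^ s an r-element, a ^ t an r'-element
    obtain ⟨P⟩ : Nonempty (Sylow r ↥A) := inferInstance
    have hPn : (P : Subgroup ↥A).Normal := by
      have := (Group.isNilpotent_of_finite_tfae (G := ↥A)).out 0 3
      exact this.1 hA r hfr P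
    have hel : ∀ b : ↥A, (∃ i : ℕ, b ^ r ^ i = 1) → b ∈ (P : Subgroup ↥A) := by
      rintro b ⟨i, hi⟩
      have h2 : IsPGroup r ↥(zpowers b) := by
        rw [IsPGroup]
        rintro ⟨c, hc⟩
        obtain ⟨n, rfl⟩ := mem_zpowers_iff.1 hc
        exact ⟨i, Subtype.ext (by
          have h3 : (b ^ n) ^ r ^ i = (b ^ r ^ i) ^ n := by
            rw [← zpow_natCast, ← zpow_natCast, ← zpow_mul, ← zpow_mul, mul_comm]
          simpa [hi] using h3)⟩
      obtain ⟨Q, hQ⟩ := h2.exists_le_sylow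
      have hQP : Q = P := by
        have hss := Sylow.unique_of_normal P hPn
        exact (hss.uniq Q).trans (hss.uniq P).symm
      rw [← hQP]
      exact hQ (mem_zpowers b)
    have hall := hD ((P : Subgroup ↥A).map A.subtype) (by
      exact P.isPGroup'.map A.subtype) (by
      exact ⟨⟨z, hzA⟩, hel _ ⟨k, Subtype.ext (by simpa using hk)⟩, rfl⟩) (by
      rintro x ⟨⟨x', hx'⟩, hxP, rfl⟩
      obtain ⟨i, hi⟩ := P.isPGroup' ⟨⟨x', hx'⟩, hxP⟩
      have h4 : Commute (⟨x', hx'⟩ : ↥A) ⟨d, hdA⟩ := by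
        refine Lib.NilpotentCoprime.commute_of_pow_eq_one (m := r ^ i) (n := orderOf d)
          (Nat.Coprime.pow_left i hd.symm) ?_ (Subtype.ext (by simp [pow_orderOf_eq_one]))
        exact congrArg Subtype.val hi
      exact congrArg Subtype.val h4.eq)
    have hs : ∀ b : G, b ∈ A → (∃ i : ℕ, b ^ r ^ i = 1) → b * z = z * b := by
      rintro b hb ⟨i, hi⟩
      exact hall b ⟨⟨b, hb⟩, hel _ ⟨i, Subtype.ext (by simpa using hi)⟩, rfl⟩
    have ht : ∀ b : G, b ∈ A → (orderOf b).Coprime r → b * z = z * b := by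
      intro b hb hbr
      have h4 : Commute (⟨z, hzA⟩ : ↥A) ⟨b, hb⟩ := by
        refine Lib.NilpotentCoprime.commute_of_pow_eq_one (m := r ^ k) (n := orderOf b)
          (Nat.Coprime.pow_left k hbr.symm) (Subtype.ext (by simpa using hk))
          (Subtype.ext (by simp [pow_orderOf_eq_one]))
      exact (congrArg Subtype.val h4.eq).symm
    obtain ⟨u, hu⟩ := Nat.chineseRemainder hcop2 1 0
    obtain ⟨v, hv⟩ := Nat.chineseRemainder hcop2 0 1
    have huv : a ^ u * a ^ v = a := by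
      have h1 : u + v ≡ 1 [MOD (r ^ j * m)] := by
        refine (Nat.modEq_and_modEq_iff_modEq_mul hcop2).1 ⟨?_, ?_⟩
        · simpa using hu.1.add hv.1
        · simpa using hu.2.add hv.2
      rw [← pow_add]
      have h2 := pow_eq_pow_iff_modEq.2 (hjm ▸ h1 : u + v ≡ 1 [MOD (orderOf a)])
      simpa using h2
    have hau : a ^ u * z = z * a ^ u := by
      refine hs _ (A.pow_mem ha u) ⟨j, ?_⟩
      rw [← pow_mul]
      have h2 : m ∣ u := (Nat.modEq_zero_iff_dvd).1 hu.2
      refine pow_eq_one' (pow_orderOf_eq_one a) ((Nat.modEq_zero_iff_dvd).2 ?_)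
      rw [hjm, mul_comm]
      exact mul_dvd_mul_right h2 _
    have hav : a ^ v * z = z * a ^ v := by
      refine ht _ (A.pow_mem ha v) ?_
      have h1 : (a ^ v) ^ m = 1 := by
        rw [← pow_mul]
        have h2 : r ^ j ∣ v := (Nat.modEq_zero_iff_dvd).1 hv.1
        refine pow_eq_one' (pow_orderOf_eq_one a) ((Nat.modEq_zero_iff_dvd).2 ?_)
        rw [hjm]
        exact mul_dvd_mul_right h2 _
      exact Nat.Coprime.coprime_dvd_left (orderOf_dvd_of_pow_eq_one h1)
        (((Nat.Prime.coprime_iff_not_dvd hr).2 hm).symm)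
    rw [mem_centralizer_singleton_iff]
    calc a * z = a ^ u * (a ^ v * z) := by rw [← mul_assoc, huv]
      _ = (a ^ u * z) * a ^ v := by rw [hav, mul_assoc]
      _ = z * a := by rw [hau, mul_assoc, huv]
  obtain ⟨A, hA, -, hcl⟩ := h.exists_member hzc hx
  refine H480.nilpotent_of_le ?_ (h.nil A hA)
  rw [closure_le]
  rintro y ⟨m, hm, rfl⟩
  have h1 : m * (z * d) * m⁻¹ ∈ A := hcl (subset_closure ⟨m, hm, rfl⟩)
  have hmz : m * z = z * m := mem_centralizer_singleton_iff.1 hm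
  have h2 : m * (z * d) * m⁻¹ = z * (m * d * m⁻¹) := by
    rw [← mul_assoc, hmz]
    group
  rw [h2] at h1
  have h3 : z * (m * d * m⁻¹) = (m * d * m⁻¹) * z := by
    rw [← h2]
    calc m * (z * d) * m⁻¹ = m * (d * z) * m⁻¹ := by rw [hzd]
      _ = m * d * (z * m⁻¹) := by group
      _ = m * d * m⁻¹ * z := by
        have h4 : z * m⁻¹ = m⁻¹ * z := by
          calc z * m⁻¹ = m⁻¹ * (m * z) * m⁻¹ := by group
            _ = m⁻¹ * (z * m) * m⁻¹ := by rw [hmz]
            _ = m⁻¹ * z := by group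
        rw [h4]
        group
  -- the `r'`-part
  have hord : orderOf (m * d * m⁻¹) = orderOf d := by
    have : (m * d * m⁻¹) = MulAut.conj m d := by simp
    rw [this]
    exact orderOf_injective (MulAut.conj m).toMonoidHom (MulAut.conj m).injective d
  obtain ⟨v, hv⟩ := Nat.chineseRemainder hcop 0 1
  have h5 := A.pow_mem h1 v
  have hcm : Commute z (m * d * m⁻¹) := h3
  have hzv : z ^ v = 1 := pow_eq_one' hk hv.1
  have hdv : (m * d * m⁻¹) ^ v = m * d * m⁻¹ :=
    pow_eq_self (by rw [← hord]; exact pow_orderOf_eq_one _) hv.2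
  rwa [hcm.mul_pow, hzv, hdv, one_mul] at h5

end NMC

end Cfsg.Agent.H480
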