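import Cfsg.Agent.Mrg.Omega.ML.LieRow.Bld
import Cfsg.Agent.H480.Cov
import Cfsg.Agent.Tits.Generic
import Cfsg.Agent.ChevalleyStructure.CoxeterFaithful
import Cfsg.Agent.H480.PslTwoOut
import Cfsg.Agent.FixBN.Transport
import Cfsg.Agent.Tits.Labels
import Cfsg.Agent.H519.LieRank
import Cfsg.Agent.ClassicalGeometry.SL2Order
import Cfsg.Agent.ClassicalGeometry.SympInvolutions
import Cfsg.Agent.OddHalf.D4.LineGTwoInst
import Cfsg.Agent.H341.ThreeList_m3
import Cfsg.Agent.ChevalleyStructure.TwD4Card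
import Cfsg.Agent.S2062
import Cfsg.Agent.S2063
import Cfsg.Agent.S0366
import Cfsg.Agent.S5599
import Cfsg.Agent.J4Type.OuterM22
import Cfsg.Agent.H337.MTwentyFour
import Cfsg.Agent.SporadicA.MathieuRecog
import Cfsg.Agent.S2072
import Cfsg.Agent.HN.AutHS
import Cfsg.Agent.MonsterP.H1Abs_mg_m3
import Cfsg.Agent.S2070
import Cfsg.Agent.S2037
import Cfsg.Agent.Schreier.CoTwoStab
import Cfsg.Agent.Leech.FrameAux
import Cfsg.Agent.H480.Kill
import Cfsg.Agent.H480.SporRu
import Cfsg.Agent.LieRecognition.ReeFinal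
import Cfsg.Agent.H363.PSL2Spec
import Cfsg.Agent.TwoFusion.SLTwoFacts
import Cfsg.Agent.S1603
import Cfsg.Agent.S0387
import Cfsg.Agent.CoThreeStd.M12.Model
import Cfsg.Prelude.Def_Spor_Mathieu
import Cfsg.Agent.S2134
import Cfsg.Agent.Co2Type.Quad
import Cfsg.Agent.H823.Converse
import Cfsg.Agent.S0095
import Cfsg.Agent.BM.KHAll
import Cfsg.Agent.KFacts.Baby.RowB_m3
import Cfsg.Agent.Leech.FrameStab
import Cfsg.Agent.H517.Conway_m3
import Cfsg.Agent.H838.Sym
import Cfsg.Agent.S1696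
import Cfsg.Agent.S1697
import Cfsg.Agent.H237.EvenFi
import Cfsg.Agent.Lib.MatDec
import Cfsg.Agent.S0255
import Cfsg.Agent.ClassicalGeometry.PSL2Basic
import Cfsg.Agent.Lib.FieldAutCard
import Cfsg.Agent.H155.Unit
import Cfsg.Agent.LieClassical.HermBasic
import Cfsg.Agent.Mrg.ParSys.Fam.TwoFFour
import Cfsg.Agent.S1090
import Cfsg.Agent.H322.Tri.Suz
import Cfsg.Agent.OddCyclic.CaseESz
import Cfsg.Prelude.Def_LieTypeChar
import Cfsg.Agent.H315.JThreeFact
import Cfsg.Agent.KFacts.J2.Facts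
import Cfsg.Agent.J2Sylow.SporSylow
import Cfsg.Agent.S1699
import Cfsg.Agent.KFacts.MulSpor.ONWords
import Cfsg.Agent.CoThreeStd.M12.Out
import Cfsg.Agent.CTwoTab.Co3
import Cfsg.Agent.BpMon.Thirteen
import Cfsg.Agent.KFacts.MonsterE
import Cfsg.Agent.MonsterX.ThOneClass
import Cfsg.Agent.S1701
import Cfsg.Agent.HN.A12Group
import Cfsg.Agent.S5604
import Cfsg.Agent.S0364
import Cfsg.Agent.S1711
import Cfsg.Agent.S1703
import Cfsg.Agent.S2131
import Cfsg.Agent.S2132
import Cfsg.Agent.TypeM.FactsLy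
import Cfsg.Agent.KFacts.SuzTwoB
import Cfsg.Agent.S5386
import Cfsg.Agent.S5388
import Cfsg.Prelude.Def_Classification2
import Cfsg.Agent.FastGrp
import Cfsg.Agent.Prune
set_option linter.all false

section
prune_inst 0x7f00000000000000000000000000000000000000000000000000000000000000000000000000000000000000000000000000000000000000000000000000000000000000000000000000000000000000003fffffffffffffffffffffffffffbeffbdffffffff

section
prune_inst 0xf0bcf88db805dedf7f7e7ffef1dffc38d15fffacdff94b7fe061ff0f9f030209e5fb8d09e050fe0ed6401410a87843fb7eeeffe26bdc7ffffd5ff45ffbee0fe5f7bd08519688340f380fff63f07f8a7f000000000000000000000000000000004200000000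

-- part: H480/FrameSplit
section
set_option linter.all false
open scoped Cfsg.Agent.FastGrp

-- part: H480/Frame
section
/-!
# Nilpotent minimal covers: groups of Lie type of rank at least two (helper480, S3925, S3926)

`K` is a simple normal subgroup of `H`, seen through its building (`Sys`, `HAct`, any characteristic); `x` is a regular
unipotent element. If some nonempty proper set of nodes is invariant under `H`, then `H` has no nilpotent minimal
cover.
-/

set_option autoImplicit false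
set_option linter.unusedSectionVars false

namespace Cfsg.Agent.H480.Fr

open Cfsg.Agent.Tits.Core Cfsg.Agent.Tits.Core.Bldg Cfsg.Agent.Tits.Exchange Cfsg.Agent.Tits
open Cfsg.Agent.FixBN Cfsg.Agent.FixBN.Cox Cfsg.Agent.UGT.U2.FOne Cfsg.Agent.ZN
open Cfsg.Agent.Omega.ML.LieRow Subgroup

variable {I : Type*} {M : CoxeterMatrix I} {W : Type*} [Group W] {cs : CoxeterSystem M W} {C : Type*}
  {Δ : Bldg cs C}

local prefix:100 "ℓ" => cs.length

section

variable {G : Type*} [Group G] [MulAction G C] {p : ℕ}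

/-- An element which fixes `c` and no chamber adjacent to `c` fixes no other chamber. -/
theorem fix_unique (S : Sys Δ G p) {c : C} {x : G} (hx : x • c = c)
    (hreg : ∀ i y, Δ.δ c y = cs.simple i → x • y ≠ y) {y : C} (hy : x • y = y) : y = c := by
  by_contra hne
  have h1 : Δ.δ c y ≠ 1 := fun h => hne ((Δ.eq_one c y).1 h).symm
  obtain ⟨i, hi⟩ := cs.exists_leftDescent_of_ne_one h1
  have hi' : ℓ (cs.simple i * Δ.δ c y) < ℓ (Δ.δ c y) := hi
  obtain ⟨z, hcz, hzy⟩ := exists_first Δ hi'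
  apply hreg i z hcz
  have h2 : Δ.δ c (x • z) = cs.simple i := by
    conv_lhs => rw [← hx]
    rw [S.iso, hcz]
  have h3 : Δ.δ (x • z) y = cs.simple i * Δ.δ c y := by
    conv_lhs => rw [← hy]
    rw [S.iso, hzy]
  by_contra hzz
  have h4 : Δ.δ z (x • z) = cs.simple i := Δ.δ_eq_of_mem_Pan (Or.inr hcz) (Or.inr h2) (fun h => hzz h.symm)
  have h5 : Δ.δ y (x • z) = Δ.δ y z * cs.simple i := by
    apply Δ.step_lt y z (x • z) i h4
    rw [Δ.symm z y, hzy, mul_inv_rev, cs.inv_simple, mul_assoc, cs.simple_mul_simple_self, mul_one, cs.length_inv]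
    have h6 := cs.length_inv (cs.simple i * Δ.δ c y)
    rw [mul_inv_rev, cs.inv_simple] at h6
    rw [h6]
    exact hi'
  rw [Δ.symm z y, hzy, Δ.symm (x • z) y, h3] at h5
  have h7 : (1 : W) = cs.simple i := by
    apply mul_left_cancel (a := (cs.simple i * Δ.δ c y)⁻¹)
    rw [mul_one]
    exact h5
  have h8 := cs.length_simple i
  rw [← h7, cs.length_one] at h8
  omega

end

variable {H : Type*} [Group H] {K : Subgroup H} [MulAction K C] (A : HAct Δ K) {p : ℕ} (S : Sys Δ K p)

include A S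

/-- All nilpotent subgroups of `H` which contain the regular unipotent element `x` fix `c`. -/
theorem fix_of_nilpotent [K.Normal] [Finite H] [hp : Fact p.Prime] {c : C} {x : K} (hx : x ∈ S.U c)
    (hreg : ∀ i y, Δ.δ c y = cs.simple i → x • y ≠ y) {D : Subgroup H} (hD : Group.IsNilpotent ↥D)
    (hxD : (x : H) ∈ D) {a : H} (ha : a ∈ D) : A.θ a c = c := by
  have hxc : x • c = c := S.fix c x hx
  obtain ⟨P⟩ : Nonempty (Sylow p ↥D) := inferInstance
  have hPn : (P : Subgroup ↥D).Normal := by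
    have := (Group.isNilpotent_of_finite_tfae (G := ↥D)).out 0 3
    exact this.1 hD p hp P
  have hel : ∀ b : ↥D, (∃ i : ℕ, b ^ p ^ i = 1) → b ∈ (P : Subgroup ↥D) := by
    rintro b ⟨i, hi⟩
    have h2 : IsPGroup p ↥(zpowers b) := by
      rw [IsPGroup]
      rintro ⟨c, hc⟩
      obtain ⟨n, rfl⟩ := mem_zpowers_iff.1 hc
      exact ⟨i, Subtype.ext (by
        have h3 : (b ^ n) ^ p ^ i = (b ^ p ^ i) ^ n := by
          rw [← zpow_natCast, ← zpow_natCast, ← zpow_mul, ← zpow_mul, mul_comm]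
        simpa only [hi, _root_.SubmonoidClass.mk_pow, _root_.OneMemClass.coe_one, _root_.one_zpow] using h3)⟩
    obtain ⟨Q, hQ⟩ := h2.exists_le_sylow
    have hQP : Q = P := by
      have hss := Sylow.unique_of_normal P hPn
      exact (hss.uniq Q).trans (hss.uniq P).symm
    rw [← hQP]
    exact hQ (mem_zpowers b)
  -- the `p`-part of `D ∩ K`
  set Q : Subgroup K := ((P : Subgroup ↥D).map D.subtype).subgroupOf K with hQ
  have hQp : IsPGroup p Q := (P.isPGroup'.map D.subtype).comap_of_injective _ K.subtype_injective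
  obtain ⟨d, hd⟩ := S.exists_fix Q hQp
  have hxQ : x ∈ Q := by
    rw [hQ, mem_subgroupOf]
    obtain ⟨i, hi⟩ := S.isP c ⟨x, hx⟩
    have hi' : (x : H) ^ p ^ i = 1 := by
      have := congrArg (fun z : ↥(S.U c) => ((z : K) : H)) hi
      simpa only [_root_.SubmonoidClass.mk_pow, _root_.SubmonoidClass.coe_pow, _root_.OneMemClass.coe_one] using this
    exact ⟨⟨(x : H), hxD⟩, hel _ ⟨i, Subtype.ext (by simpa using hi')⟩, rfl⟩
  have hdc : d = c := fix_unique S hxc hreg (hd x hxQ)
  subst hdc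
  -- `a` normalises `Q`
  have h1 : x • A.θ a d = A.θ a d := by
    have h2 : (MulAut.conjNormal a⁻¹ x : K) ∈ Q := by
      rw [hQ, mem_subgroupOf] at hxQ ⊢
      obtain ⟨y, hy, hyx⟩ := hxQ
      have h3 := hPn.conj_mem y hy ⟨a⁻¹, D.inv_mem ha⟩
      refine ⟨_, h3, ?_⟩
      rw [MulAut.conjNormal_apply, ← hyx]
      simp only [_root_.Subgroup.subtype_apply, _root_.Subgroup.coe_mul, _root_.InvMemClass.coe_inv, _root_.inv_inv]
    have h3 := hd _ h2
    have h4 : A.θ a ((MulAut.conjNormal a⁻¹ x : K) • d) = x • A.θ a d := by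
      rw [← A.θ_K, ← A.θ_K, ← A.θ_mul, ← A.θ_mul, MulAut.conjNormal_apply]
      congr 1
      group
    rw [← h4, h3]
  exact fix_unique S hxc hreg h1

/-- **Groups of Lie type with a nonempty proper invariant set of nodes have no nilpotent minimal cover.** -/
theorem not_nmc [K.Normal] [Finite H] [hp : Fact p.Prime] [F : OppRes.Cox cs] (hth : Δ.Thick) {c : C} {x : K}
    (hx : x ∈ S.U c) (hreg : ∀ i y, Δ.δ c y = cs.simple i → x • y ≠ y) {J : Set I} (hJ : A.Inv J)
    (hJn : J.Nonempty) (hJu : J ≠ Set.univ) {𝓐 : Finset (Subgroup H)} (h : NMC 𝓐) : False := by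
  have hne : Nonempty C := ⟨c⟩
  set R := HAct.Stb J hJ c with hR
  have hRtop : R ≠ ⊤ := by
    intro htop
    apply hJu
    rw [Set.eq_univ_iff_forall]
    intro i
    obtain ⟨y, -, -, hy, -⟩ := hth c i
    obtain ⟨g, hg⟩ := exists_smul_top S hth c y
    have h1 : (g : H) ∈ R := by rw [htop]; trivial
    rw [hR, HAct.mem_Stb, A.θ_K, hg, hy] at h1
    exact mem_of_simple_mem h1
  have hle : ∀ D : Subgroup H, Group.IsNilpotent ↥D → (x : H) ∈ D → D ≤ R := by
    intro D hD hxD a ha
    rw [hR, HAct.mem_Stb, fix_of_nilpotent A S hx hreg hD hxD ha, OppRes.delta_self]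
    exact one_mem _
  have hnil := h.nilpotent_of_le hRtop hle
  obtain ⟨i, hi⟩ := hJn
  obtain ⟨y, -, -, hy, -⟩ := hth c i
  obtain ⟨g, hg⟩ := exists_smul_top S hth c y
  have hgR : (g : H) ∈ R := by
    rw [hR, HAct.mem_Stb, A.θ_K, hg, hy]
    exact Cfsg.Agent.Tits.Exchange.simple_mem_WJ cs hi
  have h1 : ∀ a ∈ closure (cjs R (x : H)), A.θ a c = c := fun a ha =>
    fix_of_nilpotent A S hx hreg hnil (subset_closure (mem_cjs_self R _)) ha
  have h2 := h1 ((g : H)⁻¹ * x * (g : H)) (subset_closure ⟨(g : H)⁻¹, R.inv_mem hgR, by group⟩)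
  have h3 : (g : H)⁻¹ * x * (g : H) = ((g⁻¹ * x * g : K) : H) := by simp only [_root_.Subgroup.coe_mul, _root_.InvMemClass.coe_inv]
  rw [h3, A.θ_K, mul_smul, mul_smul, hg] at h2
  have h4 : x • y = y := by
    rw [inv_smul_eq_iff] at h2
    rw [h2, hg]
  exact hreg i y hy h4

end Cfsg.Agent.H480.Fr
end

-- part: H480/FrameSplit
section
/-!
# Nilpotent minimal covers: split (B,N)-pairs with a proper invariant set of nodes (helper480, S3925, S3926)
-/

set_option autoImplicit false
set_option linter.unusedSectionVars false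

namespace Cfsg.Agent.H480.Fr

open Cfsg.Agent.Tits.Core Cfsg.Agent.Tits.Core.Bldg Cfsg.Agent.Tits.Exchange Cfsg.Agent.Tits
open Cfsg.Agent.FixBN Cfsg.Agent.FixBN.Cox Cfsg.Agent.UGT.U2.FOne Cfsg.Agent.ZN
open Cfsg.Agent.Omega.ML.LieRow Subgroup Cfsg.Agent.Tits.OfBN Cfsg.Agent.Schreier.BNSch
  Cfsg.Agent.LieExceptional.BNPairCore

section Card

variable {I : Type*} {M : CoxeterMatrix I} {W : Type*} [Group W] {cs : CoxeterSystem M W} {C : Type*}
  {Δ : Bldg cs C}

local prefix:100 "ℓ" => cs.length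

/-- rank two: the lengths are at most `M i j` -/
theorem length_le_two {i j : I} (hall : ∀ k, k = i ∨ k = j) (hM : M i j ≠ 0) (w : W) :
    ℓ w ≤ M i j := by
  have key : ∀ (a b : I), (∀ k, k = a ∨ k = b) → M a b = M i j → ∀ v : W, ℓ v < ℓ (v * cs.simple a) → v ≠ 1 →
      ℓ v < M i j := by
    intro a b hab hMab v h1 h2
    obtain ⟨k, hk⟩ := cs.exists_rightDescent_of_ne_one h2
    have hk' : ℓ (v * cs.simple k) < ℓ v := hk
    rcases hab k with rfl | rfl
    · omega
    obtain ⟨v', n, -, h4, -, h5, h6, h7⟩ := ChevalleyStructure.CoxeterFaithful.exists_decomp cs h1 hk'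
    have h8 : v' = 1 := by
      by_contra hv
      obtain ⟨k', hk2⟩ := cs.exists_rightDescent_of_ne_one hv
      have hk3 : ℓ (v' * cs.simple k') < ℓ v' := hk2
      rcases hab k' with rfl | rfl
      · omega
      · omega
    rw [h8, cs.length_one] at h4
    rcases h5 with h5 | h5
    · rw [hMab] at h5; exact absurd h5 hM
    · omega
  by_cases hw : w = 1
  · rw [hw, cs.length_one]; omega
  obtain ⟨k, hk⟩ := cs.exists_rightDescent_of_ne_one hw
  have hk' : ℓ (w * cs.simple k) < ℓ w := hk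
  have h1 : ℓ (w * cs.simple k) + 1 = ℓ w := by
    rcases cs.length_mul_simple w k with h | h <;> omega
  by_cases h2 : w * cs.simple k = 1
  · rw [h2, cs.length_one] at h1
    omega
  have h3 : ℓ (w * cs.simple k) < ℓ (w * cs.simple k * cs.simple k) := by
    rw [mul_assoc, cs.simple_mul_simple_self, mul_one]
    exact hk'
  rcases hall k with rfl | rfl
  · have := key k j hall rfl _ h3 h2
    omega
  · have := key k i (fun k' => (hall k').symm) (M.symmetric _ _) _ h3 h2
    omega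

/-- the number of chambers at given distance -/
theorem card_dist_le [Finite C] {r : ℕ} (hr : ∀ i c, Nat.card {y : C // Δ.δ c y = cs.simple i} ≤ r) (c : C) (w : W) :
    Nat.card {y : C // Δ.δ c y = w} ≤ r ^ ℓ w := by
  have key : ∀ n : ℕ, ∀ w : W, ℓ w = n → Nat.card {y : C // Δ.δ c y = w} ≤ r ^ n := by
    intro n
    induction n with
    | zero =>
      intro w hw
      rw [cs.length_eq_zero_iff] at hw
      subst hw
      have h1 : Subsingleton {y : C // Δ.δ c y = 1} := by
        constructor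
        rintro ⟨y, hy⟩ ⟨z, hz⟩
        exact Subtype.ext (((Δ.eq_one c y).1 hy).symm.trans ((Δ.eq_one c z).1 hz))
      rw [pow_zero]
      exact Finite.card_le_one_iff_subsingleton.2 h1
    | succ n ih =>
      intro w hw
      have hw1 : w ≠ 1 := by
        rintro rfl
        rw [cs.length_one] at hw
        omega
      obtain ⟨i, hi⟩ := cs.exists_rightDescent_of_ne_one hw1
      have hi' : ℓ (w * cs.simple i) < ℓ w := hi
      have h1 : ℓ (w * cs.simple i) = n := by
        rcases cs.length_mul_simple w i with h | h <;> omega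
      have h2 := ih _ h1
      have key2 : ∀ y : {y : C // Δ.δ c y = w}, ∃ z : {z : C // Δ.δ c z = w * cs.simple i}, Δ.δ (z : C) y =
          cs.simple i := by
        rintro ⟨y, hy⟩
        obtain ⟨z, hz1, hz2⟩ := Δ.exists_step c y i
        refine ⟨⟨z, by rw [hz2, hy]⟩, ?_⟩
        rw [Δ.symm y z, hz1, cs.inv_simple]
      choose f hf using key2
      have h3 : Nat.card {y : C // Δ.δ c y = w} ≤
          Nat.card (Σ z : {z : C // Δ.δ c z = w * cs.simple i}, {y : C // Δ.δ (z : C) y = cs.simple i}) := by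
        refine Nat.card_le_card_of_injective (fun y => ⟨f y, ⟨y, hf y⟩⟩) ?_
        intro y y' hyy
        have h4 := congrArg (fun q : (Σ z : {z : C // Δ.δ c z = w * cs.simple i},
          {y : C // Δ.δ (z : C) y = cs.simple i}) => (q.2 : C)) hyy
        exact Subtype.ext h4
      refine h3.trans ?_
      have : Fintype {z : C // Δ.δ c z = w * cs.simple i} := Fintype.ofFinite _
      rw [Nat.card_sigma]
      calc _ ≤ ∑ _z : {z : C // Δ.δ c z = w * cs.simple i}, r := Finset.sum_le_sum fun z _ => hr i z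
        _ = Nat.card {z : C // Δ.δ c z = w * cs.simple i} * r := by
          rw [Finset.sum_const, Finset.card_univ, smul_eq_mul, Nat.card_eq_fintype_card]
        _ ≤ r ^ n * r := Nat.mul_le_mul_right _ h2
        _ = r ^ (n + 1) := (pow_succ r n).symm
  exact key _ w rfl

/-- the order of `U c` -/
theorem card_U_le {G : Type*} [Group G] [MulAction G C] {p : ℕ} (S : Sys Δ G p) [Finite C] {r : ℕ}
    (hr : ∀ i c, Nat.card {y : C // Δ.δ c y = cs.simple i} ≤ r) (c : C) : Nat.card (S.U c) ≤ r ^ ℓ (w0 cs) := by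
  obtain ⟨y, hy⟩ := Δ.exists_δ c (w0 cs)
  refine le_trans ?_ (card_dist_le hr c (w0 cs))
  refine Nat.card_le_card_of_injective (fun u : S.U c => (⟨(u : G) • y, ?_⟩ : {y : C // Δ.δ c y = w0 cs})) ?_
  · have h1 := S.iso (u : G) c y
    rw [S.fix c u u.2, hy] at h1
    exact h1
  · intro u v huv
    have h1 : (u : G) • y = (v : G) • y := congrArg Subtype.val huv
    have h2 : ((v : G)⁻¹ * u) • y = y := by rw [mul_smul, h1, inv_smul_smul]
    have h3 := S.free c y hy _ (mul_mem (inv_mem v.2) u.2) h2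
    apply Subtype.ext
    rwa [inv_mul_eq_one, eq_comm] at h3

/-- `U c` is a Sylow subgroup -/
theorem pow_le_card_U {G : Type*} [Group G] [Finite G] [MulAction G C] {p : ℕ} [hp : Fact p.Prime] (S : Sys Δ G p)
    [F : OppRes.Cox cs] (hth : Δ.Thick) (c : C) {k : ℕ} (hk : p ^ k ∣ Nat.card G) : p ^ k ≤ Nat.card (S.U c) := by
  obtain ⟨V, hV⟩ := Sylow.exists_subgroup_card_pow_prime p hk
  have hVp : IsPGroup p V := IsPGroup.of_card hV
  obtain ⟨d, hd⟩ := S.exists_fix V hVp
  obtain ⟨g, rfl⟩ := exists_smul_top S hth c d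
  rw [← hV]
  refine Nat.card_le_card_of_injective (fun v : V => (⟨g⁻¹ * (v : G) * g, ?_⟩ : S.U c)) ?_
  · refine S.max c (V.map (MulAut.conj g⁻¹).toMonoidHom) (hVp.map _) ?_ ?_
    · rintro _ ⟨v, hv, rfl⟩
      have h1 := hd v hv
      simp only [MulEquiv.coe_toMonoidHom, MulAut.conj_apply, inv_inv]
      rw [mul_smul, mul_smul, h1, inv_smul_smul]
    · exact ⟨v, v.2, by simp only [_root_.map_inv, _root_.MulEquiv.toMonoidHom_eq_coe, _root_.MonoidHom.coe_coe, _root_.MulAut.inv_apply, _root_.MulAut.conj_symm_apply]⟩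
  · intro v w hvw
    have h1 : g⁻¹ * (v : G) * g = g⁻¹ * (w : G) * g := congrArg Subtype.val hvw
    exact Subtype.ext (mul_left_cancel (mul_right_cancel h1))

end Card

/-- **Split (B,N)-pairs with a nonempty proper invariant set of nodes.** -/
theorem not_nmc_of_split {H : Type*} [Group H] [Finite H] {K : Subgroup H} (hK : K.Normal) {p : ℕ} [Fact p.Prime]
    {P : Cfsg.BNPair K} {U : Subgroup K} (hP : Split P p U) {I : Type*} {M : CoxeterMatrix I} (e : I ≃ P.S)
    (hT : BNType P M e) {x : K} (hx : x ∈ U)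
    (hreg : ∀ i, ∀ V : Subgroup K, Node P U (e i : K) V → x ∉ V)
    (J : Set I) (hJn : J.Nonempty) (hJu : J ≠ Set.univ)
    (hJ : ∀ (σ : I → I) (N : I → ℕ), (∀ i j, M (σ i) (σ j) = M i j) → (∀ i, N (σ i) = N i) →
      (∀ i, ∀ V : Subgroup K, Node P U (e i : K) V → N i ≤ V.relIndex U) →
      (∀ r, (∀ i, N i ≤ r) → ∀ i j, (∀ k, k = i ∨ k = j) → ∀ k, p ^ k ∣ Nat.card K → p ^ k ≤ r ^ M i j) →
        ∀ i ∈ J, σ i ∈ J)
    {𝓐 : Finset (Subgroup H)} (h : NMC 𝓐) : False := by
  obtain ⟨hN, cs, hcs⟩ := hT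
  have hI : Finite I := OfBN.finite_I e
  have hth := thick P e cs hcs
  obtain ⟨A⟩ := exists_hact (OfBN.sys e cs hcs hP) hth (fun τ => UGT.U2.FOne.exists_mv hP e cs hcs τ)
  have hUc : (OfBN.sys e cs hcs hP).U (QuotientGroup.mk 1) = U := by
    ext y
    change y ∈ OfBN.UU P U (QuotientGroup.mk 1) ↔ _
    rw [OfBN.mem_UU hP]
    have h1 : (1 : K)⁻¹ * y * 1 = y := by group
    rw [h1]
  obtain ⟨Δ, hΔ, S, A, hth, hUc⟩ : ∃ (Δ : Bldg cs (K ⧸ P.B)) (_ : Δ = bldg P e cs hcs) (S : Sys Δ K p)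
      (_ : HAct Δ K), Δ.Thick ∧ S.U (QuotientGroup.mk 1) = U := ⟨_, rfl, _, A, hth, hUc⟩
  set c : K ⧸ P.B := QuotientGroup.mk 1 with hc
  have hcne : Nonempty (K ⧸ P.B) := ⟨c⟩
  -- the chambers adjacent to `c`
  have hadj : ∀ i y, Δ.δ c y = cs.simple i → ∃ u ∈ U, y = QuotientGroup.mk (u * (e i : K)) := by
    intro i y hy
    induction y using QuotientGroup.induction_on with
    | _ a =>
    have h1 : wt P a = cs.simple i := by
      rw [hc, hΔ, bldg_δ_mk, inv_one, one_mul] at hy
      exact hy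
    rw [hcs] at h1
    obtain ⟨b, hb, b', hb', h2⟩ := mem_C.1 (mem_C_of_wt _ h1)
    obtain ⟨u, hu, t, ht, rfl⟩ := hP.cover' hb
    refine ⟨u, hu, ?_⟩
    have h2' : a = u * t * (e i : K) * b' := h2
    have h3 := P.conj_mem (e i : K)⁻¹ (inv_mem (P.subset (e i).2)) _ ht
    rw [inv_inv] at h3
    have h4 : a = u * (e i : K) * ((e i : K)⁻¹ * t * (e i : K) * b') := by rw [h2']; group
    rw [h4]
    exact QuotientGroup.mk_mul_of_mem _ (mul_mem h3 hb')
  have hfix : ∀ i, ∀ u ∈ U, ∀ v ∈ U, v • (QuotientGroup.mk (u * (e i : K)) : K ⧸ P.B) =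
      QuotientGroup.mk (u * (e i : K)) → ∀ V : Subgroup K, Node P U (e i : K) V → v ∈ V := by
    intro i u hu v hv hfix V hV
    rw [OfBN.smul_mk_eq] at hfix
    have h1 : (e i : K)⁻¹ * (u⁻¹ * v * u) * (e i : K) ∈ P.B := by
      have : (e i : K)⁻¹ * (u⁻¹ * v * u) * (e i : K) = (u * (e i : K))⁻¹ * v * (u * (e i : K)) := by group
      rwa [this]
    have h2 := hV.stab _ (mul_mem (mul_mem (inv_mem hu) hv) hu) h1
    have h3 := hV.conj_B u (hP.le hu) _ h2
    have : u * (u⁻¹ * v * u) * u⁻¹ = v := by group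
    rwa [this] at h3
  have hreg' : ∀ i y, Δ.δ c y = cs.simple i → x • y ≠ y := by
    intro i y hy hxy
    obtain ⟨u, hu, rfl⟩ := hadj i y hy
    obtain ⟨V, hV⟩ := hP.node (e i) (e i).2
    exact hreg i V hV (hfix i u hu x hx hxy V hV)
  have hx' : x ∈ S.U c := by rw [hUc]; exact hx
  -- the numbers of adjacent chambers
  have hNc : ∀ i d, Nat.card {y // Δ.δ d y = cs.simple i} = Nat.card {y // Δ.δ c y = cs.simple i} := by
    intro i d
    obtain ⟨g, hg⟩ := exists_smul_top S hth d c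
    have hiso : ∀ a b, Δ.δ (g • a) (g • b) = Δ.δ a b := fun a b => S.iso g a b
    refine Nat.card_congr (Equiv.subtypeEquiv (MulAction.toPerm g) fun y => ?_)
    rw [MulAction.toPerm_apply, ← hg, hiso]
  refine not_nmc A S hth hx' hreg' (J := J) (fun g i hi => ?_) hJn hJu h
  refine hJ (A.σ g) (fun i => Nat.card {y // Δ.δ c y = cs.simple i}) ?_ ?_ ?_ ?_ i hi
  · intro i j
    rw [← Generic.orderOf_eq cs, ← Generic.orderOf_eq cs, ← A.φ_simple, ← A.φ_simple, ← map_mul]
    exact MulEquiv.orderOf_eq _ _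
  · intro i
    rw [← hNc (A.σ g i) (A.θ g c)]
    refine Nat.card_congr (Equiv.subtypeEquiv (Equiv.mk (A.θ g⁻¹) (A.θ g) (A.θ_θ_inv g) (A.θ_inv_θ g)) fun y => ?_)
    change _ ↔ Δ.δ c (A.θ g⁻¹ y) = _
    have h1 := A.δ_θ g c (A.θ g⁻¹ y)
    rw [A.θ_θ_inv] at h1
    rw [h1, ← A.φ_simple]
    exact (A.φ g).injective.eq_iff
  · intro i V hV
    have h1 : ∀ y : {y // Δ.δ c y = cs.simple i}, ∃ u ∈ U, (y : K ⧸ P.B) = QuotientGroup.mk (u * (e i : K)) :=
      fun y => hadj i y y.2
    choose f hf1 hf2 using h1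
    have h2 : Nat.card {y // Δ.δ c y = cs.simple i} ≤ Nat.card (↥U ⧸ V.subgroupOf U) := by
      refine Nat.card_le_card_of_injective (fun y => (QuotientGroup.mk (⟨f y, hf1 y⟩ : ↥U) : ↥U ⧸ V.subgroupOf U)) ?_
      intro y z hyz
      rw [QuotientGroup.eq, mem_subgroupOf] at hyz
      have h3 : (f y)⁻¹ * f z ∈ V := hyz
      have h4 := hP.le (hV.le (hV.conj_s _ h3))
      apply Subtype.ext
      rw [hf2 y, hf2 z, OfBN.mk_eq]
      have : (f y * (e i : K))⁻¹ * (f z * (e i : K)) = (e i : K)⁻¹ * ((f y)⁻¹ * f z) * (e i : K) := by group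
      rwa [this]
    exact h2
  · intro r hr a b hab k hk
    have h1 := (pow_le_card_U S hth c hk).trans (card_U_le S (r := r) (fun i d => by rw [hNc]; exact hr i) c)
    have h2 : M a b ≠ 0 := by
      rw [← Generic.orderOf_eq cs]
      exact (orderOf_pos _).ne'
    have h3 := length_le_two (cs := cs) hab h2 (w0 cs)
    refine h1.trans (Nat.pow_le_pow_right ?_ h3)
    obtain ⟨y, -, -, hy, -⟩ := hth c a
    have h4 : 0 < Nat.card {y // Δ.δ c y = cs.simple a} := Nat.card_pos_iff.2 ⟨⟨⟨y, hy⟩⟩, inferInstance⟩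
    exact h4.trans_le (hr a)

end Cfsg.Agent.H480.Fr
end
end

-- part: H480/SplitTwo
section
set_option linter.all false
open scoped Cfsg.Agent.FastGrp

/-!
# Nilpotent minimal covers: split (B,N)-pairs of rank two with different parameters (helper480, S3925, S3926)
-/

set_option autoImplicit false
set_option linter.unusedSectionVars false

namespace Cfsg.Agent.H480.Fr

open Cfsg.Agent.Tits.Core Cfsg.Agent.FixBN Subgroup Cfsg.Agent.Schreier.BNSch

universe u v

/-- the group `V` of a node is determined by the node -/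
theorem node_unique {K : Type*} [Group K] {P : Cfsg.BNPair K} {U V V' : Subgroup K} {s : K} (hUB : U ≤ P.B)
    (h : Node P U s V) (h' : Node P U s V') : V = V' :=
  le_antisymm (fun v hv => h'.stab v (h.le hv) (hUB (h.le (h.conj_s v hv))))
    (fun v hv => h.stab v (h'.le hv) (hUB (h'.le (h'.conj_s v hv))))

/-- a group is not the union of two proper subgroups -/
theorem exists_not_mem_two {K : Type*} [Group K] {U V V' : Subgroup K} (h : ∃ u ∈ U, u ∉ V) (h' : ∃ u ∈ U, u ∉ V') :
    ∃ u ∈ U, u ∉ V ∧ u ∉ V' := by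
  obtain ⟨a, ha, haV⟩ := h
  obtain ⟨b, hb, hbV⟩ := h'
  by_cases h1 : a ∈ V'
  · by_cases h2 : b ∈ V
    · refine ⟨a * b, U.mul_mem ha hb, fun h3 => haV ?_, fun h3 => hbV ?_⟩
      · have := V.mul_mem h3 (V.inv_mem h2)
        rwa [mul_inv_cancel_right] at this
      · have := V'.mul_mem (V'.inv_mem h1) h3
        rwa [inv_mul_cancel_left] at this
    · exact ⟨b, hb, h2, hbV⟩
  · exact ⟨a, ha, haV, h1⟩

theorem node_comap {K L : Type*} [Group K] [Group L] (e : K ≃* L) {P : Cfsg.BNPair K} {U : Subgroup K} {s : K}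
    {V : Subgroup K} (h : Node P U s V) :
    Node (Transport.mapBN e P) (U.map e.toMonoidHom) (e s) (V.map e.toMonoidHom) where
  le := Subgroup.map_mono h.le
  ne := by
    obtain ⟨u, hu, huV⟩ := h.ne
    refine ⟨e u, ⟨u, hu, rfl⟩, ?_⟩
    rw [Subgroup.mem_map_equiv]
    simpa using huV
  conj_B := by
    intro b hb v hv
    change b ∈ P.B.map e.toMonoidHom at hb
    rw [Subgroup.mem_map_equiv] at hb hv ⊢
    simpa using h.conj_B _ hb _ hv
  conj_s := by
    intro v hv
    rw [Subgroup.mem_map_equiv] at hv ⊢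
    simpa using h.conj_s _ hv
  stab := by
    intro u hu hB
    change _ ∈ P.B.map e.toMonoidHom at hB
    rw [Subgroup.mem_map_equiv] at hu hB ⊢
    exact h.stab _ hu (by simpa using hB)

/-- **Rank two, different parameters.** -/
theorem row_of_split {S : Type v} [Group S] [Finite S] {p : ℕ} [hp : Fact p.Prime] {P : Cfsg.BNPair S}
    {U : Subgroup S} (hP : Split P p U) {s t : S} (hS : P.S = {s, t}) (hst : s ≠ t) {V : Subgroup S}
    (hV : Node P U s V) {r k : ℕ} (hr : V.relIndex U ≤ r) (hk : p ^ k ∣ Nat.card S) (hlt : r ^ 8 < p ^ k) :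
    Row.{u} S := by
  intro G _ _ K hK hs hna hc hcyc f 𝓐 hA
  have hP' := Transport.split f P hP
  set P' := Transport.mapBN f P with hP'def
  have hS' : P'.S = {f s, f t} := by
    change f '' P.S = _
    rw [hS, Set.image_pair]
  have hsS : f s ∈ P'.S := by rw [hS']; exact Set.mem_insert _ _
  have htS : f t ∈ P'.S := by rw [hS']; exact Set.mem_insert_of_mem _ rfl
  obtain ⟨M, hM⟩ := Tits.Labels.exists_bnType (P := P')
  obtain ⟨Vs, hVs⟩ := hP'.node _ hsS
  obtain ⟨Vt, hVt⟩ := hP'.node _ htS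
  obtain ⟨x, hx, hxs, hxt⟩ := exists_not_mem_two hVs.ne hVt.ne
  have hall : ∀ i : P'.S, i = ⟨f s, hsS⟩ ∨ i = ⟨f t, htS⟩ := by
    rintro ⟨i, hi⟩
    have h1 := hi
    rw [hS'] at h1
    rcases h1 with rfl | h1
    · exact Or.inl rfl
    · rw [Set.mem_singleton_iff] at h1
      subst h1
      exact Or.inr rfl
  have hne : (⟨f s, hsS⟩ : P'.S) ≠ ⟨f t, htS⟩ := fun h => hst (f.injective (congrArg Subtype.val h))
  have hK : K.Normal := hK
  refine not_nmc_of_split hK hP' (Equiv.refl P'.S) hM hx ?_ {⟨f s, hsS⟩} ⟨_, rfl⟩ ?_ ?_ hA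
  · intro i V' hV'
    rcases hall i with rfl | rfl
    · rw [node_unique hP'.le hV' hVs]; exact hxs
    · rw [node_unique hP'.le hV' hVt]; exact hxt
  · intro h1
    have h2 : (⟨f t, htS⟩ : P'.S) ∈ ({⟨f s, hsS⟩} : Set P'.S) := by rw [h1]; trivial
    exact hne (Set.mem_singleton_iff.1 h2).symm
  · intro σ N h1 h2 h3 h4 i hi
    rw [Set.mem_singleton_iff] at hi ⊢
    subst hi
    by_contra hne2
    have h5 : N ⟨f s, hsS⟩ ≤ r := by
      refine (h3 ⟨f s, hsS⟩ (V.map f.toMonoidHom) (node_comap f hV)).trans (le_trans (le_of_eq ?_) hr)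
      exact relIndex_map_map_of_injective V U f.injective
    have h6 : ∀ i, N i ≤ r := by
      intro i
      have h7 : i = ⟨f s, hsS⟩ ∨ i = σ ⟨f s, hsS⟩ := by
        rcases hall i with h | h
        · exact Or.inl h
        · rcases hall (σ ⟨f s, hsS⟩) with h' | h'
          · exact absurd h' hne2
          · exact Or.inr (h.trans h'.symm)
      rcases h7 with rfl | rfl
      · exact h5
      · rw [h2]; exact h5
    have h7 := h4 r h6 ⟨f s, hsS⟩ ⟨f t, htS⟩ hall k (by rw [← Nat.card_congr f.toEquiv]; exact hk)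
    have hfin : Finite K := inferInstance
    have h8 : M ⟨f s, hsS⟩ ⟨f t, htS⟩ ≤ 8 := by
      have := Tits.Labels.labels hM hne
      omega
    have h9 : 0 < r := by
      rcases Nat.eq_zero_or_pos r with rfl | h
      · exfalso
        have h10 : V.relIndex U = 0 := Nat.le_zero.1 hr
        rw [relIndex] at h10
        exact (V.subgroupOf U).index_ne_zero_of_finite h10
      · exact h
    have h10 := Nat.pow_le_pow_right h9 h8
    omega

end Cfsg.Agent.H480.Fr
end

-- part: H480/FrameRgd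
section
set_option linter.all false
open scoped Cfsg.Agent.FastGrp

/-!
# Nilpotent minimal covers: root group data with a proper invariant set of nodes (helper480, S3925, S3926)
-/

set_option autoImplicit false
set_option linter.unusedSectionVars false

namespace Cfsg.Agent.H480.Fr

open CoxeterSystem Cfsg.Agent.ChevalleyStructure.CoxeterGeom Cfsg.Agent.Tits.Roots Cfsg.Agent.Tits.Core
  Cfsg.Agent.Tits.RootComb Cfsg.Agent.Nodes.Comb Cfsg.Agent.Nodes.Reps Cfsg.Agent.Nodes.BNOf Cfsg.Agent.FixBN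
  Cfsg.Agent.Omega.ML.Ex.Typ Subgroup Cfsg.Agent.Schreier.BNSch

section

variable {I W Y : Type*} [Fintype I] [DecidableEq I] [Group W] [Group Y] {M : CoxeterMatrix I}
  {cs : CoxeterSystem M W} {A : I → I → ℤ} {h : IsCartan M A} {p : ℕ} {T : Subgroup Y} {n : I → Y}
  {X : (I → ℤ) → Subgroup Y}

/-- the regular unipotent elements -/
theorem exists_regular [Finite W] (R : RGD cs h p T n X) (hgen : RGD.B cs h T X ⊔ NN cs R.nsys = ⊤) :
    ∃ x ∈ RGD.Sup X (RGD.Pos cs h), ∀ i, x ∉ RGD.Sup X (RGD.PosNe cs h i) := by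
  have h1 : ∀ i, ∃ x ∈ X (sr i), x ∉ RGD.Sup X (RGD.PosNe cs h i) := by
    intro i
    by_contra hcon
    push Not at hcon
    obtain ⟨u, hu, huV⟩ := (NodeRGD.node R hgen i).ne
    apply huV
    rw [R.Upos_eq i] at hu
    have h2 : X (sr i) ⊔ RGD.Sup X (RGD.PosNe cs h i) ≤ RGD.Sup X (RGD.PosNe cs h i) := sup_le hcon le_rfl
    exact h2 hu
  choose x hx hxV using h1
  have hle : ∀ i, X (sr i) ≤ RGD.Sup X (RGD.Pos cs h) := fun i =>
    RGD.le_Sup (X := X) (S := RGD.Pos cs h) ⟨isRoot_sr cs h i, sr_nonneg i⟩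
  refine ⟨((Finset.univ : Finset I).toList.map x).prod, ?_, ?_⟩
  · apply list_prod_mem
    intro y hy
    obtain ⟨i, -, rfl⟩ := List.mem_map.1 hy
    exact hle i (hx i)
  · intro i hi
    have hmem : i ∈ (Finset.univ : Finset I).toList := by simp
    have hnd := (Finset.univ : Finset I).nodup_toList
    obtain ⟨l₁, l₂, h2⟩ := List.append_of_mem hmem
    rw [h2] at hi hnd
    have h3 : ∀ j ∈ l₁ ++ l₂, j ≠ i := by
      intro j hj hji
      subst hji
      rw [List.nodup_middle] at hnd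
      exact (List.nodup_cons.1 hnd).1 hj
    have h4 : ∀ j, j ≠ i → x j ∈ RGD.Sup X (RGD.PosNe cs h i) := by
      intro j hj
      have h5 : sr j ∈ RGD.PosNe cs h i := ⟨isRoot_sr cs h j, sr_nonneg j, fun h6 => by
        have h7 := congrFun h6 j
        rw [sr_self] at h7
        have h8 : (sr i : I → ℤ) j = 0 := by
          unfold sr
          exact Pi.single_eq_of_ne hj 1
        rw [h8] at h7
        exact absurd h7 (by decide)⟩
      exact RGD.le_Sup (X := X) (S := RGD.PosNe cs h i) h5 (hx j)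
    have h5 : ∀ l : List I, (∀ j ∈ l, j ≠ i) → (l.map x).prod ∈ RGD.Sup X (RGD.PosNe cs h i) := by
      intro l hl
      apply list_prod_mem
      intro y hy
      obtain ⟨j, hj, rfl⟩ := List.mem_map.1 hy
      exact h4 j (hl j hj)
    have h6 := h5 l₁ (fun j hj => h3 j (List.mem_append_left _ hj))
    have h7 := h5 l₂ (fun j hj => h3 j (List.mem_append_right _ hj))
    rw [List.map_append, List.map_cons, List.prod_append, List.prod_cons] at hi
    apply hxV i
    have h8 := mul_mem (mul_mem (inv_mem h6) hi) (inv_mem h7)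
    have h9 : (l₁.map x).prod⁻¹ * ((l₁.map x).prod * (x i * (l₂.map x).prod)) * (l₂.map x).prod⁻¹ = x i := by
      group
    rwa [h9] at h8

theorem relIndex_le [Finite Y] (R : RGD cs h p T n X) (i : I) :
    (RGD.Sup X (RGD.PosNe cs h i)).relIndex (RGD.Sup X (RGD.Pos cs h)) ≤ Nat.card (X (sr i)) := by
  have hle : X (sr i) ≤ RGD.Sup X (RGD.Pos cs h) :=
    RGD.le_Sup (X := X) (S := RGD.Pos cs h) ⟨isRoot_sr cs h i, sr_nonneg i⟩
  rw [relIndex]
  refine Nat.card_le_card_of_surjective (fun y : X (sr i) => (QuotientGroup.mk (⟨y, hle y.2⟩ :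
    ↥(RGD.Sup X (RGD.Pos cs h))) : _ ⧸ (RGD.Sup X (RGD.PosNe cs h i)).subgroupOf (RGD.Sup X (RGD.Pos cs h)))) ?_
  intro q
  induction q using QuotientGroup.induction_on with
  | _ u =>
  obtain ⟨u, hu⟩ := u
  have h1 : u ∈ X (sr i) ⊔ RGD.Sup X (RGD.PosNe cs h i) := by rw [← R.Upos_eq i]; exact hu
  have h2 : u ∈ ((X (sr i) ⊔ RGD.Sup X (RGD.PosNe cs h i) : Subgroup Y) : Set Y) := h1
  rw [Subgroup.coe_mul_of_left_le_normalizer_right _ _ (R.X_le_normalizer_V i)] at h2
  obtain ⟨y, hy, v, hv, rfl⟩ := Set.mem_mul.1 h2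
  refine ⟨⟨y, hy⟩, ?_⟩
  rw [QuotientGroup.eq, mem_subgroupOf]
  change y⁻¹ * (y * v) ∈ _
  rw [inv_mul_cancel_left]
  exact hv

end

/-- **Root group data with a nonempty proper invariant set of nodes.** -/
theorem not_nmc_of_rgd {H : Type*} [Group H] [Finite H] {K : Subgroup H} (hK : K.Normal) [IsSimpleGroup K] {p : ℕ}
    [hp : Fact p.Prime] {I W : Type*} [Fintype I] [DecidableEq I] [Nonempty I] [Group W] [Finite W]
    {M : CoxeterMatrix I} {cs : CoxeterSystem M W} {A : I → I → ℤ} {h : IsCartan M A} {T : Subgroup K} {n : I → K}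
    {X : (I → ℤ) → Subgroup K} (R : RGD cs h p T n X) (hG1 : Nodes.RGDLib.G1 cs h X = ⊤)
    (J : Set I) (hJn : J.Nonempty) (hJu : J ≠ Set.univ)
    (hJ : ∀ (σ : I → I) (N : I → ℕ), (∀ i j, M (σ i) (σ j) = M i j) → (∀ i, N (σ i) = N i) →
      (∀ i, N i ≤ Nat.card (X (sr i))) →
      (∀ r, (∀ i, N i ≤ r) → ∀ i j, (∀ k, k = i ∨ k = j) → ∀ k, p ^ k ∣ Nat.card K → p ^ k ≤ r ^ M i j) →
        ∀ i ∈ J, σ i ∈ J)
    {𝓐 : Finset (Subgroup H)} (hA : NMC 𝓐) : False := by
  have hgen : RGD.B cs h T X ⊔ NN cs R.nsys = ⊤ := by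
    rw [eq_top_iff, ← hG1]
    exact Nodes.RGDLib.rgd_G1_le R
  obtain ⟨i₀⟩ := (inferInstance : Nonempty I)
  have hne : (R.bnPair hgen).S.Nonempty := ⟨n i₀, i₀, rfl⟩
  have hP := SplitRGD.split_of_rgd hp.1 R hgen (Cfsg.Agent.Tits.OfBN.normalCore_eq_bot (R.bnPair hgen) hne)
  obtain ⟨e, hen, hT⟩ : ∃ e : I ≃ (R.bnPair hgen).S, (∀ i, (e i : K) = n i) ∧ BNType (R.bnPair hgen) M e :=
    ⟨Equiv.ofInjective n R.n_injective, fun _ => rfl, bnType R hgen⟩
  obtain ⟨x, hx, hxV⟩ := exists_regular R hgen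
  have huni : ∀ i, ∀ V : Subgroup K, Node (R.bnPair hgen) (RGD.Sup X (RGD.Pos cs h)) (e i : K) V →
      V = RGD.Sup X (RGD.PosNe cs h i) := by
    intro i V hV
    have h1 := NodeRGD.node R hgen i
    rw [hen] at hV
    apply le_antisymm
    · intro v hv
      exact h1.stab v (hV.le hv) (RGD.U_le_B (hV.le (hV.conj_s v hv)))
    · intro v hv
      exact hV.stab v (h1.le hv) (RGD.U_le_B (h1.le (h1.conj_s v hv)))
  refine not_nmc_of_split hK hP e hT hx (fun i V hV => by rw [huni i V hV]; exact hxV i) J hJn hJu ?_ hA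
  intro σ N h1 h2 h3 h4
  refine hJ σ N h1 h2 (fun i => ?_) h4
  refine (h3 i (RGD.Sup X (RGD.PosNe cs h i)) ?_).trans (relIndex_le R i)
  rw [hen]
  exact NodeRGD.node R hgen i

/-- the nodes with at most one neighbour -/
def Leaf {I : Type*} (M : CoxeterMatrix I) (i : I) : Prop := ∃ j, ∀ k, k ≠ i → M i k ≠ 2 → k = j

theorem Leaf.map {I : Type*} [Finite I] {M : CoxeterMatrix I} {σ : I → I} (hσ : ∀ i j, M (σ i) (σ j) = M i j) {i : I}
    (hi : Leaf M i) : Leaf M (σ i) := by
  have hinj : Function.Injective σ := by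
    intro i j e
    by_contra hij
    have h1 := hσ i j
    rw [e, M.diagonal] at h1
    exact M.off_diagonal i j hij h1.symm
  obtain ⟨j, hj⟩ := hi
  refine ⟨σ j, fun k hk hM => ?_⟩
  obtain ⟨k', rfl⟩ := (Finite.injective_iff_surjective.1 hinj) k
  rw [hσ] at hM
  rw [hj k' (fun h => hk (by rw [h])) hM]

/-- **Rank at least three**: the leaves form a nonempty proper invariant set. -/
theorem not_nmc_of_hasRGDT {H : Type*} [Group H] [Finite H] {K : Subgroup H} (hK : K.Normal) [IsSimpleGroup K] {p : ℕ}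
    [hp : Fact p.Prime] {l : ℕ} {M : CoxeterMatrix (Fin l)} (hR : HasRGDT p M K)
    {i j : Fin l} (hi : Leaf M i) (hj : ¬ Leaf M j)
    {𝓐 : Finset (Subgroup H)} (hA : NMC 𝓐) : False := by
  obtain ⟨A, h, T, n, X, hW, R, hG1⟩ := hR
  have hne : Nonempty (Fin l) := ⟨i⟩
  refine not_nmc_of_rgd hK R hG1 {i | Leaf M i} ⟨i, hi⟩ (fun h => hj ?_) (fun σ N h1 _ _ _ i hi => ?_) hA
  · have : j ∈ {i | Leaf M i} := by rw [h]; trivial
    exact this
  · exact Leaf.map h1 hi

end Cfsg.Agent.H480.Fr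
end

-- part: H480/RowPslTwo_mg
section
prune_inst 0xd00013200600100000000000800000100000000000400000080000040000800000000040000010101008000000000000000000800000000000000000000100000000000400000000000000000000000000000000000000000000000000000000000000000
set_option linter.all false
open scoped Cfsg.Agent.FastGrp

-- part: H480/PslTwoC
section
/-!
# Nilpotent minimal covers: `PSL₂(q)`, `q - 1` a power of two (helper480, S3925, S3926)
-/

set_option autoImplicit false

namespace Cfsg.Agent.H480.PslTwo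

open Subgroup Matrix
open Cfsg.Agent.ClassicalGeometry.AutPSL.Root Cfsg.Agent.ClassicalGeometry.AutPSL.Auto
  Cfsg.Agent.ClassicalGeometry.AutPSL.Main
open Cfsg.Agent.ClassicalGeometry.AutPSL.SylowU

universe u v

variable {F : Type v} [Field F]

/-- an eigenvalue in the field -/
theorem exists_eigen [Fintype F] {Y : Matrix.SpecialLinearGroup (Fin 2) F} (hY : Y ^ (Fintype.card F - 1) = 1) :
    ∃ l : F, l ^ 2 - (Y 0 0 + Y 1 1) * l + 1 = 0 := by
  classical
  have h1 : (Y.1 : Matrix (Fin 2) (Fin 2) F) ^ Fintype.card F = Y.1 := by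
    have h2 : Y ^ Fintype.card F = Y := by
      have h3 : Fintype.card F = Fintype.card F - 1 + 1 := by
        have := Fintype.card_pos (α := F)
        omega
      rw [h3, pow_succ, hY, one_mul]
    have h4 : (Y ^ Fintype.card F).1 = Y.1 := congrArg Subtype.val h2
    exact (Matrix.SpecialLinearGroup.coe_pow Y _).symm.trans h4
  let φ : Polynomial F →* F := (Matrix.detMonoidHom (n := Fin 2) (R := F)).comp
    ((Polynomial.aeval (Y.1 : Matrix (Fin 2) (Fin 2) F) : Polynomial F →ₐ[F] _) : Polynomial F →* _)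
  have hφ : φ (Polynomial.X ^ Fintype.card F - Polynomial.X) = 0 := by
    change Matrix.det (Polynomial.aeval (Y.1 : Matrix (Fin 2) (Fin 2) F) (Polynomial.X ^ Fintype.card F - Polynomial.X)) = 0
    rw [map_sub, map_pow, Polynomial.aeval_X, h1, sub_self, det_zero]
  have hprod : (Polynomial.X ^ Fintype.card F - Polynomial.X : Polynomial F) =
      ∏ a : F, (Polynomial.X - Polynomial.C a) := by
    have hm : (Polynomial.X ^ Fintype.card F - Polynomial.X : Polynomial F).Monic :=
      Polynomial.monic_X_pow_sub (by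
        rw [Polynomial.degree_X]
        exact_mod_cast Fintype.one_lt_card)
    have h2 := Polynomial.prod_multiset_X_sub_C_of_monic_of_roots_card_eq hm (by
      rw [FiniteField.roots_X_pow_card_sub_X, FiniteField.X_pow_card_sub_X_natDegree_eq F Fintype.one_lt_card]
      rfl)
    rw [FiniteField.roots_X_pow_card_sub_X] at h2
    exact h2.symm
  rw [hprod, map_prod, Finset.prod_eq_zero_iff] at hφ
  obtain ⟨l, -, hl⟩ := hφ
  refine ⟨l, ?_⟩
  change Matrix.det (Polynomial.aeval (Y.1 : Matrix (Fin 2) (Fin 2) F) (Polynomial.X - Polynomial.C l)) = 0 at hl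
  rw [map_sub, Polynomial.aeval_X, Polynomial.aeval_C, det_fin_two] at hl
  have hdet := det2 Y
  simp only [Matrix.algebraMap_matrix_apply, _root_.Fin.isValue, _root_.Matrix.sub_apply, _root_.Matrix.algebraMap_matrix_apply, ↓ _root_.reduceIte, _root_.Algebra.algebraMap_self, _root_.RingHom.id_apply, _root_.zero_ne_one, _root_.sub_zero, _root_.one_ne_zero] at hl
  linear_combination hl - hdet

/-- an element with an eigenvalue is conjugate to an upper triangular matrix -/
theorem exists_conj {Y : Matrix.SpecialLinearGroup (Fin 2) F} {l : F} (hl : l ^ 2 - (Y 0 0 + Y 1 1) * l + 1 = 0) :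
    ∃ h : Matrix.SpecialLinearGroup (Fin 2) F, (h⁻¹ * Y * h : Matrix.SpecialLinearGroup (Fin 2) F) 1 0 = 0 := by
  by_cases hc : Y 1 0 = 0
  · exact ⟨1, by rw [inv_one, one_mul, mul_one, hc]⟩
  · have hdet := det2 Y
    obtain ⟨h, h00, h01, h10, h11⟩ : ∃ h : Matrix.SpecialLinearGroup (Fin 2) F,
        h 0 0 = (l - Y 1 1) / Y 1 0 ∧ h 0 1 = -1 ∧ h 1 0 = 1 ∧ h 1 1 = 0 :=
      ⟨⟨!![(l - Y 1 1) / Y 1 0, -1; 1, 0], by simp [det_fin_two]⟩, rfl, rfl, rfl, rfl⟩
    refine ⟨h, ?_⟩
    simp only [coe_mul', inv10, inv11, h00, h10]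
    field_simp
    linear_combination hl + hdet

/-- a nilpotent subgroup meeting `U` is in `U` -/
theorem le_of_meet {S : Type*} [Group S] {U : Subgroup S} (hU : ∀ w ∈ U, w ≠ 1 → ∀ g, g * w = w * g → g ∈ U)
    {A : Subgroup S} (hA : Group.IsNilpotent ↥A) {u : S} (hu : u ∈ A) (huU : u ∈ U) (hu1 : u ≠ 1) : A ≤ U := by
  have hnt : Nontrivial ↥A := ⟨⟨⟨u, hu⟩, 1, fun h => hu1 (congrArg Subtype.val h)⟩⟩
  have h1 := Group.IsNilpotent.center_ne_bot ↥A
  obtain ⟨⟨z, hz⟩, hz1⟩ := Subgroup.ne_bot_iff_exists_ne_one.1 h1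
  have hzc := mem_center_iff.1 hz
  have hz1' : (z : S) ≠ 1 := fun h => hz1 (Subtype.ext (Subtype.ext h))
  have hzU : (z : S) ∈ U := hU u huU hu1 _ (congrArg Subtype.val (hzc ⟨u, hu⟩)).symm
  intro a ha
  exact hU z hzU hz1' a (congrArg Subtype.val (hzc ⟨a, ha⟩))

/-- a self-centralising subgroup is a member -/
theorem member_of_cc {S : Type*} [Group S] {U : Subgroup S}
    (hU : ∀ w ∈ U, w ≠ 1 → ∀ g, g * w = w * g → g ∈ U) (hU1 : ∃ u ∈ U, u ≠ 1) (hUt : U ≠ ⊤)
    {𝓐 : Finset (Subgroup S)} (h : NMC 𝓐) : U ∈ 𝓐 := by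
  obtain ⟨u, hu, hu1⟩ := hU1
  obtain ⟨A, hA, huA⟩ := h.cov.2 u
  have hAU := le_of_meet hU (h.nil A hA) huA hu hu1
  have hUA : U ≤ A := by
    intro v hv
    by_cases hv1 : v = 1
    · rw [hv1]
      exact one_mem _
    · obtain ⟨B, hB, hvB⟩ := h.cov.2 v
      rw [h.eq_of_le hA hB hUt hAU (le_of_meet hU (h.nil B hB) hvB hv hv1)]
      exact hvB
  rw [le_antisymm hUA hAU]
  exact hA

theorem two_pow_card {F : Type v} [Field F] [Fintype F] (p : ℕ) [hp : Fact p.Prime] [CharP F p] {k : ℕ}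
    (hk : Fintype.card F - 1 = 2 ^ k) (h5 : 5 ≤ Fintype.card F) {Y : Matrix.SpecialLinearGroup (Fin 2) F} {j : ℕ}
    (hY : Y ^ 2 ^ j = 1) : Y ^ (Fintype.card F - 1) = 1 := by
  have hk2 : 2 ≤ k := by
    by_contra h
    have h1 : k = 0 ∨ k = 1 := by omega
    rcases h1 with rfl | rfl
    · norm_num at hk; omega
    · norm_num at hk; omega
  obtain ⟨k, rfl⟩ := Nat.exists_eq_add_of_le hk2
  have hsq : Y ^ 2 = 1 → Y ^ (Fintype.card F - 1) = 1 := by
    intro h
    rw [hk, pow_add, pow_mul, show 2 ^ 2 = 2 * 2 from rfl, pow_mul, h, one_pow, one_pow]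
  rcases ClassicalGeometry.SL2Order.pow_cases rfl p Y with h | h | h
  · exact h
  · apply hsq
    have h1 := Nat.dvd_gcd (orderOf_dvd_of_pow_eq_one hY) (orderOf_dvd_of_pow_eq_one h)
    apply orderOf_dvd_iff_pow_eq_one.1
    refine h1.trans ?_
    have h2 : Fintype.card F + 1 = 2 * (2 * 2 ^ k + 1) := by
      have : Fintype.card F = 2 ^ (2 + k) + 1 := by omega
      rw [this, pow_add]
      ring
    rw [h2]
    have h3 : (2 ^ j).Coprime (2 * 2 ^ k + 1) := Nat.Coprime.pow_left j (by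
      rw [Nat.coprime_two_left]
      exact ⟨_, rfl⟩)
    exact (Nat.Coprime.coprime_dvd_left (Nat.gcd_dvd_left _ _) h3).dvd_of_dvd_mul_right (Nat.gcd_dvd_right _ _)
  · apply hsq
    have h1 := Nat.dvd_gcd (orderOf_dvd_of_pow_eq_one hY) (orderOf_dvd_of_pow_eq_one h)
    apply orderOf_dvd_iff_pow_eq_one.1
    refine h1.trans ?_
    have hp2 : p ≠ 2 := by
      rintro rfl
      obtain ⟨n, -, hn⟩ := FiniteField.card F 2
      have h2 : Even (Fintype.card F) := by
        rw [hn]
        exact Nat.even_pow.2 ⟨even_two, n.pos.ne'⟩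
      have h3 : Even (Fintype.card F - 1) := by
        rw [hk, pow_add]
        exact ⟨2 * 2 ^ k, by ring⟩
      obtain ⟨a, ha⟩ := h2
      obtain ⟨b, hb⟩ := h3
      omega
    have h3 : (2 ^ j).Coprime p := Nat.Coprime.pow_left j (by
      rw [Nat.coprime_two_left]
      exact hp.1.odd_of_ne_two hp2)
    exact (Nat.Coprime.coprime_dvd_left (Nat.gcd_dvd_left _ _) h3).dvd_of_dvd_mul_right (Nat.gcd_dvd_right _ _)

/-- **`PSL₂(q)`, `q - 1` a power of two.** -/
theorem not_nmc_psl [Fintype F] {k : ℕ} (hk : Fintype.card F - 1 = 2 ^ k) (h5 : 5 ≤ Fintype.card F)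
    {𝓐 : Finset (Subgroup (Matrix.ProjectiveSpecialLinearGroup (Fin 2) F))} (hA : NMC 𝓐) : False := by
  classical
  obtain ⟨p, hp⟩ := CharP.exists F
  have hpf : Fact p.Prime := ⟨CharP.char_is_prime F p⟩
  obtain ⟨P, hP⟩ := exists_sylow (F := F) 2 p
  have hk2 : 2 ≤ k := by
    by_contra h
    have h1 : k = 0 ∨ k = 1 := by omega
    rcases h1 with rfl | rfl
    · norm_num at hk; omega
    · norm_num at hk; omega
  have hPc : ∀ w ∈ (P : Subgroup (Matrix.ProjectiveSpecialLinearGroup (Fin 2) F)), w ≠ 1 → ∀ g, g * w = w * g →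
      g ∈ (P : Subgroup (Matrix.ProjectiveSpecialLinearGroup (Fin 2) F)) := by
    intro w hw hw1 g hg
    rw [hP] at hw ⊢
    obtain ⟨s, rfl⟩ := mem_map_upper.1 hw
    obtain ⟨g, rfl⟩ := pr_surjective g
    obtain ⟨t, ht⟩ := comm_xx (s := s) (by
      rintro rfl
      exact hw1 (by rw [xx_zero, map_one])) hg
    exact mem_map_upper.2 ⟨t, ht⟩
  have hP1 : ∃ u ∈ (P : Subgroup (Matrix.ProjectiveSpecialLinearGroup (Fin 2) F)), u ≠ 1 := by
    refine ⟨pr (xx 1), by rw [hP]; exact mem_map_upper.2 ⟨1, rfl⟩, ?_⟩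
    rw [← map_one pr, Ne, pr_eq_iff]
    rintro (h | h)
    · have e := congrArg (fun A : Matrix.SpecialLinearGroup (Fin 2) F => A 0 1) h
      simp at e
    · have e := congrArg (fun A : Matrix.SpecialLinearGroup (Fin 2) F => A 0 1) h
      simp at e
  have hw : pr (ww F) ∉ normalizer ((P : Subgroup (Matrix.ProjectiveSpecialLinearGroup (Fin 2) F)) : Set (Matrix.ProjectiveSpecialLinearGroup (Fin 2) F)) := by
    rw [hP, norm_iff, ww10]
    exact neg_ne_zero.2 one_ne_zero
  -- all Sylow subgroups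
  have hR : ∀ R : Sylow p (Matrix.ProjectiveSpecialLinearGroup (Fin 2) F),
      normalizer ((R : Subgroup (Matrix.ProjectiveSpecialLinearGroup (Fin 2) F)) : Set (Matrix.ProjectiveSpecialLinearGroup (Fin 2) F)) ≠ ⊤ := by
    intro R hR
    have h1 : ∀ Q : Sylow p (Matrix.ProjectiveSpecialLinearGroup (Fin 2) F), Q = R := by
      intro Q
      obtain ⟨g, rfl⟩ := MulAction.exists_smul_eq (Matrix.ProjectiveSpecialLinearGroup (Fin 2) F) R Q
      have hg : g ∈ normalizer ((R : Subgroup (Matrix.ProjectiveSpecialLinearGroup (Fin 2) F)) :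
        Set (Matrix.ProjectiveSpecialLinearGroup (Fin 2) F)) := by rw [hR]; exact mem_top g
      exact Sylow.smul_eq_iff_mem_normalizer.2 hg
    exact hw (Sylow.smul_eq_iff_mem_normalizer.1 ((h1 _).trans (h1 P).symm))
  have hmem : ∀ R : Sylow p (Matrix.ProjectiveSpecialLinearGroup (Fin 2) F),
      (R : Subgroup (Matrix.ProjectiveSpecialLinearGroup (Fin 2) F)) ∈ 𝓐 := by
    intro R
    obtain ⟨g, rfl⟩ := MulAction.exists_smul_eq (Matrix.ProjectiveSpecialLinearGroup (Fin 2) F) P R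
    have hmg : ∀ x, x ∈ ((g • P : Sylow p _) : Subgroup (Matrix.ProjectiveSpecialLinearGroup (Fin 2) F)) ↔
        g⁻¹ * x * g ∈ (P : Subgroup (Matrix.ProjectiveSpecialLinearGroup (Fin 2) F)) := by
      intro x
      rw [Sylow.coe_subgroup_smul, mem_pointwise_smul_iff_inv_smul_mem]
      simp only [MulAut.smul_def, _root_.MulAut.smul_def, _root_.MulAut.inv_apply, _root_.MulAut.conj_symm_apply]
    refine member_of_cc ?_ ?_ ?_ hA
    · intro w hw hw1 x hx
      rw [hmg] at hw ⊢
      refine hPc _ hw ?_ _ ?_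
      · intro h
        apply hw1
        have : w = g * (g⁻¹ * w * g) * g⁻¹ := by group
        rw [this, h]
        group
      · calc g⁻¹ * x * g * (g⁻¹ * w * g) = g⁻¹ * (x * w) * g := by group
          _ = g⁻¹ * (w * x) * g := by rw [hx]
          _ = _ := by group
    · obtain ⟨u, hu, hu1⟩ := hP1
      refine ⟨g * u * g⁻¹, ?_, ?_⟩
      · rw [hmg]
        have : g⁻¹ * (g * u * g⁻¹) * g = u := by group
        rwa [this]
      · intro h
        apply hu1
        have : u = g⁻¹ * (g * u * g⁻¹) * g := by group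
        rw [this, h]
        group
    · intro h
      exact hR (g • P) (top_le_iff.1 (h.ge.trans le_normalizer))
  -- the member containing the involution
  have hi : ∃ i : Fˣ, i ^ 2 = -1 := by
    obtain ⟨t, ht⟩ := IsCyclic.exists_generator (α := Fˣ)
    have hord : orderOf t = 2 ^ k := by
      rw [orderOf_eq_card_of_forall_mem_zpowers ht, Nat.card_units, Nat.card_eq_fintype_card, hk]
    refine ⟨t ^ 2 ^ (k - 2), ?_⟩
    have h1 : (t ^ 2 ^ (k - 2)) ^ 2 = t ^ 2 ^ (k - 1) := by
      rw [← pow_mul, ← pow_succ, show k - 2 + 1 = k - 1 by omega]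
    rw [h1]
    have h2 : (t ^ 2 ^ (k - 1)) ^ 2 = 1 := by
      rw [← pow_mul, ← pow_succ, show k - 1 + 1 = k by omega, ← hord, pow_orderOf_eq_one]
    have h3 : t ^ 2 ^ (k - 1) ≠ 1 := by
      intro h
      have h4 := Nat.le_of_dvd (by positivity) (orderOf_dvd_of_pow_eq_one h)
      rw [hord] at h4
      exact absurd h4 (not_le.2 (Nat.pow_lt_pow_right (by norm_num) (by omega)))
    have h4 : ((t ^ 2 ^ (k - 1) : Fˣ) : F) ^ 2 = 1 := by
      rw [← Units.val_pow_eq_pow_val, h2, Units.val_one]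
    rcases sq_eq_one_iff.1 h4 with h5 | h5
    · exact absurd (Units.ext h5) h3
    · exact Units.ext (by rw [h5]; simp)
  obtain ⟨i, hi⟩ := hi
  have hi' : (i : F) * i = -1 := by
    rw [← pow_two, ← Units.val_pow_eq_pow_val, hi]
    simp
  have hinv : ((i⁻¹ : Fˣ) : F) = -i := by
    have h1 : (i : F) * -i = 1 := by rw [mul_neg, hi', neg_neg]
    rw [Units.val_inv_eq_inv_val]
    exact (eq_inv_of_mul_eq_one_right h1).symm
  have h2 : (2 : F) ≠ 0 := by
    rw [ClassicalGeometry.PSLTorus.two_ne_zero_iff_odd]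
    have : Fintype.card F = 2 ^ k + 1 := by omega
    rw [this]
    exact (Nat.even_pow.2 ⟨even_two, by omega⟩).add_one
  obtain ⟨A, hAA, hiA⟩ := hA.cov.2 (pr (dd i))
  have hz1 : pr (dd i) ≠ 1 := by
    rw [← map_one pr, Ne, pr_eq_iff]
    rintro (h | h)
    · have e := congrArg (fun A : Matrix.SpecialLinearGroup (Fin 2) F => A 0 0) h
      simp only [dd00, Matrix.SpecialLinearGroup.coe_one, one_apply_eq] at e
      rw [e, mul_one] at hi'
      apply h2
      linear_combination hi'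
    · have e := congrArg (fun A : Matrix.SpecialLinearGroup (Fin 2) F => A 0 0) h
      simp only [coe_neg', dd00, Matrix.SpecialLinearGroup.coe_one, one_apply_eq] at e
      rw [e] at hi'
      apply h2
      linear_combination hi'
  -- the centraliser of the involution is a 2-group
  have hcz : ∀ y, y * pr (dd i) = pr (dd i) * y → y ^ 2 ^ k = 1 := by
    intro y hy
    obtain ⟨Y, rfl⟩ := pr_surjective y
    rw [← map_mul, ← map_mul, pr_eq_iff] at hy
    have hdet := det2 Y
    have hi0 : (i : F) ≠ 0 := i.ne_zero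
    have h2i : (2 : F) * i ≠ 0 := mul_ne_zero h2 hi0
    rcases hy with hy | hy
    · have e01 := congrArg (fun A : Matrix.SpecialLinearGroup (Fin 2) F => A 0 1) hy
      have e10 := congrArg (fun A : Matrix.SpecialLinearGroup (Fin 2) F => A 1 0) hy
      simp only [coe_mul', dd00, dd01, dd10, dd11, hinv] at e01 e10
      have h01 : Y 0 1 = 0 := by
        apply (mul_eq_zero.1 (show (2 * (i : F)) * Y 0 1 = 0 by linear_combination -e01)).resolve_left h2i
      have h10 : Y 1 0 = 0 := by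
        apply (mul_eq_zero.1 (show (2 * (i : F)) * Y 1 0 = 0 by linear_combination e10)).resolve_left h2i
      rw [h01, zero_mul, sub_zero] at hdet
      have h00 : Y 0 0 ≠ 0 := left_ne_zero_of_mul_eq_one hdet
      have hYd : Y = dd (Units.mk0 _ h00) := by
        refine sl_ext2 ?_ ?_ ?_ ?_
        · simp
        · rw [h01, dd01]
        · rw [h10, dd10]
        · rw [dd11, Units.val_inv_eq_inv_val]
          exact eq_inv_of_mul_eq_one_right hdet
      rw [hYd, ← map_pow, dd_pow]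
      have h1 : (Units.mk0 _ h00) ^ 2 ^ k = 1 := by
        rw [← hk, ← Nat.card_eq_fintype_card, ← Nat.card_units, pow_card_eq_one']
      rw [h1, dd_one, map_one]
    · have e00 := congrArg (fun A : Matrix.SpecialLinearGroup (Fin 2) F => A 0 0) hy
      have e11 := congrArg (fun A : Matrix.SpecialLinearGroup (Fin 2) F => A 1 1) hy
      simp only [coe_neg', coe_mul', dd00, dd01, dd10, dd11, hinv] at e00 e11
      have h00 : Y 0 0 = 0 := by
        apply (mul_eq_zero.1 (show (2 * (i : F)) * Y 0 0 = 0 by linear_combination e00)).resolve_left h2i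
      have h11 : Y 1 1 = 0 := by
        apply (mul_eq_zero.1 (show (2 * (i : F)) * Y 1 1 = 0 by linear_combination -e11)).resolve_left h2i
      have hYY : Y * Y = -1 := by
        refine sl_ext2 ?_ ?_ ?_ ?_
        · rw [coe_mul', coe_neg', Matrix.SpecialLinearGroup.coe_one, one_apply_eq, h00]
          linear_combination -hdet + Y 1 1 * h00
        · rw [coe_mul', coe_neg', Matrix.SpecialLinearGroup.coe_one, h00, h11]
          simp
        · rw [coe_mul', coe_neg', Matrix.SpecialLinearGroup.coe_one, h00, h11]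
          simp
        · rw [coe_mul', coe_neg', Matrix.SpecialLinearGroup.coe_one, one_apply_eq, h11]
          linear_combination -hdet + Y 1 1 * h00
      have h1 : pr Y ^ 2 = 1 := by
        rw [pow_two, ← map_mul, hYY, ← map_one pr, pr_eq_iff]
        exact Or.inr rfl
      obtain ⟨m, rfl⟩ := Nat.exists_eq_add_of_le hk2
      rw [show 2 ^ (2 + m) = 2 * (2 * 2 ^ m) by ring, pow_mul, h1, one_pow]
  -- `A` is a 2-group
  have hA2 : ∀ x ∈ A, ∃ n : ℕ, x ^ 2 ^ n = 1 := by
    intro x hx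
    obtain ⟨s, t, hst, hs, ht⟩ := exists_parts x Nat.prime_two
    have hzo : (pr (dd i)) ^ 2 = 1 := by
      rw [← map_pow, dd_pow, hi, ← map_one pr, pr_eq_iff]
      right
      exact sl_ext2 (by simp) (by simp) (by simp) (by simp only [_root_.Fin.isValue, _root_.Cfsg.Agent.H480.PslTwo.dd11, _root_.inv_neg, _root_.inv_one, _root_.Units.val_neg, _root_.Units.val_one, _root_.Matrix.SpecialLinearGroup.coe_neg, _root_.Matrix.SpecialLinearGroup.coe_one, _root_.Matrix.neg_apply, _root_.Matrix.one_apply_eq])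
    have hnil := hA.nil A hAA
    have h3 : Commute (⟨x ^ t, A.pow_mem hx t⟩ : ↥A) ⟨pr (dd i), hiA⟩ :=
      Lib.NilpotentCoprime.commute_of_coprime_orderOf (by
        rw [← orderOf_coe, ← orderOf_coe]
        change (orderOf (x ^ t)).Coprime (orderOf (pr (dd i)))
        exact Nat.Coprime.coprime_dvd_right (orderOf_dvd_of_pow_eq_one hzo) ht)
    have h4 := hcz _ (congrArg Subtype.val h3.eq)
    have h5 : x ^ t = 1 := by
      have h6 : orderOf (x ^ t) = 1 := by
        have h7 := Nat.dvd_gcd (dvd_refl (orderOf (x ^ t))) (orderOf_dvd_of_pow_eq_one h4)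
        rw [Nat.Coprime.gcd_eq_one (Nat.Coprime.pow_right k ht)] at h7
        exact Nat.dvd_one.1 h7
      exact orderOf_eq_one_iff.1 h6
    rw [h5, mul_one] at hst
    rw [hst]
    exact hs
  -- 2-elements are in Borel subgroups
  have hfix : ∀ x : Matrix.ProjectiveSpecialLinearGroup (Fin 2) F, (∃ n : ℕ, x ^ 2 ^ n = 1) →
      ∃ R : Sylow p (Matrix.ProjectiveSpecialLinearGroup (Fin 2) F), x ∈ normalizer
        ((R : Subgroup (Matrix.ProjectiveSpecialLinearGroup (Fin 2) F)) : Set (Matrix.ProjectiveSpecialLinearGroup (Fin 2) F)) := by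
    rintro x ⟨n, hn⟩
    obtain ⟨Y, rfl⟩ := pr_surjective x
    have h1 : Y ^ 2 ^ (n + 1) = 1 := by
      rw [← map_pow, ← map_one pr, pr_eq_iff] at hn
      rw [pow_succ, pow_mul]
      rcases hn with h | h
      · rw [h, one_pow]
      · rw [h, neg_one_sq]
    obtain ⟨l, hl⟩ := exists_eigen (two_pow_card p hk h5 h1)
    obtain ⟨h, hh⟩ := exists_conj hl
    refine ⟨pr h • P, ?_⟩
    refine Sylow.smul_eq_iff_mem_normalizer.1 ?_
    rw [← mul_smul]
    have h3 : pr Y * pr h = pr h * pr (h⁻¹ * Y * h) := by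
      rw [map_mul, map_mul, map_inv]
      group
    rw [h3, mul_smul]
    congr 1
    refine Sylow.smul_eq_iff_mem_normalizer.2 ?_
    have h6 : pr (h⁻¹ * Y * h) ∈ normalizer ((P : Subgroup (Matrix.ProjectiveSpecialLinearGroup (Fin 2) F)) :
        Set (Matrix.ProjectiveSpecialLinearGroup (Fin 2) F)) := by
      rw [hP, norm_iff, hh]
    exact h6
  -- counting
  have : Fintype (Sylow p (Matrix.ProjectiveSpecialLinearGroup (Fin 2) F)) := Fintype.ofFinite _
  set! 𝓢 : Finset (Subgroup (Matrix.ProjectiveSpecialLinearGroup (Fin 2) F)) :=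
    (Finset.univ : Finset (Sylow p (Matrix.ProjectiveSpecialLinearGroup (Fin 2) F))).image
      (fun R : Sylow p (Matrix.ProjectiveSpecialLinearGroup (Fin 2) F) => (R : Subgroup _)) with hS
  have hSc : 𝓢.card = Fintype.card (Sylow p (Matrix.ProjectiveSpecialLinearGroup (Fin 2) F)) := by
    rw [hS, Finset.card_image_of_injective _ (fun R Q h => Sylow.ext h)]
    rfl
  have hAS : A ∉ 𝓢 := by
    intro h
    obtain ⟨R, -, hR⟩ := Finset.mem_image.1 h
    rw [← hR] at hiA
    obtain ⟨n, hn⟩ := R.isPGroup' ⟨_, hiA⟩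
    have h1 : pr (dd i) ^ p ^ n = 1 := by simpa only [_root_.QuotientGroup.mk'_apply, _root_.SubmonoidClass.mk_pow, _root_.OneMemClass.coe_one] using congrArg Subtype.val hn
    have hzo : (pr (dd i)) ^ 2 = 1 := by
      rw [← map_pow, dd_pow, hi, ← map_one pr, pr_eq_iff]
      right
      exact sl_ext2 (by simp) (by simp only [_root_.Fin.isValue, _root_.Cfsg.Agent.H480.PslTwo.dd01, _root_.Matrix.SpecialLinearGroup.coe_neg, _root_.Matrix.SpecialLinearGroup.coe_one, _root_.Matrix.neg_apply, _root_.ne_eq, _root_.zero_ne_one, _root_.not_false_eq_true, _root_.Matrix.one_apply_ne, _root_.neg_zero]) (by simp) (by simp only [_root_.Fin.isValue, _root_.Cfsg.Agent.H480.PslTwo.dd11, _root_.inv_neg, _root_.inv_one, _root_.Units.val_neg, _root_.Units.val_one, _root_.Matrix.SpecialLinearGroup.coe_neg, _root_.Matrix.SpecialLinearGroup.coe_one, _root_.Matrix.neg_apply, _root_.Matrix.one_apply_eq])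
    have hp2 : p ≠ 2 := by
      rintro rfl
      exact h2 (by exact_mod_cast (CharP.cast_eq_zero F 2))
    have h3 := Nat.dvd_gcd (orderOf_dvd_of_pow_eq_one h1) (orderOf_dvd_of_pow_eq_one hzo)
    rw [Nat.Coprime.gcd_eq_one (Nat.Coprime.pow_left n ((Nat.coprime_primes hpf.1 Nat.prime_two).2 hp2))] at h3
    exact hz1 (orderOf_eq_one_iff.1 (Nat.dvd_one.1 h3))
  have h1 := hA.card_le (insert A 𝓢) (((Finset.univ : Finset (Sylow p (Matrix.ProjectiveSpecialLinearGroup (Fin 2) F))).image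
    (fun R : Sylow p (Matrix.ProjectiveSpecialLinearGroup (Fin 2) F) => normalizer ((R : Subgroup (Matrix.ProjectiveSpecialLinearGroup (Fin 2) F)) : Set (Matrix.ProjectiveSpecialLinearGroup (Fin 2) F))) :)) ?_ ?_ ?_
  · rw [Finset.card_insert_of_notMem hAS, hSc] at h1
    have h3 : ((Finset.univ : Finset (Sylow p (Matrix.ProjectiveSpecialLinearGroup (Fin 2) F))).image
      (fun R : Sylow p (Matrix.ProjectiveSpecialLinearGroup (Fin 2) F) => normalizer ((R : Subgroup (Matrix.ProjectiveSpecialLinearGroup (Fin 2) F)) : Set (Matrix.ProjectiveSpecialLinearGroup (Fin 2) F)))).card ≤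
        Fintype.card (Sylow p (Matrix.ProjectiveSpecialLinearGroup (Fin 2) F)) := Finset.card_image_le
    omega
  · intro X hX
    rcases Finset.mem_insert.1 hX with rfl | hX
    · exact hAA
    · obtain ⟨R, -, rfl⟩ := Finset.mem_image.1 hX
      exact hmem R
  · intro H hH
    obtain ⟨R, -, rfl⟩ := Finset.mem_image.1 hH
    exact hR R
  · intro X hX x hx
    rcases Finset.mem_insert.1 hX with rfl | hX
    · obtain ⟨R, hR⟩ := hfix x (hA2 x hx)
      exact ⟨_, Finset.mem_image_of_mem _ (Finset.mem_univ R), hR⟩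
    · obtain ⟨R, -, rfl⟩ := Finset.mem_image.1 hX
      exact ⟨_, Finset.mem_image_of_mem _ (Finset.mem_univ R), le_normalizer hx⟩

end Cfsg.Agent.H480.PslTwo
end

-- part: H480/RowPslTwo
section
/-!
# Nilpotent minimal covers: the row `PSL₂(q)` (helper480, S3925, S3926)
-/

set_option autoImplicit false

namespace Cfsg.Agent.H480.PslTwo

open Subgroup Matrix
open Cfsg.Agent.ClassicalGeometry.AutPSL.Root Cfsg.Agent.ClassicalGeometry.AutPSL.Auto
  Cfsg.Agent.ClassicalGeometry.AutPSL.Main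
open Cfsg.Agent.ClassicalGeometry.AutPSL.SylowU

universe u v

/-- `p ^ n - 1` a power of two: `n` is a power of two -/
theorem exp_two {p n k : ℕ} (hp : 1 < p) (hn : n ≠ 0) (h : p ^ n - 1 = 2 ^ k) (hk : k ≠ 0) : ∃ j, n = 2 ^ j := by
  refine ⟨_, Nat.eq_prime_pow_of_unique_prime_dvd hn ?_⟩
  intro r hr hrn
  by_contra hr2
  obtain ⟨m, rfl⟩ := hrn
  have hm : m ≠ 0 := by
    rintro rfl
    exact hn (mul_zero _)
  have hr1 : Odd r := hr.odd_of_ne_two hr2
  have h1 : (p ^ m - 1) ∣ p ^ (r * m) - 1 := by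
    rw [mul_comm, pow_mul]
    exact Nat.sub_one_dvd_pow_sub_one _ _
  have h2 : (∑ i ∈ Finset.range r, (p ^ m) ^ i) * (p ^ m - 1) = p ^ (r * m) - 1 := by
    have h3 := Nat.geomSum_eq (m := p ^ m) (Nat.le_self_pow hm p |>.trans' hp) r
    rw [h3, mul_comm r m, pow_mul]
    refine Nat.div_mul_cancel (Nat.sub_one_dvd_pow_sub_one _ _)
  have hP : 1 < p ^ m := Nat.one_lt_pow hm hp
  have hPo : Odd (p ^ m) := by
    have h4 : Odd (p ^ (r * m)) := by
      have h5 : p ^ (r * m) = 2 ^ k + 1 := by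
        have := Nat.one_le_pow (r * m) p (by omega)
        omega
      rw [h5]
      exact (Nat.even_pow.2 ⟨even_two, hk⟩).add_one
    have h6 := (Nat.odd_pow_iff hn).1 h4
    exact h6.pow
  have hodd : Odd (∑ i ∈ Finset.range r, (p ^ m) ^ i) := by
    rw [Finset.odd_sum_iff_odd_card_odd, Finset.filter_true_of_mem, Finset.card_range]
    · exact hr1
    · intro i _
      exact hPo.pow
  have h7 : (∑ i ∈ Finset.range r, (p ^ m) ^ i) ∣ 2 ^ k := ⟨_, by rw [h2, h]⟩
  obtain ⟨i, -, hi⟩ := (Nat.dvd_prime_pow Nat.prime_two).1 h7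
  have hi0 : i = 0 := by
    by_contra h8
    rw [hi] at hodd
    exact absurd hodd (Nat.not_odd_iff_even.2 (Nat.even_pow.2 ⟨even_two, h8⟩))
  rw [hi0, pow_zero] at hi
  have h9 : 1 < ∑ i ∈ Finset.range r, (p ^ m) ^ i := by
    have h10 : (p ^ m) ^ 1 ≤ ∑ i ∈ Finset.range r, (p ^ m) ^ i :=
      Finset.single_le_sum (f := fun i => (p ^ m) ^ i) (fun _ _ => Nat.zero_le _)
        (Finset.mem_range.2 hr.one_lt)
    rw [pow_one] at h10
    omega
  omega

variable {F : Type v} [Field F]

theorem row_psl_two [Finite F] (h4 : 4 ≤ Nat.card F) : Row.{u} (Matrix.ProjectiveSpecialLinearGroup (Fin 2) F) := by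
  intro G _ _ K hK hs hna hc hcyc f 𝓐 hA
  have := Fintype.ofFinite F
  obtain ⟨p, hp⟩ := CharP.exists F
  have hpf : Fact p.Prime := ⟨CharP.char_is_prime F p⟩
  have hodd := no_field h4 hs hna hc hcyc f hA
  have hcop : ∀ g : G, (∃ k : ℕ, g ^ 2 ^ k ∈ K) → g ∈ K := by
    rintro g ⟨k, hk⟩
    have h1 : ((g : G) : G ⧸ K) ^ 2 ^ k = 1 := by
      rw [← QuotientGroup.mk_pow]
      exact (QuotientGroup.eq_one_iff _).2 hk
    have h2 : ((g : G) : G ⧸ K) ^ K.index = 1 := by
      rw [Subgroup.index]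
      exact pow_card_eq_one'
    have h3 := Nat.dvd_gcd (orderOf_dvd_of_pow_eq_one h1) (orderOf_dvd_of_pow_eq_one h2)
    rw [Nat.Coprime.gcd_eq_one (Nat.Coprime.pow_left k hodd.coprime_two_left)] at h3
    exact (QuotientGroup.eq_one_iff g).1 (orderOf_eq_one_iff.1 (Nat.dvd_one.1 h3))
  by_cases hr : ∃ r : ℕ, r.Prime ∧ r ≠ 2 ∧ r ∣ Nat.card Fˣ
  · obtain ⟨r, hr, hr2, hrd⟩ := hr
    have hfr : Fact r.Prime := ⟨hr⟩
    refine (pair_psl p hr2 hrd).not_nmc f ?_ hA
    rintro g ⟨k, hk⟩
    exact hcop g ⟨k, by rw [hk]; exact K.one_mem⟩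
  · have hcard : Nat.card Fˣ = Nat.card F - 1 := Nat.card_units F
    have hFF : Nat.card F = Fintype.card F := Nat.card_eq_fintype_card
    obtain ⟨k, hk⟩ : ∃ k, Nat.card Fˣ = 2 ^ k := by
      refine ⟨_, Nat.eq_prime_pow_of_unique_prime_dvd ?_ ?_⟩
      · omega
      · intro d hd hdd
        by_contra hd2
        exact hr ⟨d, hd, hd2, hdd⟩
    have hk0 : k ≠ 0 := by
      rintro rfl
      rw [pow_zero] at hk
      omega
    have hF5 : 5 ≤ Fintype.card F := by
      by_contra h5
      have h6 : Nat.card F = 4 := by omega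
      rw [hcard, h6] at hk
      have h7 : Even (2 ^ k) := Nat.even_pow.2 ⟨even_two, hk0⟩
      rw [← hk] at h7
      exact absurd h7 (by decide)
    have hkF : Fintype.card F - 1 = 2 ^ k := by rw [← hFF, ← hcard, hk]
    obtain ⟨n, -, hn⟩ := FiniteField.card F p
    obtain ⟨j, hj⟩ := exp_two hpf.1.one_lt n.pos.ne' (hn ▸ hkF) hk0
    have hKt : ∀ g : G, g ∈ K := by
      intro g
      obtain ⟨A, σ, hAσ⟩ := surj_two p (act f g)
      have h1 : ∀ m : ℕ, ∃ B : GL (Fin 2) F, act f (g ^ m) = lift (cj B * fld (σ ^ m)) := by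
        intro m
        induction m with
        | zero => exact ⟨1, by simp only [_root_.pow_zero, _root_.map_one, _root_.mul_one]⟩
        | succ m ih =>
          obtain ⟨B, hB⟩ := ih
          exact ⟨_, by rw [pow_succ, map_mul, hB, hAσ, cj_fld_mul, pow_succ]⟩
      obtain ⟨B, hB⟩ := h1 n
      have h2 : σ ^ (n : ℕ) = 1 := by
        have h5 := Lib.FieldAutCard.card_ringAut n.pos hn
        rw [← h5]
        exact pow_card_eq_one'
      rw [h2, map_one, mul_one] at hB
      have h3 := no_diag p hs hna hc f hA hB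
      exact hcop g ⟨j, by rw [← hj]; exact h3⟩
    have hKT : K = ⊤ := by
      rw [eq_top_iff]
      intro g _
      exact hKt g
    obtain ⟨𝓑, hB⟩ := hA.congr ((Subgroup.topEquiv.symm.trans (MulEquiv.subgroupCongr hKT.symm)).trans f.symm)
    exact not_nmc_psl hkF hF5 hB

end Cfsg.Agent.H480.PslTwo
end

-- part: H480/SpFour
section
/-!
# Nilpotent minimal covers: `PSp₄(q)` (helper480, S3925, S3926)
-/

set_option autoImplicit false
set_option linter.unusedSectionVars false
set_option linter.unusedSimpArgs false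

namespace Cfsg.Agent.H480.SpFour

open Subgroup Matrix Cfsg Cfsg.Agent.ClassicalGeometry

variable {F : Type*} [Field F]

abbrev Mx (F : Type*) := Matrix (Fin 2 ⊕ Fin 2) (Fin 2 ⊕ Fin 2) F

/-- two orthogonal planes -/
def emb (A B : Matrix (Fin 2) (Fin 2) F) : Mx F :=
  fromBlocks (diagonal ![A 0 0, B 0 0]) (diagonal ![A 0 1, B 0 1]) (diagonal ![A 1 0, B 1 0])
    (diagonal ![A 1 1, B 1 1])

theorem emb_mul (A B A' B' : Matrix (Fin 2) (Fin 2) F) : emb A B * emb A' B' = emb (A * A') (B * B') := by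
  unfold emb
  rw [fromBlocks_multiply]
  simp only [diagonal_mul_diagonal, diagonal_add]
  congr 2 <;> (ext i; (revert i; simp only [Matrix.mul_apply, Fin.sum_univ_two, _root_.Fin.forall_fin_succ, Fin.isValue, _root_.Matrix.cons_val_zero, _root_.Matrix.cons_val_succ, _root_.Matrix.cons_val_fin_one, _root_.implies_true, _root_.and_self]))

theorem emb_one : emb (1 : Matrix (Fin 2) (Fin 2) F) 1 = 1 := by
  unfold emb
  rw [← fromBlocks_one]
  congr 1 <;> (ext i j; (revert i j; simp only [_root_.Fin.forall_fin_succ, _root_.Matrix.one_apply_eq, Fin.isValue, _root_.Fin.succ_zero_eq_one, _root_.IsEmpty.forall_iff, _root_.and_true, _root_.Matrix.diagonal_apply_eq, _root_.Matrix.cons_val_zero, _root_.ne_eq, _root_.zero_ne_one, _root_.not_false_eq_true, _root_.Matrix.diagonal_apply_ne, Nat.reduceAdd, _root_.Matrix.one_apply_ne, _root_.and_self, _root_.Fin.succ_ne_zero, _root_.true_and, _root_.Matrix.cons_val_one, _root_.Matrix.cons_val_fin_one, _root_.Matrix.zero_apply,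 _root_.one_ne_zero]))

theorem emb_neg (A B : Matrix (Fin 2) (Fin 2) F) : emb (-A) (-B) = - emb A B := by
  unfold emb
  rw [fromBlocks_neg]
  congr 1 <;> (ext i j; (revert i j; simp only [_root_.Fin.forall_fin_succ, Fin.isValue, _root_.Matrix.neg_apply, _root_.Fin.succ_zero_eq_one, _root_.IsEmpty.forall_iff, _root_.and_true, _root_.Matrix.diagonal_apply_eq, _root_.Matrix.cons_val_zero, _root_.ne_eq, _root_.zero_ne_one, _root_.not_false_eq_true, _root_.Matrix.diagonal_apply_ne, _root_.neg_zero, _root_.and_self, _root_.Fin.succ_ne_zero, _root_.true_and, _root_.Matrix.cons_val_one, _root_.Matrix.cons_val_fin_one]))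

theorem emb_mem {A B : Matrix (Fin 2) (Fin 2) F} : emb A B ∈ symplecticGroup (Fin 2) F ↔ A.det = 1 ∧ B.det = 1 := by
  rw [_root_.SymplecticGroup.mem_iff]
  unfold emb Matrix.J
  rw [fromBlocks_transpose, fromBlocks_multiply, fromBlocks_multiply]
  rw [det_fin_two, det_fin_two, fromBlocks_inj]
  simp only [diagonal_transpose, mul_zero, mul_one, zero_mul, mul_neg, neg_mul, zero_add, add_zero,
    diagonal_mul_diagonal, diagonal_neg, diagonal_add]
  simp only [← ext_iff, Fin.forall_fin_two, diagonal_apply]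
  simp only [↓ _root_.reduceIte, _root_.Fin.isValue, _root_.Matrix.cons_val_zero, _root_.Matrix.zero_apply, _root_.zero_ne_one, _root_.and_true, _root_.one_ne_zero, _root_.Matrix.cons_val_one, _root_.Matrix.cons_val_fin_one, _root_.true_and, _root_.Matrix.neg_apply, _root_.Matrix.one_apply_eq, _root_.ne_eq, _root_.not_false_eq_true, _root_.Matrix.one_apply_ne, _root_.neg_zero]
  constructor
  · rintro ⟨h1, h2, h3, h4⟩
    exact ⟨by linear_combination h3.1, by linear_combination h3.2⟩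
  · rintro ⟨hA, hB⟩
    refine ⟨⟨by ring, by ring⟩, ⟨by linear_combination (-1 : F) * hA, by linear_combination (-1 : F) * hB⟩,
      ⟨by linear_combination hA, by linear_combination hB⟩, ⟨by ring, by ring⟩⟩

theorem emb_inj {A B A' B' : Matrix (Fin 2) (Fin 2) F} (h : emb A B = emb A' B') : A = A' ∧ B = B' := by
  unfold emb at h
  rw [fromBlocks_inj] at h
  simp only [← ext_iff, Fin.forall_fin_two, diagonal_apply] at h ⊢
  simp at h
  obtain ⟨h1, h2, h3, h4⟩ := h
  exact ⟨⟨⟨h1.1, h2.1⟩, ⟨h3.1, h4.1⟩⟩, ⟨⟨h1.2, h2.2⟩, ⟨h3.2, h4.2⟩⟩⟩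

/-- `SL₂ × SL₂ → Sp₄` -/
def J (F : Type*) [Field F] : Matrix.SpecialLinearGroup (Fin 2) F × Matrix.SpecialLinearGroup (Fin 2) F →*
    symplecticGroup (Fin 2) F where
  toFun A := ⟨emb A.1 A.2, emb_mem.2 ⟨A.1.2, A.2.2⟩⟩
  map_one' := Subtype.ext (by simp only [emb_one, _root_.Prod.fst_one, _root_.Matrix.SpecialLinearGroup.coe_one, _root_.Prod.snd_one, _root_.Cfsg.Agent.H480.SpFour.emb_one, _root_.OneMemClass.coe_one])
  map_mul' A B := Subtype.ext (by simp only [emb_mul, _root_.Prod.fst_mul, _root_.Matrix.SpecialLinearGroup.coe_mul, _root_.Prod.snd_mul, _root_.Submonoid.mk_mul_mk, _root_.Cfsg.Agent.H480.SpFour.emb_mul])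

theorem J_coe (A : Matrix.SpecialLinearGroup (Fin 2) F × Matrix.SpecialLinearGroup (Fin 2) F) :
    (J F A : Mx F) = emb A.1 A.2 := rfl

/-- the projection -/
def pi (F : Type*) [Field F] : symplecticGroup (Fin 2) F →* PSp 2 F := QuotientGroup.mk' _

theorem pi_surj : Function.Surjective (pi F) := QuotientGroup.mk'_surjective _

theorem eq_or_neg {X Y : symplecticGroup (Fin 2) F} (h : pi F X = pi F Y) :
    (X : Mx F) = Y ∨ (X : Mx F) = - (Y : Mx F) := by
  have h1 : X * Y⁻¹ ∈ center (symplecticGroup (Fin 2) F) := by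
    rw [← QuotientGroup.eq_one_iff]
    change pi F (X * Y⁻¹) = 1
    rw [map_mul, h, map_inv, mul_inv_cancel]
  have h2 : (X : Mx F) = ((X * Y⁻¹ : symplecticGroup (Fin 2) F) : Mx F) * (Y : Mx F) := by
    rw [← Submonoid.coe_mul, inv_mul_cancel_right]
  rcases SympInvolutions.center_eq h1 with h3 | h3
  · left; rw [h2, h3, one_mul]
  · right; rw [h2, h3, neg_mul, one_mul]

theorem pi_neg_one : pi F (J F (-1, -1)) = 1 := by
  refine (QuotientGroup.eq_one_iff _).2 (mem_center_iff.2 fun g => ?_)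
  apply Subtype.ext
  have h : (J F (-1, -1) : Mx F) = -1 := by
    rw [J_coe]
    simp only [Matrix.SpecialLinearGroup.coe_neg, Matrix.SpecialLinearGroup.coe_one]
    rw [emb_neg, emb_one]
  rw [Submonoid.coe_mul, Submonoid.coe_mul, h]
  simp

theorem pi_of_neg {X Y : symplecticGroup (Fin 2) F} (h : (X : Mx F) = - (Y : Mx F)) : pi F X = pi F Y := by
  have h1 : X = J F (-1, -1) * Y := by
    apply Subtype.ext
    rw [Submonoid.coe_mul, J_coe]
    simp only [Matrix.SpecialLinearGroup.coe_neg, Matrix.SpecialLinearGroup.coe_one]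
    rw [emb_neg, emb_one, h, neg_mul, one_mul]
  rw [h1, map_mul, pi_neg_one, one_mul]

/-- elements commuting with a transvection and with `diag(y, y⁻¹)` on the other plane -/
theorem eq_emb {X : Mx F} (hX : X ∈ symplecticGroup (Fin 2) F) {y y' : F} (hy : y ≠ 1) (hy' : y' ≠ 1)
    {l : F} (hd : X * emb 1 !![1, 1; 0, 1] = emb 1 !![1, 1; 0, 1] * X)
    (hz : X * emb !![y, 0; 0, y'] 1 = l • (emb !![y, 0; 0, y'] 1 * X)) :
    ∃ (A : Matrix (Fin 2) (Fin 2) F) (c n : F), X = emb A !![c, n; 0, c] ∧ (y ≠ y' → A 0 1 = 0 ∧ A 1 0 = 0) := by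
  have e1 : X = fromBlocks X.toBlocks₁₁ X.toBlocks₁₂ X.toBlocks₂₁ X.toBlocks₂₂ := (fromBlocks_toBlocks X).symm
  set P := X.toBlocks₁₁ with hP
  set Q := X.toBlocks₁₂ with hQ
  set R := X.toBlocks₂₁ with hR
  set T := X.toBlocks₂₂ with hT
  clear_value P Q R T
  subst e1
  unfold emb at hd hz ⊢
  rw [fromBlocks_multiply, fromBlocks_multiply, fromBlocks_inj] at hd
  rw [fromBlocks_multiply, fromBlocks_multiply, fromBlocks_smul, fromBlocks_inj] at hz
  simp only [← ext_iff, Fin.forall_fin_two, diagonal_apply, Matrix.add_apply, Matrix.mul_diagonal,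
    Matrix.diagonal_mul, Matrix.smul_apply] at hd hz
  simp only [_root_.Fin.isValue, _root_.Matrix.one_apply_eq, _root_.Matrix.of_apply, _root_.Matrix.cons_val', _root_.Matrix.cons_val_zero, _root_.Matrix.cons_val_fin_one, _root_.mul_one, _root_.ne_eq, _root_.one_ne_zero, _root_.not_false_eq_true, _root_.Matrix.one_apply_ne, _root_.Matrix.cons_val_one, _root_.MulZeroClass.mul_zero, _root_.add_zero, _root_.one_mul, _root_.zero_ne_one, _root_.MulZeroClass.zero_mul, _root_.and_self, _root_.left_eq_add, _root_.true_and, _root_.zero_add, _root_.add_eq_right, _root_.smul_eq_mul] at hd hz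
  obtain ⟨⟨hR10, hR11⟩, ⟨hP01, hT10, hPT⟩, hR01, -⟩ := hd
  obtain ⟨⟨⟨hz1, -⟩, hz2, hz3⟩, ⟨⟨hz4, hz5⟩, hz6, -⟩, ⟨⟨hz7, -⟩, -, -⟩, ⟨-, hz8⟩, -, -⟩ := hz
  have hPT' : P 1 1 = T 1 1 := by linear_combination hPT
  have hc : P 1 1 ≠ 0 := by
    intro h0
    have h1 := SymplecticGroup.symplectic_det hX
    rw [Matrix.det_eq_zero_of_row_eq_zero (Sum.inr 1) (by
      rintro (j | j)
      · rw [fromBlocks_apply₂₁]; fin_cases j; exacts [hR10, hR11]
      · rw [fromBlocks_apply₂₂]; fin_cases j; exacts [hT10, hPT'.symm.trans h0])] at h1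
    exact not_isUnit_zero h1
  have hl : l = 1 := by
    have h1 : (l - 1) * P 1 1 = 0 := by linear_combination -hz3
    rcases mul_eq_zero.1 h1 with h | h
    · linear_combination h
    · exact absurd h hc
  subst hl
  have key : ∀ a t : F, t ≠ 1 → a * t = a → a = 0 := by
    intro a t ht h
    have h1 : a * (t - 1) = 0 := by linear_combination h
    exact (mul_eq_zero.1 h1).resolve_right (sub_ne_zero.2 ht)
  have hP10 : P 1 0 = 0 := key _ y hy (by linear_combination hz2)
  have hQ01 : Q 0 1 = 0 := key _ y hy (by linear_combination -hz5)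
  have hQ10 : Q 1 0 = 0 := key _ y' hy' (by linear_combination hz6)
  have hT01 : T 0 1 = 0 := key _ y' hy' (by linear_combination -hz8)
  refine ⟨!![P 0 0, Q 0 0; R 0 0, T 0 0], P 1 1, Q 1 1, ?_, ?_⟩
  · rw [fromBlocks_inj]
    simp only [← ext_iff, Fin.forall_fin_two, diagonal_apply]
    simp [hP01, hP10, hQ01, hQ10, hR01, hR10, hR11, hT01, hT10, hPT']
  · intro hyy
    have key2 : ∀ a : F, a * (y - y') = 0 → a = 0 := fun a h =>
      (mul_eq_zero.1 h).resolve_right (sub_ne_zero.2 hyy)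
    constructor
    · exact key2 _ (show Q 0 0 * (y - y') = 0 by linear_combination -hz4)
    · exact key2 _ (show R 0 0 * (y - y') = 0 by linear_combination hz7)

theorem eq_of_sq {A : Matrix (Fin 2) (Fin 2) F} (h2 : (2 : F) ≠ 0) (hA : A.det = 1) (h : A * A = 1) :
    A = 1 ∨ A = -1 := by
  have h1 : A = A.adjugate := by
    have e1 : A * A.adjugate = 1 := by rw [Matrix.mul_adjugate, hA, one_smul]
    calc A = A * (A * A.adjugate) := by rw [e1, mul_one]
      _ = A.adjugate := by rw [← mul_assoc, h, one_mul]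
  rw [Matrix.adjugate_fin_two] at h1
  rw [det_fin_two] at hA
  simp only [← ext_iff, Fin.forall_fin_two] at h1 ⊢
  simp only [_root_.Fin.isValue, _root_.Matrix.of_apply, _root_.Matrix.cons_val', _root_.Matrix.cons_val_zero, _root_.Matrix.cons_val_fin_one, _root_.Matrix.cons_val_one, _root_.Matrix.one_apply_eq, _root_.ne_eq, _root_.zero_ne_one, _root_.not_false_eq_true, _root_.Matrix.one_apply_ne, _root_.one_ne_zero, _root_.Matrix.neg_apply, _root_.neg_zero] at h1 ⊢
  obtain ⟨⟨h3, h4⟩, h5, -⟩ := h1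
  have key : ∀ a : F, a = -a → a = 0 := by
    intro a ha
    have : (2 : F) * a = 0 := by linear_combination ha
    exact (mul_eq_zero.1 this).resolve_left h2
  have hb := key _ h4
  have hc := key _ h5
  have h6 : (A 0 0 - 1) * (A 0 0 + 1) = 0 := by
    rw [hb] at hA
    linear_combination hA + A 0 0 * h3
  rcases mul_eq_zero.1 h6 with h7 | h7
  · left
    have h8 : A 0 0 = 1 := by linear_combination h7
    exact ⟨⟨h8, hb⟩, hc, h3.symm.trans h8⟩
  · right
    have h8 : A 0 0 = -1 := by linear_combination h7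
    exact ⟨⟨h8, hb⟩, hc, h3.symm.trans h8⟩

/-- the second factor -/
theorem eq_one_or {B : Matrix.SpecialLinearGroup (Fin 2) F} (h : pi F (J F (1, B)) = 1) : B = 1 ∨ B = -1 := by
  rcases eq_or_neg (h.trans (map_one (pi F)).symm) with h1 | h1
  · left
    rw [J_coe] at h1
    have h2 := emb_inj (h1.trans (show _ = emb (1 : Matrix (Fin 2) (Fin 2) F) 1 from emb_one.symm))
    exact Subtype.ext h2.2
  · right
    rw [J_coe] at h1
    have h2 := emb_inj (h1.trans (show _ = emb (-1 : Matrix (Fin 2) (Fin 2) F) (-1) by rw [emb_neg, emb_one]; rfl))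
    exact Subtype.ext h2.2

/-- commuting with the transvection up to sign -/
theorem comm_of_neg (h2 : (2 : F) ≠ 0) {X : symplecticGroup (Fin 2) F} {B : Matrix.SpecialLinearGroup (Fin 2) F}
    (hB : (B : Matrix (Fin 2) (Fin 2) F) = !![1, 1; 0, 1])
    (h : pi F X * pi F (J F (1, B)) = pi F (J F (1, B)) * pi F X) :
    (X : Mx F) * emb 1 !![1, 1; 0, 1] = emb 1 !![1, 1; 0, 1] * (X : Mx F) := by
  rw [← map_mul, ← map_mul] at h
  have hJ : (J F (1, B) : Mx F) = emb 1 !![1, 1; 0, 1] := by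
    rw [J_coe]; simp only [Matrix.SpecialLinearGroup.coe_one]; rw [hB]
  rcases eq_or_neg h with h1 | h1
  · rw [Submonoid.coe_mul, Submonoid.coe_mul, hJ] at h1
    exact h1
  · exfalso
    rw [Submonoid.coe_mul, Submonoid.coe_mul, hJ] at h1
    have hX := SymplecticGroup.symplectic_det X.2
    generalize (X : Mx F) = Y at h1 hX
    have e1 : Y = fromBlocks Y.toBlocks₁₁ Y.toBlocks₁₂ Y.toBlocks₂₁ Y.toBlocks₂₂ := (fromBlocks_toBlocks Y).symm
    generalize Y.toBlocks₁₁ = P at e1
    generalize Y.toBlocks₁₂ = Q at e1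
    generalize Y.toBlocks₂₁ = R at e1
    generalize Y.toBlocks₂₂ = T at e1
    subst e1
    unfold emb at h1
    rw [fromBlocks_multiply, fromBlocks_multiply, fromBlocks_neg, fromBlocks_inj] at h1
    simp only [← ext_iff, Fin.forall_fin_two, diagonal_apply, Matrix.add_apply, Matrix.mul_diagonal,
      Matrix.diagonal_mul, Matrix.neg_apply] at h1
    simp only [_root_.Fin.isValue, _root_.Matrix.one_apply_eq, _root_.Matrix.of_apply, _root_.Matrix.cons_val', _root_.Matrix.cons_val_zero, _root_.Matrix.cons_val_fin_one, _root_.mul_one, _root_.ne_eq, _root_.one_ne_zero, _root_.not_false_eq_true, _root_.Matrix.one_apply_ne, _root_.Matrix.cons_val_one, _root_.MulZeroClass.mul_zero, _root_.add_zero, _root_.one_mul, _root_.zero_ne_one, _root_.MulZeroClass.zero_mul, _root_.neg_add_rev, _root_.zero_add] at h1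
    have key : ∀ a : F, a = -a → a = 0 := by
      intro a ha
      have : (2 : F) * a = 0 := by linear_combination ha
      exact (mul_eq_zero.1 this).resolve_left h2
    obtain ⟨-, -, ⟨-, h3, h4⟩, -, h5, h6⟩ := h1
    have h7 := key _ h4
    rw [h7, zero_add] at h6
    rw [Matrix.det_eq_zero_of_row_eq_zero (Sum.inr 1) (by
      rintro (j | j)
      · rw [fromBlocks_apply₂₁]; fin_cases j; exacts [key _ h3, h7]
      · rw [fromBlocks_apply₂₂]; fin_cases j; exacts [key _ h5, key _ h6])] at hX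
    exact not_isUnit_zero hX

theorem diag_det {y : F} (hy : y ≠ 0) : (!![y, 0; 0, y⁻¹] : Matrix (Fin 2) (Fin 2) F).det = 1 := by
  rw [det_fin_two]; simp [hy]

/-- `diag(y, y⁻¹)` -/
def tt (y : F) (hy : y ≠ 0) : Matrix.SpecialLinearGroup (Fin 2) F := ⟨!![y, 0; 0, y⁻¹], diag_det hy⟩

theorem tt_coe (y : F) (hy : y ≠ 0) : (tt y hy : Matrix (Fin 2) (Fin 2) F) = !![y, 0; 0, y⁻¹] := rfl

/-- the torus -/
def tq (F : Type*) [Field F] : Fˣ →* Matrix.SpecialLinearGroup (Fin 2) F where
  toFun y := tt (y : F) y.ne_zero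
  map_one' := by
    ext i j
    (revert i j; simp only [tt_coe, _root_.Fin.forall_fin_succ, _root_.Units.val_one, _root_.inv_one, _root_.Matrix.of_apply, _root_.Matrix.cons_val', _root_.Matrix.cons_val_fin_one, _root_.Matrix.SpecialLinearGroup.coe_one, Fin.isValue, _root_.Matrix.cons_val_zero, _root_.Matrix.cons_val_succ, _root_.IsEmpty.forall_iff, _root_.and_true, _root_.Matrix.one_apply_eq, Nat.reduceAdd, _root_.Fin.succ_zero_eq_one, _root_.ne_eq, _root_.zero_ne_one, _root_.not_false_eq_true, _root_.Matrix.one_apply_ne, _root_.and_self, _root_.Fin.succ_ne_zero, _root_.true_and])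
  map_mul' a b := by
    ext i j
    (revert i j; simp [tt_coe, mul_comm, _root_.Fin.forall_fin_succ])

theorem J_comm (A B : Matrix.SpecialLinearGroup (Fin 2) F) : J F (A, 1) * J F (1, B) = J F (1, B) * J F (A, 1) := by
  rw [← map_mul, ← map_mul]; simp

theorem piJ_comm (A B : Matrix.SpecialLinearGroup (Fin 2) F) :
    pi F (J F (A, 1)) * pi F (J F (1, B)) = pi F (J F (1, B)) * pi F (J F (A, 1)) := by
  have h := congrArg (pi F) (J_comm A B)
  rwa [map_mul, map_mul] at h

theorem not_nil (A : Matrix.SpecialLinearGroup (Fin 2) F) (p : ℕ) [Fact p.Prime] [CharP F p] :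
    ¬ Group.IsNilpotent ↥(_root_.Subgroup.closure (cjs (centralizer ({pi F (J F (A, 1))} : Set (PSp 2 F)))
      (pi F (J F (1, uu F))))) := by
  refine not_nilpotent_of_sl (((pi F).comp (J F)).comp (MonoidHom.inr _ _)) (fun B hB => eq_one_or hB) ?_ p
  rw [mem_centralizer_singleton_iff]
  exact (piJ_comm A (ww F)).symm

theorem kill_odd (h2 : (2 : F) ≠ 0) (p : ℕ) [hp : Fact p.Prime] [CharP F p] : Kill (PSp 2 F) := by
  have hp2 : Odd p := by
    rcases hp.1.eq_two_or_odd' with rfl | h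
    · exact absurd (CharTwo.two_eq_zero (R := F)) h2
    · exact h
  have h1 : (-1 : F) ≠ 1 := by
    intro h
    apply h2
    linear_combination -h
  have hm : (-1 : F) ≠ 0 := neg_ne_zero.2 one_ne_zero
  refine Kill.of_inv (z := pi F (J F (tt (-1) hm, 1))) (d := pi F (J F (1, uu F))) ?_ ?_ ?_ ?_ (not_nil _ p)
  · refine orderOf_eq_prime ?_ ?_
    · rw [← map_pow, ← map_pow, ← map_one (pi F), ← map_one (J F)]
      congr 2
      refine Prod.ext ?_ ?_
      · ext i j
        (revert i j; simp only [pow_two, tt_coe, inv_neg, _root_.Fin.forall_fin_succ, _root_.Prod.mk_mul_mk, _root_.mul_one, _root_.Matrix.SpecialLinearGroup.coe_mul, _root_.inv_one, _root_.Matrix.cons_mul, _root_.Nat.succ_eq_add_one, Nat.reduceAdd, _root_.Matrix.vecMul_cons, _root_.Matrix.head_cons, _root_.neg_smul, _root_.one_smul, _root_.Matrix.neg_cons, _root_.neg_neg, _root_.neg_zero, _root_.Matrix.neg_empty, _root_.Matrix.tail_cons, _root_.zero_smul, _root_.Matrix.empty_vecMul, _root_.add_zero,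 _root_.zero_add, _root_.Matrix.empty_mul, _root_.Equiv.symm_apply_apply, _root_.Matrix.of_apply, _root_.Matrix.cons_val', _root_.Matrix.cons_val_fin_one, _root_.Prod.fst_one, _root_.Matrix.SpecialLinearGroup.coe_one, Fin.isValue, _root_.Matrix.cons_val_zero, _root_.Matrix.cons_val_succ, _root_.IsEmpty.forall_iff, _root_.and_true, _root_.Matrix.one_apply_eq, _root_.Fin.succ_zero_eq_one, _root_.ne_eq, _root_.zero_ne_one, _root_.not_false_eq_true, _root_.Matrix.one_apply_ne, _root_.and_self, _root_.Fin.succ_ne_zero, _root_.true_and])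
      · simp
    · intro h
      rcases eq_or_neg (h.trans (map_one (pi F)).symm) with h3 | h3
      · rw [J_coe] at h3
        have h4 := congrFun (congrFun (emb_inj (h3.trans (show _ = emb (1 : Matrix (Fin 2) (Fin 2) F) 1 from
          emb_one.symm))).1 0) 0
        simp [tt_coe] at h4
        exact h1 h4
      · rw [J_coe] at h3
        have h4 := congrFun (congrFun (emb_inj (h3.trans (show _ = emb (-1 : Matrix (Fin 2) (Fin 2) F) (-1) by
          rw [emb_neg, emb_one]; rfl))).2 0) 0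
        simp at h4
        exact h1 h4.symm
  · refine Odd.of_dvd_nat hp2 (orderOf_dvd_of_pow_eq_one ?_)
    rw [← map_pow, ← map_pow, ← map_one (pi F), ← map_one (J F)]
    congr 2
    refine Prod.ext ?_ ?_
    · simp
    · simpa only [_root_.Prod.pow_mk, _root_.one_pow, _root_.Prod.snd_one] using uu_pow_char p
  · exact piJ_comm _ _
  · intro x hx hxz hxd
    obtain ⟨X, rfl⟩ := pi_surj x
    have hd := comm_of_neg h2 uu_coe hxd
    have hz : ∃ l : F, (X : Mx F) * emb !![-1, 0; 0, -1] 1 = l • (emb !![-1, 0; 0, -1] 1 * (X : Mx F)) := by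
      rw [← map_mul, ← map_mul] at hxz
      have hJ : (J F (tt (-1) hm, 1) : Mx F) = emb !![-1, 0; 0, -1] 1 := by
        rw [J_coe]; simp only [Matrix.SpecialLinearGroup.coe_one]; rw [tt_coe, inv_neg, inv_one]
      rcases eq_or_neg hxz with h3 | h3
      · rw [Submonoid.coe_mul, Submonoid.coe_mul, hJ] at h3
        exact ⟨1, by rw [one_smul]; exact h3⟩
      · rw [Submonoid.coe_mul, Submonoid.coe_mul, hJ] at h3
        exact ⟨-1, by rw [neg_one_smul]; exact h3⟩
    obtain ⟨l, hz⟩ := hz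
    obtain ⟨A, c, n, hX, -⟩ := eq_emb X.2 h1 h1 hd hz
    have hdet := emb_mem.1 (hX ▸ X.2)
    have hc : c * c = 1 := by
      have := hdet.2
      rw [det_fin_two] at this
      simpa only [_root_.Fin.isValue, _root_.Matrix.of_apply, _root_.Matrix.cons_val', _root_.Matrix.cons_val_zero, _root_.Matrix.cons_val_fin_one, _root_.Matrix.cons_val_one, _root_.MulZeroClass.mul_zero, _root_.sub_zero] using this
    have hXX : (A * A = 1 ∧ n = 0) := by
      rw [← map_mul] at hx
      rcases eq_or_neg (hx.trans (map_one (pi F)).symm) with h3 | h3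
      · rw [Submonoid.coe_mul, hX, emb_mul] at h3
        have h4 := emb_inj (h3.trans (show _ = emb (1 : Matrix (Fin 2) (Fin 2) F) 1 from emb_one.symm))
        refine ⟨h4.1, ?_⟩
        have h5 := congrFun (congrFun h4.2 0) 1
        simp only [_root_.Fin.isValue, _root_.Matrix.cons_mul, _root_.Nat.succ_eq_add_one, _root_.Nat.reduceAdd, _root_.Matrix.vecMul_cons, _root_.Matrix.head_cons, _root_.Matrix.smul_cons, _root_.smul_eq_mul, _root_.Matrix.smul_empty, _root_.Matrix.tail_cons, _root_.MulZeroClass.mul_zero, _root_.Matrix.empty_vecMul, _root_.add_zero, _root_.Matrix.add_cons, _root_.Matrix.empty_add_empty, _root_.zero_smul, _root_.zero_add, _root_.Matrix.empty_mul, _root_.Equiv.symm_apply_apply, _root_.Matrix.of_apply, _root_.Matrix.cons_val', _root_.Matrix.cons_val_one, _root_.Matrix.cons_val_fin_one, _root_.Matrix.cons_val_zero, _root_.ne_eq, _root_.zero_ne_one, _root_.not_false_eq_true, _root_.Matrix.one_apply_ne] at h5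
        have h6 : (2 : F) * n = 0 := by linear_combination c * h5 - 2 * n * hc
        exact (mul_eq_zero.1 h6).resolve_left h2
      · rw [Submonoid.coe_mul, hX, emb_mul] at h3
        have h4 := emb_inj (h3.trans (show _ = emb (-1 : Matrix (Fin 2) (Fin 2) F) (-1) by
          rw [emb_neg, emb_one]; rfl))
        have h5 := congrFun (congrFun h4.2 0) 0
        simp only [_root_.Fin.isValue, _root_.Matrix.cons_mul, _root_.Nat.succ_eq_add_one, _root_.Nat.reduceAdd, _root_.Matrix.vecMul_cons, _root_.Matrix.head_cons, _root_.Matrix.smul_cons, _root_.smul_eq_mul, _root_.Matrix.smul_empty, _root_.Matrix.tail_cons, _root_.MulZeroClass.mul_zero, _root_.Matrix.empty_vecMul, _root_.add_zero, _root_.Matrix.add_cons, _root_.Matrix.empty_add_empty, _root_.zero_smul, _root_.zero_add, _root_.Matrix.empty_mul, _root_.Equiv.symm_apply_apply, _root_.Matrix.of_apply, _root_.Matrix.cons_val', _root_.Matrix.cons_val_zero, _root_.Matrix.cons_val_fin_one, _root_.Matrix.neg_apply, _root_.Matrix.one_apply_eq]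 at h5
        exact absurd (hc.symm.trans h5).symm h1
    obtain ⟨hAA, rfl⟩ := hXX
    have hA := eq_of_sq h2 hdet.1 hAA
    have hB : (!![c, 0; 0, c] : Matrix (Fin 2) (Fin 2) F) = 1 ∨ (!![c, 0; 0, c] : Matrix (Fin 2) (Fin 2) F) = -1 :=
      eq_of_sq h2 hdet.2 (by
        ext i j
        (revert i j; simp only [hc, _root_.Fin.forall_fin_succ, _root_.Matrix.cons_mul, _root_.Nat.succ_eq_add_one, Nat.reduceAdd, _root_.Matrix.vecMul_cons, _root_.Matrix.head_cons, _root_.Matrix.smul_cons, _root_.smul_eq_mul, _root_.MulZeroClass.mul_zero, _root_.Matrix.smul_empty, _root_.Matrix.tail_cons, _root_.zero_smul, _root_.Matrix.empty_vecMul, _root_.add_zero, _root_.zero_add, _root_.Matrix.empty_mul, _root_.Equiv.symm_apply_apply, _root_.Matrix.of_apply, _root_.Matrix.cons_val', _root_.Matrix.cons_val_fin_one, Fin.isValue, _root_.Matrix.cons_val_zero, _root_.Matrix.cons_val_succ, _root_.IsEmpty.forall_iff, _root_.and_true, _root_.Matrix.one_apply_eq, _root_.Fin.succ_zero_eq_one,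 _root_.ne_eq, _root_.zero_ne_one, _root_.not_false_eq_true, _root_.Matrix.one_apply_ne, _root_.and_self, _root_.Fin.succ_ne_zero, _root_.true_and]))
    have hZ : (J F (tt (-1) hm, 1) : Mx F) = emb (-1) 1 := by
      rw [J_coe]; simp only [Matrix.SpecialLinearGroup.coe_one]; rw [tt_coe, inv_neg, inv_one]
      congr 1
      ext i j
      (revert i j; simp only [_root_.Fin.forall_fin_succ, _root_.Matrix.of_apply, _root_.Matrix.cons_val', _root_.Matrix.cons_val_fin_one, _root_.Matrix.neg_apply, Fin.isValue, _root_.Matrix.cons_val_zero, _root_.Matrix.cons_val_succ, _root_.IsEmpty.forall_iff, _root_.and_true, _root_.Matrix.one_apply_eq, Nat.reduceAdd, _root_.Fin.succ_zero_eq_one, _root_.ne_eq, _root_.zero_ne_one, _root_.not_false_eq_true, _root_.Matrix.one_apply_ne, _root_.neg_zero, _root_.and_self, _root_.Fin.succ_ne_zero, _root_.neg_inj, _root_.true_and])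
    have h11 : ((1 : symplecticGroup (Fin 2) F) : Mx F) = emb 1 1 := emb_one.symm
    rcases hA with hA | hA <;> rcases hB with hB | hB
    · left
      rw [← map_one (pi F)]
      congr 1
      apply Subtype.ext
      rw [hX, hA, hB, h11]
    · right
      apply pi_of_neg
      rw [hX, hA, hB, hZ, ← emb_neg, neg_neg]
    · right
      congr 1
      apply Subtype.ext
      rw [hX, hA, hB, hZ]
    · left
      rw [← map_one (pi F)]
      apply pi_of_neg
      rw [hX, hA, hB, h11, ← emb_neg]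

/-- even characteristic -/
theorem kill_even [Finite F] [CharP F 2] (h4 : 3 ≤ Nat.card F) : Kill (PSp 2 F) := by
  have hp : Fact (Nat.Prime 2) := ⟨Nat.prime_two⟩
  have h2 : (2 : F) = 0 := CharTwo.two_eq_zero
  have : Fintype F := Fintype.ofFinite F
  obtain ⟨n, -, hn⟩ := FiniteField.card F 2
  have hcu : Nat.card Fˣ = 2 ^ (n : ℕ) - 1 := by
    rw [Nat.card_units, Nat.card_eq_fintype_card, hn]
  rw [Nat.card_eq_fintype_card, hn] at h4
  have hev : Even (2 ^ (n : ℕ)) := (Nat.even_pow.2 ⟨even_two, n.pos.ne'⟩)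
  have hodd : Odd (Nat.card Fˣ) := by
    rw [hcu]
    exact Nat.Even.sub_odd (by omega) hev odd_one
  have h1 : Nat.card Fˣ ≠ 1 := by
    rw [hcu]
    omega
  obtain ⟨r, hr, hrd⟩ := Nat.exists_prime_and_dvd h1
  have hfr : Fact r.Prime := ⟨hr⟩
  have hro : Odd r := hodd.of_dvd_nat hrd
  obtain ⟨y, hy⟩ := exists_prime_orderOf_dvd_card' r hrd
  have hy0 : (y : F) ≠ 0 := y.ne_zero
  have hy1 : (y : F) ≠ 1 := by
    intro h
    have : y = 1 := Units.ext h
    rw [this, orderOf_one] at hy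
    exact hr.one_lt.ne hy
  have hprim : IsPrimitiveRoot (y : F) r := by
    rw [← hy]
    exact IsPrimitiveRoot.coe_units_iff.2 (IsPrimitiveRoot.orderOf y)
  have hyy : (y : F) ≠ (y : F)⁻¹ := by
    intro h
    have h5 : (y : F) ^ 2 = 1 := by
      rw [pow_two]
      nth_rw 2 [h]
      exact mul_inv_cancel₀ hy0
    have h6 := hprim.dvd_of_pow_eq_one _ h5
    have := (Nat.prime_dvd_prime_iff_eq hr Nat.prime_two).1 h6
    rw [this] at hro
    exact absurd hro (by decide)
  have hinj : ∀ X Y : symplecticGroup (Fin 2) F, pi F X = pi F Y → X = Y := by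
    intro X Y h
    apply Subtype.ext
    rcases eq_or_neg h with h5 | h5
    · exact h5
    · rw [h5]
      ext i j
      simp [CharTwo.neg_eq]
  refine ⟨r, pi F (J F (tt (y : F) hy0, 1)), pi F (J F (1, uu F)), hr, ?_, ?_, piJ_comm _ _, ?_, not_nil _ 2⟩
  · refine orderOf_eq_prime ?_ ?_
    · rw [← map_pow, ← map_pow, ← map_one (pi F), ← map_one (J F)]
      congr 2
      refine Prod.ext ?_ (by simp)
      change tq F y ^ r = 1
      rw [← map_pow, ← hy, pow_orderOf_eq_one, map_one]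
    · intro h
      have h3 := congrArg (fun X : symplecticGroup (Fin 2) F => (X : Mx F)) (hinj _ _ (h.trans (map_one (pi F)).symm))
      have h4 := congrFun (congrFun (emb_inj (h3.trans (show _ = emb (1 : Matrix (Fin 2) (Fin 2) F) 1 from
          emb_one.symm))).1 0) 0
      simp [tt_coe] at h4
      exact hy1 (by rw [h4]; rfl)
  · refine Nat.Coprime.coprime_dvd_left (orderOf_dvd_of_pow_eq_one (n := 2) ?_) hro.coprime_two_left
    rw [← map_pow, ← map_pow, ← map_one (pi F), ← map_one (J F)]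
    congr 2
    refine Prod.ext ?_ ?_
    · simp
    · simpa only [_root_.Prod.pow_mk, _root_.one_pow, _root_.Prod.snd_one] using uu_pow_char 2
  · intro x hx hxz hxd
    obtain ⟨X, rfl⟩ := pi_surj x
    rw [← map_mul, ← map_mul] at hxz hxd
    have hz := congrArg (fun X : symplecticGroup (Fin 2) F => (X : Mx F)) (hinj _ _ hxz)
    have hd := congrArg (fun X : symplecticGroup (Fin 2) F => (X : Mx F)) (hinj _ _ hxd)
    simp only [Submonoid.coe_mul] at hz hd
    have hJ : (J F (tt (y : F) hy0, 1) : Mx F) = emb !![(y : F), 0; 0, (y : F)⁻¹] 1 := by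
      rw [J_coe]; simp only [Matrix.SpecialLinearGroup.coe_one]; rw [tt_coe]
    have hJd : (J F (1, uu F) : Mx F) = emb 1 !![1, 1; 0, 1] := by
      rw [J_coe]; simp only [Matrix.SpecialLinearGroup.coe_one]; rw [uu_coe]
    rw [hJ] at hz
    rw [hJd] at hd
    have hy1' : (y : F)⁻¹ ≠ 1 := fun h => hy1 (by rw [← inv_inv (y : F), h, inv_one])
    obtain ⟨A, c, n, hX, hdiag⟩ := eq_emb X.2 hy1 hy1' (l := 1) hd (by rw [one_smul]; exact hz)
    obtain ⟨hA01, hA10⟩ := hdiag hyy
    have hdet := emb_mem.1 (hX ▸ X.2)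
    have hc : c = 1 := by
      have h5 := hdet.2
      rw [det_fin_two] at h5
      simp only [_root_.Fin.isValue, _root_.Matrix.of_apply, _root_.Matrix.cons_val', _root_.Matrix.cons_val_zero, _root_.Matrix.cons_val_fin_one, _root_.Matrix.cons_val_one, _root_.MulZeroClass.mul_zero, _root_.sub_zero] at h5
      have h6 : (c - 1) * (c - 1) = 0 := by linear_combination h5 + (1 - c) * h2
      have h7 := mul_self_eq_zero.1 h6
      linear_combination h7
    subst hc
    have hXr : X ^ r = 1 := by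
      apply hinj
      rw [map_pow, map_one, ← hx, pow_orderOf_eq_one]
    have hpow : ∀ (A B : Matrix (Fin 2) (Fin 2) F) (k : ℕ), emb A B ^ k = emb (A ^ k) (B ^ k) := by
      intro A B k
      induction k with
      | zero => simp [emb_one]
      | succ k ih => rw [pow_succ, ih, emb_mul, ← pow_succ, ← pow_succ]
    have hXr' : emb (A ^ r) (!![1, n; 0, 1] ^ r) = emb 1 1 := by
      rw [← hpow, ← hX, emb_one, ← SubmonoidClass.coe_pow, hXr]
      rfl
    obtain ⟨hAr, hBr⟩ := emb_inj hXr'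
    have hn' : n = 0 := by
      have h5 : ∀ k : ℕ, (!![1, n; 0, 1] : Matrix (Fin 2) (Fin 2) F) ^ k = !![1, (k : F) * n; 0, 1] := by
        intro k
        induction k with
        | zero => ext i j; (revert i j; simp only [_root_.Fin.forall_fin_succ, _root_.pow_zero, _root_.Nat.cast_zero, _root_.MulZeroClass.zero_mul, _root_.Matrix.of_apply, _root_.Matrix.cons_val', _root_.Matrix.cons_val_fin_one, Fin.isValue, _root_.Matrix.cons_val_zero, _root_.Matrix.cons_val_succ, _root_.IsEmpty.forall_iff, _root_.and_true, _root_.Matrix.one_apply_eq, Nat.reduceAdd, _root_.Fin.succ_zero_eq_one, _root_.ne_eq, _root_.zero_ne_one, _root_.not_false_eq_true, _root_.Matrix.one_apply_ne, _root_.and_self, _root_.Fin.succ_ne_zero, _root_.true_and])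
        | succ k ih =>
          rw [pow_succ, ih]
          ext i j; (revert i j; simp [add_comm, add_mul, _root_.Fin.forall_fin_succ])
      rw [h5] at hBr
      have h6 := congrFun (congrFun hBr 0) 1
      simp only [_root_.Fin.isValue, _root_.Matrix.of_apply, _root_.Matrix.cons_val', _root_.Matrix.cons_val_one, _root_.Matrix.cons_val_fin_one, _root_.Matrix.cons_val_zero, _root_.ne_eq, _root_.zero_ne_one, _root_.not_false_eq_true, _root_.Matrix.one_apply_ne, _root_.mul_eq_zero] at h6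
      rcases h6 with h6 | h6
      · exfalso
        have h7 := (CharP.cast_eq_zero_iff F 2 r).1 h6
        exact absurd hro (Nat.not_odd_iff_even.2 (even_iff_two_dvd.2 h7))
      · exact h6
    subst hn'
    have hAd : A = !![A 0 0, 0; 0, A 1 1] := by
      ext i j; (revert i j; simp only [hA01, hA10, _root_.Fin.forall_fin_succ, Fin.isValue, _root_.Matrix.of_apply, _root_.Matrix.cons_val', _root_.Matrix.cons_val_fin_one, _root_.Matrix.cons_val_zero, _root_.Matrix.cons_val_succ, _root_.Fin.succ_zero_eq_one, _root_.IsEmpty.forall_iff, _root_.and_true, _root_.and_self])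
    have ha : A 0 0 ^ r = 1 := by
      have h5 : ∀ k : ℕ, (!![A 0 0, 0; 0, A 1 1] : Matrix (Fin 2) (Fin 2) F) ^ k = !![A 0 0 ^ k, 0; 0, A 1 1 ^ k] := by
        intro k
        induction k with
        | zero => ext i j; (revert i j; simp only [_root_.Fin.forall_fin_succ, Fin.isValue, _root_.pow_zero, _root_.Matrix.of_apply, _root_.Matrix.cons_val', _root_.Matrix.cons_val_fin_one, _root_.Matrix.cons_val_zero, _root_.Matrix.cons_val_succ, _root_.IsEmpty.forall_iff, _root_.and_true, _root_.Matrix.one_apply_eq, Nat.reduceAdd, _root_.Fin.succ_zero_eq_one, _root_.ne_eq, _root_.zero_ne_one, _root_.not_false_eq_true, _root_.Matrix.one_apply_ne, _root_.and_self, _root_.Fin.succ_ne_zero, _root_.true_and])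
        | succ k ih =>
          rw [pow_succ, ih]
          ext i j; (revert i j; simp [pow_succ, _root_.Fin.forall_fin_succ])
      rw [hAd, h5] at hAr
      have h6 := congrFun (congrFun hAr 0) 0
      simpa using h6
    obtain ⟨i, -, hi⟩ := hprim.eq_pow_of_pow_eq_one ha
    have hA11 : A 1 1 = (A 0 0)⁻¹ := by
      have h5 := hdet.1
      rw [det_fin_two, hA01, zero_mul, sub_zero] at h5
      exact (eq_inv_of_mul_eq_one_right h5)
    refine mem_zpowers_iff.2 ⟨(i : ℤ), ?_⟩
    rw [zpow_natCast, ← map_pow, ← map_pow]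
    congr 1
    apply Subtype.ext
    have h5 : ((tt (y : F) hy0, 1) : Matrix.SpecialLinearGroup (Fin 2) F × Matrix.SpecialLinearGroup (Fin 2) F) ^ i =
        (tq F (y ^ i), 1) := by
      refine Prod.ext ?_ (by simp)
      rw [map_pow]
      rfl
    rw [h5, hX, J_coe]
    simp only [Matrix.SpecialLinearGroup.coe_one]
    congr 1
    · rw [hAd]
      change (tt ((y ^ i : Fˣ) : F) (y ^ i).ne_zero : Matrix (Fin 2) (Fin 2) F) = _
      rw [tt_coe, hA11, Units.val_pow_eq_pow_val, hi]
    · ext i j; (revert i j; simp only [_root_.Fin.forall_fin_succ, _root_.Matrix.of_apply, _root_.Matrix.cons_val', _root_.Matrix.cons_val_fin_one, Fin.isValue, _root_.Matrix.cons_val_zero, _root_.Matrix.cons_val_succ, _root_.IsEmpty.forall_iff, _root_.and_true, _root_.Matrix.one_apply_eq, Nat.reduceAdd, _root_.Fin.succ_zero_eq_one, _root_.ne_eq, _root_.zero_ne_one, _root_.not_false_eq_true, _root_.Matrix.one_apply_ne, _root_.and_self, _root_.Fin.succ_ne_zero, _root_.true_and])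

theorem kill {F : Type*} [Field F] [Fintype F] (p : ℕ) [CharP F p] (h : 3 ≤ Fintype.card F) : Kill (PSp 2 F) := by
  have hp : Fact p.Prime := ⟨CharP.char_is_prime F p⟩
  by_cases h2 : (2 : F) = 0
  · have h3 : p = 2 := by
      have h4 : ((2 : ℕ) : F) = 0 := by exact_mod_cast h2
      rw [CharP.cast_eq_zero_iff F p] at h4
      exact (Nat.prime_dvd_prime_iff_eq hp.1 Nat.prime_two).1 h4
    subst h3
    exact kill_even (by rw [Nat.card_eq_fintype_card]; exact h)
  · exact kill_odd h2 p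

end Cfsg.Agent.H480.SpFour
end

-- part: H480/Swap
section
/-!
# Nilpotent minimal covers: groups of Lie type of rank two with an element swapping the nodes (helper480, S3925, S3926)

`Z` is a central subgroup of the Sylow subgroup `U c`, centralised by an element at distance `s_i` but by no element
at distance `s_j`.
-/

set_option autoImplicit false
set_option linter.unusedSectionVars false

namespace Cfsg.Agent.H480.Fr

open Cfsg.Agent.Tits.Core Cfsg.Agent.Tits.Core.Bldg Cfsg.Agent.Tits.Exchange Cfsg.Agent.Tits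
open Cfsg.Agent.FixBN Cfsg.Agent.FixBN.Cox Cfsg.Agent.UGT.U2.FOne Cfsg.Agent.ZN
open Cfsg.Agent.Omega.ML.LieRow Subgroup

variable {I : Type*} {M : CoxeterMatrix I} {W : Type*} [Group W] {cs : CoxeterSystem M W} {C : Type*}
  {Δ : Bldg cs C}

variable {H : Type*} [Group H] {K : Subgroup H} [MulAction K C] (A : HAct Δ K) {p : ℕ} (S : Sys Δ K p)

include A S

theorem conj_smul [K.Normal] (g : H) (k : K) (y : C) :
    A.θ g (k • y) = (MulAut.conjNormal g k : K) • A.θ g y := by
  rw [← A.θ_K, ← A.θ_K, ← A.θ_mul, ← A.θ_mul, MulAut.conjNormal_apply]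
  congr 1
  group

/-- elements swapping the nodes and fixing `c` do not fuse elements of `Z` -/
theorem not_mem_of_swap [K.Normal] {c : C} {i j : I} {Z : Subgroup K}
    (hu : ∃ u : K, Δ.δ c (u • c) = cs.simple i ∧ ∀ z ∈ Z, u * z = z * u)
    (hj : ∀ u : K, Δ.δ c (u • c) = cs.simple j → ∀ z ∈ Z, z ≠ 1 → u * z ≠ z * u)
    {g : H} (hg : A.θ g c = c) (hgi : A.σ g i = j) {z : K} (hz : z ∈ Z) (hz1 : z ≠ 1) :
    (MulAut.conjNormal g z : K) ∉ Z := by
  intro hzZ
  obtain ⟨u, hu1, hu2⟩ := hu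
  refine hj (MulAut.conjNormal g u) ?_ _ hzZ ?_ ?_
  · have h1 := conj_smul A S g u c
    rw [hg] at h1
    rw [← h1]
    have h2 := A.δ_θ g c (u • c)
    rw [hg, hu1, A.φ_simple, hgi] at h2
    exact h2
  · intro h1
    exact hz1 ((MulEquiv.map_eq_one_iff _).1 h1)
  · rw [← map_mul, hu2 z hz, map_mul]

/-- **No element swaps the nodes.** -/
theorem no_swap [K.Normal] [Finite H] [hp : Fact p.Prime] [F : OppRes.Cox cs] (hth : Δ.Thick) {c : C} {x : K}
    (hx : x ∈ S.U c) (hreg : ∀ i y, Δ.δ c y = cs.simple i → x • y ≠ y)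
    {i j : I} (hij : i ≠ j) (hall : ∀ k, k = i ∨ k = j)
    {Z : Subgroup K} (hZ1 : ∃ z ∈ Z, z ≠ 1) (hZU : Z ≤ S.U c) (hZc : ∀ z ∈ Z, ∀ u ∈ S.U c, u * z = z * u)
    (hu : ∃ u : K, Δ.δ c (u • c) = cs.simple i ∧ ∀ z ∈ Z, u * z = z * u)
    (hj : ∀ u : K, Δ.δ c (u • c) = cs.simple j → ∀ z ∈ Z, z ≠ 1 → u * z ≠ z * u)
    (hF : ∀ N : Subgroup H, N.Normal → Group.IsNilpotent ↥N → N = ⊥)
    (hp2 : p ≠ 2 ∨ ∀ z ∈ S.U c, (∀ u ∈ S.U c, u * z = z * u) → z ∈ Z)
    {𝓐 : Finset (Subgroup H)} (h : NMC 𝓐) (g : H) : A.σ g i = i := by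
  have hne : Nonempty C := ⟨c⟩
  obtain ⟨z, hz, hz1⟩ := hZ1
  by_contra hg0
  have hg0' : A.σ g i = j := (hall _).resolve_left hg0
  have key : ∀ g : H, A.θ g c = c → A.σ g i = j → (MulAut.conjNormal g z : K) ∉ Z := fun g h1 h2 =>
    not_mem_of_swap A S hu hj h1 h2 hz hz1
  rcases hp2 with hp2 | hp2
  · -- odd characteristic
    set! K1 : Subgroup H :=
      { carrier := {g | A.σ g i = i}
        mul_mem' := by
          intro a b ha hb
          change A.σ (a * b) i = i
          rw [A.σ_mul, hb, ha]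
        one_mem' := A.σ_one i
        inv_mem' := by
          intro a ha
          change A.σ a⁻¹ i = i
          have h1 := A.σ_inv_σ a i
          rwa [ha] at h1 } with hK1
    have hmem : ∀ g, g ∈ K1 ↔ A.σ g i = i := fun g => Iff.rfl
    have hidx : K1.index = 2 := by
      rw [Subgroup.index_eq_two_iff]
      refine ⟨g⁻¹, fun b => ?_⟩
      rw [hmem, hmem, A.σ_mul]
      have h1 : A.σ g⁻¹ i = j := by
        rcases hall (A.σ g⁻¹ i) with h2 | h2
        · exfalso
          have h3 := A.σ_inv_σ g⁻¹ i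
          rw [h2, inv_inv] at h3
          exact hg0 h3
        · exact h2
      rw [h1]
      rcases hall (A.σ b i) with h2 | h2
      · right
        refine ⟨h2, fun h3 => ?_⟩
        have h4 := A.σ_inv_σ b i
        have h5 := A.σ_inv_σ b j
        rw [h2] at h4
        rw [h3] at h5
        exact hij (h4.symm.trans h5)
      · left
        refine ⟨?_, fun h3 => hij (h3.symm.trans h2)⟩
        rcases hall (A.σ b j) with h3 | h3
        · exact h3
        · exfalso
          have h4 := A.σ_inv_σ b i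
          have h5 := A.σ_inv_σ b j
          rw [h2] at h4
          rw [h3] at h5
          exact hij (h4.symm.trans h5)
    have hn1 : K1.Normal := Subgroup.normal_of_index_eq_two hidx
    have hz1' : (z : H) ≠ 1 := fun h1 => hz1 (Subtype.ext h1)
    have hcop : (orderOf (z : H)).Coprime 2 := by
      obtain ⟨n, hn⟩ := S.isP c ⟨z, hZU hz⟩
      have hn' : (z : H) ^ p ^ n = 1 := by
        have h1 := congrArg (fun y : ↥(S.U c) => ((y : K) : H)) hn
        simpa only [_root_.SubmonoidClass.mk_pow, _root_.SubmonoidClass.coe_pow, _root_.OneMemClass.coe_one] using h1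
      refine Nat.Coprime.coprime_dvd_left (orderOf_dvd_of_pow_eq_one hn') ?_
      refine Nat.Coprime.pow_left n ?_
      rw [Nat.coprime_primes hp.1 Nat.prime_two]
      exact hp2
    obtain ⟨g, hg1, -, hgz⟩ := h.exists_outside hF K1 Nat.prime_two hidx hz1' hcop
    have hg1' : A.σ g i = j := (hall _).resolve_left hg1
    have hgz' : (MulAut.conjNormal g z : K) = z := by
      apply Subtype.ext
      rw [MulAut.conjNormal_apply, hgz]
      group
    -- the centraliser of `z`
    set! Cz : Subgroup K := centralizer ({z} : Set K) with hCz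
    have hUC : S.U c ≤ Cz := by
      intro u hu'
      rw [hCz, mem_centralizer_singleton_iff]
      exact hZc z hz u hu'
    set! V : Subgroup K := (S.U c).map (MulAut.conjNormal g : K ≃* K).toMonoidHom with hV
    have hVC : V ≤ Cz := by
      rintro _ ⟨u, hu', rfl⟩
      have h1 := hUC hu'
      rw [hCz, mem_centralizer_singleton_iff] at h1 ⊢
      have h2 := congrArg (MulAut.conjNormal g : K ≃* K) h1
      rw [map_mul, map_mul, hgz'] at h2
      exact h2
    have hfixc : ∀ y : C, (∀ u ∈ S.U c, u • y = y) → y = c := fun y hy =>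
      fix_unique S (S.fix c x hx) hreg (hy x hx)
    have hfixV : ∀ y : C, (∀ u ∈ V, u • y = y) → y = A.θ g c := by
      intro y hy
      have h1 : A.θ g⁻¹ y = c := by
        apply hfixc
        intro u hu'
        apply A.θ_inj g
        rw [conj_smul A S, A.θ_θ_inv]
        exact hy _ ⟨u, hu', rfl⟩
      rw [← h1, A.θ_θ_inv]
    -- both groups are Sylow subgroups of `Cz`
    have hsyl : ∀ (Q : Subgroup K) (d : C), IsPGroup p Q → (hQ : Q ≤ Cz) → (∀ y : C, (∀ u ∈ Q, u • y = y) → y = d) →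
        (∀ R : Subgroup K, IsPGroup p R → (∀ v ∈ R, v • d = d) → Q ≤ R → R ≤ Q) →
        ∃ P : Sylow p Cz, (P : Subgroup Cz) = Q.subgroupOf Cz := by
      intro Q d hQp hQ hfd hmax
      refine ⟨⟨Q.subgroupOf Cz, hQp.comap_of_injective _ Cz.subtype_injective, ?_⟩, rfl⟩
      intro R hR hle
      apply le_antisymm ?_ hle
      have hRp : IsPGroup p (R.map Cz.subtype) := hR.map _
      have hQR : Q ≤ R.map Cz.subtype := by
        intro q hq
        exact ⟨⟨q, hQ hq⟩, hle (by rw [mem_subgroupOf]; exact hq), rfl⟩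
      obtain ⟨d', hd'⟩ := S.exists_fix _ hRp
      have h1 : d' = d := hfd d' fun u hu' => hd' u (hQR hu')
      subst h1
      have h2 := hmax _ hRp hd' hQR
      intro r hr
      rw [mem_subgroupOf]
      exact h2 ⟨r, hr, rfl⟩
    obtain ⟨P1, hP1⟩ := hsyl (S.U c) c (S.isP c) hUC hfixc fun R hR hR' _ => S.max c R hR hR'
    obtain ⟨P2, hP2⟩ := hsyl V (A.θ g c) ((S.isP c).map _) hVC hfixV (by
      intro R hR hR' _
      -- conjugate back
      have h1 : R.map (MulAut.conjNormal g⁻¹ : K ≃* K).toMonoidHom ≤ S.U c := by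
        refine S.max c _ (hR.map _) ?_
        rintro _ ⟨r, hr, rfl⟩
        apply A.θ_inj g
        rw [conj_smul A S]
        have h2 := hR' r hr
        have h3 : (MulAut.conjNormal g ((MulAut.conjNormal g⁻¹ : K ≃* K).toMonoidHom r) : K) = r := by
          change (MulAut.conjNormal g) ((MulAut.conjNormal g⁻¹) r) = r
          rw [map_inv, MulAut.apply_inv_self]
        rw [h3]
        exact h2
      intro r hr
      refine ⟨(MulAut.conjNormal g⁻¹) r, h1 ⟨r, hr, rfl⟩, ?_⟩
      change (MulAut.conjNormal g) ((MulAut.conjNormal g⁻¹) r) = r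
      rw [map_inv, MulAut.apply_inv_self])
    obtain ⟨k, hk⟩ := MulAction.exists_smul_eq Cz P1 P2
    have hk2 : ∀ u ∈ S.U c, (k : K) * u * (k : K)⁻¹ ∈ V := by
      intro u hu'
      have h1 : (⟨u, hUC hu'⟩ : Cz) ∈ (P1 : Subgroup Cz) := by
        rw [hP1, mem_subgroupOf]
        exact hu'
      have h2 : k * ⟨u, hUC hu'⟩ * k⁻¹ ∈ ((k • P1 : Sylow p Cz) : Subgroup Cz) := by
        rw [Sylow.coe_subgroup_smul]
        exact ⟨⟨u, hUC hu'⟩, h1, rfl⟩
      rw [hk, hP2, mem_subgroupOf] at h2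
      exact h2
    have hk3 : ∀ v ∈ V, (k : K)⁻¹ * v * (k : K) ∈ S.U c := by
      intro v hv
      have h1 : (⟨v, hVC hv⟩ : Cz) ∈ (P2 : Subgroup Cz) := by
        rw [hP2, mem_subgroupOf]
        exact hv
      rw [← hk, Sylow.coe_subgroup_smul] at h1
      obtain ⟨w, hw, hwv⟩ := h1
      have h2 : k * w * k⁻¹ = ⟨v, hVC hv⟩ := hwv
      have h3 : (w : K) = (k : K)⁻¹ * v * (k : K) := by
        have h4 := congrArg Subtype.val h2
        have h5 : (k : K) * (w : K) * (k : K)⁻¹ = v := h4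
        rw [← h5]
        group
      rw [← h3]
      have h6 : w ∈ (P1 : Subgroup Cz) := hw
      rw [hP1, mem_subgroupOf] at h6
      exact h6
    have hkc : (k : K) • c = A.θ g c := by
      apply hfixV
      intro v hv
      have h1 := S.fix c _ (hk3 v hv)
      rw [mul_smul, mul_smul, inv_smul_eq_iff] at h1
      exact h1
    refine key (((k : K)⁻¹ : K) * g) ?_ ?_ ?_
    · rw [A.θ_mul, A.θ_K, ← hkc, inv_smul_smul]
    · rw [A.σ_mul, A.σ_K S, hg1']
    · have h1 : (MulAut.conjNormal ((((k : K)⁻¹ : K) : H) * g) z : K) = z := by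
        rw [map_mul, MulAut.mul_apply, hgz']
        apply Subtype.ext
        rw [MulAut.conjNormal_apply]
        have h2 : (k : K) * z = z * (k : K) := mem_centralizer_singleton_iff.1 k.2
        have h3 : (((k : K)⁻¹ : K) : H) * (z : H) * (((k : K)⁻¹ : K) : H)⁻¹ = (((k : K)⁻¹ * z * (k : K) : K) : H) := by
          simp only [_root_.InvMemClass.coe_inv, _root_.inv_inv, _root_.Subgroup.coe_mul]
        rw [h3]
        congr 1
        rw [mul_assoc, ← h2]
        group
      rw [h1]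
      exact hz
  · -- the centre of `U c` is `Z`
    obtain ⟨k, hk⟩ := exists_smul_top S hth c (A.θ g c)
    have hg1 : A.θ (((k : K)⁻¹ : K) * g) c = c := by
      rw [A.θ_mul, A.θ_K, ← hk, inv_smul_smul]
    have hg2 : A.σ (((k : K)⁻¹ : K) * g) i = j := by
      rw [A.σ_mul, A.σ_K S, hg0']
    obtain ⟨g', hg'⟩ : ∃ g' : H, g' = ((k : K)⁻¹ : K) * g := ⟨_, rfl⟩
    rw [← hg'] at hg1 hg2
    apply key g' hg1 hg2
    have hle : ∀ a : H, A.θ a c = c → ∀ u ∈ S.U c, (MulAut.conjNormal a u : K) ∈ S.U c := by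
      intro a ha u hu'
      refine S.max c ((S.U c).map (MulAut.conjNormal a : K ≃* K).toMonoidHom) ((S.isP c).map _) ?_ ⟨u, hu', rfl⟩
      rintro _ ⟨v, hv, rfl⟩
      have h1 := conj_smul A S a v c
      rw [ha, S.fix c v hv, ha] at h1
      exact h1.symm
    refine hp2 _ (hle g' hg1 z (hZU hz)) ?_
    intro u hu'
    have hginv : A.θ g'⁻¹ c = c := by
      have h1 := A.θ_inv_θ g' c
      rwa [hg1] at h1
    have h1 := hle g'⁻¹ hginv u hu'
    have h2 := hZc z hz _ h1
    have h3 := congrArg (MulAut.conjNormal g' : K ≃* K) h2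
    rw [map_mul, map_mul, map_inv, MulAut.apply_inv_self] at h3
    exact h3

end Cfsg.Agent.H480.Fr

namespace Cfsg.Agent.H480.Fr

open Cfsg.Agent.Tits.Core Cfsg.Agent.Tits.Core.Bldg Cfsg.Agent.Tits.Exchange Cfsg.Agent.Tits
open Cfsg.Agent.FixBN Cfsg.Agent.FixBN.Cox Cfsg.Agent.UGT.U2.FOne Cfsg.Agent.ZN
open Cfsg.Agent.Omega.ML.LieRow Subgroup Cfsg.Agent.Tits.OfBN Cfsg.Agent.Schreier.BNSch
  Cfsg.Agent.LieExceptional.BNPairCore

universe u v

/-- `Z` is central in `U`, centralised by an element of `B s B` but by no element of `B t B` -/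
structure Cen {S : Type*} [Group S] (P : Cfsg.BNPair S) (U : Subgroup S) (s t : S) (Z : Subgroup S) : Prop where
  ne : ∃ z ∈ Z, z ≠ 1
  le : Z ≤ U
  comm : ∀ z ∈ Z, ∀ u ∈ U, u * z = z * u
  nrm : ∀ b ∈ P.B, ∀ z ∈ Z, b * z * b⁻¹ ∈ Z
  ex : ∃ b ∈ P.B, ∃ b' ∈ P.B, ∀ z ∈ Z, (b * s * b') * z = z * (b * s * b')
  tri : ∀ z ∈ Z, t * z * t⁻¹ ∈ Z → z = 1

theorem Cen.map {K L : Type*} [Group K] [Group L] (e : K ≃* L) {P : Cfsg.BNPair K} {U : Subgroup K} {s t : K}
    {Z : Subgroup K} (h : Cen P U s t Z) :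
    Cen (Transport.mapBN e P) (U.map e.toMonoidHom) (e s) (e t) (Z.map e.toMonoidHom) where
  ne := by
    obtain ⟨z, hz, hz1⟩ := h.ne
    exact ⟨e z, ⟨z, hz, rfl⟩, fun h1 => hz1 ((MulEquiv.map_eq_one_iff _).1 h1)⟩
  le := Subgroup.map_mono h.le
  comm := by
    rintro _ ⟨z, hz, rfl⟩ _ ⟨u, hu, rfl⟩
    exact (map_mul e u z).symm.trans ((congrArg e (h.comm z hz u hu)).trans (map_mul e z u))
  nrm := by
    rintro _ ⟨b, hb, rfl⟩ _ ⟨z, hz, rfl⟩
    refine ⟨_, h.nrm b hb z hz, ?_⟩
    simp only [_root_.MulEquiv.toMonoidHom_eq_coe, _root_.MonoidHom.coe_coe, _root_.map_mul, _root_.map_inv]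
  ex := by
    obtain ⟨b, hb, b', hb', h1⟩ := h.ex
    refine ⟨e b, ⟨b, hb, rfl⟩, e b', ⟨b', hb', rfl⟩, ?_⟩
    rintro _ ⟨z, hz, rfl⟩
    have h2 := congrArg e (h1 z hz)
    simpa only [_root_.MulEquiv.toMonoidHom_eq_coe, _root_.MonoidHom.coe_coe, _root_.map_mul] using h2
  tri := by
    rintro _ ⟨z, hz, rfl⟩ h1
    obtain ⟨y, hy, hyz⟩ := h1
    have h2 : y = t * z * t⁻¹ := by
      apply e.injective
      rw [map_mul, map_mul, map_inv]
      exact hyz
    have h3 := h.tri z hz (by rw [← h2]; exact hy)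
    rw [h3]
    exact map_one e

/-- **Rank two, with a central subgroup distinguishing the nodes.** -/
theorem row_of_center {S : Type v} [Group S] [Finite S] {p : ℕ} [hp : Fact p.Prime] {P : Cfsg.BNPair S}
    {U : Subgroup S} (hP : Split P p U) {s t : S} (hS : P.S = {s, t}) (hst : s ≠ t) {Z : Subgroup S}
    (hZ : Cen P U s t Z) (hp2 : p ≠ 2 ∨ ∀ z ∈ U, (∀ u ∈ U, u * z = z * u) → z ∈ Z) : Row.{u} S := by
  intro G _ _ K hK hs hna hc hcyc f 𝓐 hA
  have hP' := Transport.split f P hP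
  have hZ' := hZ.map f
  have hp2' : p ≠ 2 ∨ ∀ z ∈ U.map f.toMonoidHom, (∀ u ∈ U.map f.toMonoidHom, u * z = z * u) →
      z ∈ Z.map f.toMonoidHom := by
    rcases hp2 with h | h
    · exact Or.inl h
    · right
      rintro _ ⟨z, hz, rfl⟩ h1
      refine ⟨z, h z hz fun u hu => f.injective ?_, rfl⟩
      rw [map_mul, map_mul]
      exact h1 _ ⟨u, hu, rfl⟩
  obtain ⟨P', hP'def⟩ : ∃ P', P' = Transport.mapBN f P := ⟨_, rfl⟩
  have hS' : P'.S = {f s, f t} := by
    rw [hP'def]
    change f '' P.S = _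
    rw [hS, Set.image_pair]
  rw [← hP'def] at hP' hZ'
  obtain ⟨U', hU'def⟩ : ∃ U', U' = U.map f.toMonoidHom := ⟨_, rfl⟩
  obtain ⟨Z', hZ'def⟩ : ∃ Z', Z' = Z.map f.toMonoidHom := ⟨_, rfl⟩
  rw [← hU'def] at hP' hZ' hp2'
  rw [← hZ'def] at hZ' hp2'
  have hsS : f s ∈ P'.S := by rw [hS']; exact Set.mem_insert _ _
  have htS : f t ∈ P'.S := by rw [hS']; exact Set.mem_insert_of_mem _ rfl
  obtain ⟨M, hM⟩ := Tits.Labels.exists_bnType (P := P')
  obtain ⟨Vs, hVs⟩ := hP'.node _ hsS
  obtain ⟨Vt, hVt⟩ := hP'.node _ htS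
  obtain ⟨x, hx, hxs, hxt⟩ := exists_not_mem_two hVs.ne hVt.ne
  set! i₀ : P'.S := ⟨f s, hsS⟩ with hi₀
  set! j₀ : P'.S := ⟨f t, htS⟩ with hj₀
  have hall : ∀ i : P'.S, i = i₀ ∨ i = j₀ := by
    rintro ⟨i, hi⟩
    have h1 := hi
    rw [hS'] at h1
    rcases h1 with rfl | h1
    · exact Or.inl rfl
    · rw [Set.mem_singleton_iff] at h1
      subst h1
      exact Or.inr rfl
  have hne : i₀ ≠ j₀ := fun h => hst (f.injective (congrArg Subtype.val h))
  have hK : K.Normal := hK
  have hxreg : ∀ i : P'.S, ∀ V : Subgroup K, Node P' U' (i : K) V → x ∉ V := by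
    intro i V' hV'
    rcases hall i with rfl | rfl
    · rw [node_unique hP'.le hV' hVs]; exact hxs
    · rw [node_unique hP'.le hV' hVt]; exact hxt
  obtain ⟨hN, cs, hcs⟩ := hM
  have hI : Finite P'.S := OfBN.finite_I (Equiv.refl P'.S)
  have hth := thick P' (Equiv.refl P'.S) cs hcs
  obtain ⟨A⟩ := exists_hact (OfBN.sys (Equiv.refl P'.S) cs hcs hP') hth
    (fun τ => UGT.U2.FOne.exists_mv hP' (Equiv.refl P'.S) cs hcs τ)
  have hUc : (OfBN.sys (Equiv.refl P'.S) cs hcs hP').U (QuotientGroup.mk 1) = U' := by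
    ext y
    change y ∈ OfBN.UU P' U' (QuotientGroup.mk 1) ↔ _
    rw [OfBN.mem_UU hP']
    have h1 : (1 : K)⁻¹ * y * 1 = y := by group
    rw [h1]
  obtain ⟨Δ, hΔ, Sy, A, hth, hUc⟩ : ∃ (Δ : Bldg cs (K ⧸ P'.B)) (_ : Δ = bldg P' (Equiv.refl P'.S) cs hcs)
      (Sy : Sys Δ K p) (_ : HAct Δ K), Δ.Thick ∧ Sy.U (QuotientGroup.mk 1) = U' := ⟨_, rfl, _, A, hth, hUc⟩
  set c : K ⧸ P'.B := QuotientGroup.mk 1 with hcdef
  have hcne : Nonempty (K ⧸ P'.B) := ⟨c⟩
  have hdist : ∀ (i : P'.S) (g : K), Δ.δ c (g • c) = cs.simple i ↔ ∃ b ∈ P'.B, ∃ b' ∈ P'.B, g = b * (i : K) * b' := by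
    intro i g
    have h1 : g • c = QuotientGroup.mk g := by
      rw [hcdef]
      change QuotientGroup.mk (g * 1) = _
      rw [mul_one]
    have h2 : Δ.δ c (g • c) = wt P' g := by
      rw [h1, hcdef, hΔ, bldg_δ_mk, inv_one, one_mul]
    rw [h2, hcs]
    constructor
    · intro h3
      obtain ⟨b, hb, b', hb', h4⟩ := mem_C.1 (mem_C_of_wt _ h3)
      exact ⟨b, hb, b', hb', h4⟩
    · rintro ⟨b, hb, b', hb', h4⟩
      exact wt_of_mem _ (mem_C.2 ⟨b, hb, b', hb', h4⟩)
  -- the chambers adjacent to `c`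
  have hadj : ∀ (i : P'.S) y, Δ.δ c y = cs.simple i → ∃ u ∈ U', y = QuotientGroup.mk (u * (i : K)) := by
    intro i y hy
    induction y using QuotientGroup.induction_on with
    | _ a =>
    have h0 : a • c = (QuotientGroup.mk a : K ⧸ P'.B) := by
      rw [hcdef]
      change QuotientGroup.mk (a * 1) = _
      rw [mul_one]
    obtain ⟨b, hb, b', hb', h2⟩ := (hdist i a).1 (by rw [h0]; exact hy)
    obtain ⟨u, hu, t, ht, rfl⟩ := hP'.cover' hb
    refine ⟨u, hu, ?_⟩
    have h3 := P'.conj_mem (i : K)⁻¹ (inv_mem (P'.subset i.2)) _ ht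
    rw [inv_inv] at h3
    have h4 : a = u * (i : K) * ((i : K)⁻¹ * t * (i : K) * b') := by rw [h2]; group
    rw [h4]
    exact QuotientGroup.mk_mul_of_mem _ (mul_mem h3 hb')
  have hfix : ∀ i : P'.S, ∀ u ∈ U', ∀ v ∈ U', v • (QuotientGroup.mk (u * (i : K)) : K ⧸ P'.B) =
      QuotientGroup.mk (u * (i : K)) → ∀ V : Subgroup K, Node P' U' (i : K) V → v ∈ V := by
    intro i u hu v hv hfix V hV
    rw [OfBN.smul_mk_eq] at hfix
    have h1 : (i : K)⁻¹ * (u⁻¹ * v * u) * (i : K) ∈ P'.B := by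
      have : (i : K)⁻¹ * (u⁻¹ * v * u) * (i : K) = (u * (i : K))⁻¹ * v * (u * (i : K)) := by group
      rwa [this]
    have h2 := hV.stab _ (mul_mem (mul_mem (inv_mem hu) hv) hu) h1
    have h3 := hV.conj_B u (hP'.le hu) _ h2
    have : u * (u⁻¹ * v * u) * u⁻¹ = v := by group
    rwa [this] at h3
  have hreg' : ∀ i y, Δ.δ c y = cs.simple i → x • y ≠ y := by
    intro i y hy hxy
    obtain ⟨u, hu, rfl⟩ := hadj i y hy
    obtain ⟨V, hV⟩ := hP'.node i i.2
    exact hxreg i V hV (hfix i u hu x hx hxy V hV)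
  have hx' : x ∈ Sy.U c := by rw [hUc]; exact hx
  have hZc : ∀ z ∈ Z', ∀ u ∈ Sy.U c, u * z = z * u := by
    rw [hUc]
    exact hZ'.comm
  have hF : ∀ N : Subgroup G, N.Normal → Group.IsNilpotent ↥N → N = ⊥ := no_nilpotent_normal K hs hna hc
  have hfixσ : ∀ g : G, A.σ g i₀ = i₀ := by
    intro g
    refine no_swap A Sy hth hx' hreg' hne hall hZ'.ne (by rw [hUc]; exact hZ'.le) hZc ?_ ?_ hF
      (by rw [hUc]; exact hp2') hA g
    · obtain ⟨b, hb, b', hb', h1⟩ := hZ'.ex
      exact ⟨b * f s * b', (hdist i₀ _).2 ⟨b, hb, b', hb', rfl⟩, h1⟩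
    · intro u hu z hz hz1 h1
      obtain ⟨b, hb, b', hb', rfl⟩ := (hdist j₀ u).1 hu
      have h2 := hZ'.nrm b' hb' z hz
      have h3 := hZ'.nrm b⁻¹ (inv_mem hb) z hz
      rw [inv_inv] at h3
      have h4 : f t * (b' * z * b'⁻¹) * (f t)⁻¹ = b⁻¹ * z * b := by
        have h5 : (b * f t * b') * z = z * (b * f t * b') := h1
        calc f t * (b' * z * b'⁻¹) * (f t)⁻¹ = b⁻¹ * ((b * f t * b') * z) * (b'⁻¹ * (f t)⁻¹) := by group
          _ = b⁻¹ * (z * (b * f t * b')) * (b'⁻¹ * (f t)⁻¹) := by rw [h5]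
          _ = _ := by group
      have h6 := hZ'.tri _ h2 (by rw [h4]; exact h3)
      apply hz1
      have h7 : z = b'⁻¹ * (b' * z * b'⁻¹) * b' := by group
      rw [h7, h6]
      group
  refine not_nmc A Sy hth hx' hreg' (J := {i₀}) ?_ ⟨i₀, rfl⟩ ?_ hA
  · intro g i hi
    rw [Set.mem_singleton_iff] at hi ⊢
    rw [hi]
    exact hfixσ g
  · intro h1
    have h2 : j₀ ∈ ({i₀} : Set P'.S) := by rw [h1]; trivial
    exact hne (Set.mem_singleton_iff.1 h2).symm

end Cfsg.Agent.H480.Fr
end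

-- part: OddHalf/D4/G2/Center
section
/-!
# ODD, D4, (1B), `G_2(q)`, `q` even: the centre of the unipotent group (helper368)

`center_le` : `Z(U) ≤ X_ρ`, `ρ` the highest root; `comm_11` : `X_ρ ≤ Z(U)`.
-/

set_option autoImplicit false
set_option linter.unusedSectionVars false

namespace Cfsg.Agent.OddHalf.D4.G2.Center

open Subgroup CoxeterSystem Cfsg.Agent.ChevalleyStructure.CoxeterGeom Cfsg.Agent.Tits.Roots Cfsg.Agent.Tits.Core
  Cfsg.Agent.Nodes.Reps Cfsg.Agent.Nodes.BNOf Cfsg.Agent.Nodes.Bruhat Cfsg.Agent.Nodes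
  Cfsg.Agent.Nodes.Coroot Cfsg.Agent.KFacts.ChevTwoInst Cfsg.Agent.KFacts.ChevTwoTab
  Cfsg.Agent.KFacts.RgdTI Cfsg.Agent.KFacts.RgdFilt Cfsg.Agent.KFacts.RgdBorelTits
  Cfsg.Agent.OddHalf.D4.Line Cfsg.Agent.OddHalf.D4.LineFilt Cfsg.Agent.OddHalf.D4.LineRgd
  Cfsg.Agent.OddHalf.D4.LineGTwo Cfsg.Agent.OddHalf.D4.LineGTwoInst
open Cfsg.Lie Cfsg.Agent.ChevalleyStructure Cfsg.Agent.ChevalleyStructure.Elts
  Cfsg.Agent.ChevalleyStructure.RootVec Cfsg.Agent.ChevalleyStructure.RootVecTab
  Cfsg.Agent.ChevalleyStructure.NPerm Cfsg.Agent.ChevalleyStructure.CoxeterGeomTypes Cfsg.Agent.Nodes.RGDChev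
open scoped commutatorElement

universe u

variable (K : Type u) [Field K] [CharP K 2]

/-- the unipotent group -/
abbrev Up : Subgroup ↥(chevG2.group K) := RGD.Sup (XX K) (RGD.Pos CS isType.isCartan)

/-- the height filtration -/
abbrev VV (j : ℕ) : Subgroup ↥(chevG2.group K) := V (Yp (cs := CS) (h := isType.isCartan) (XX K)) wt j

variable {K}

theorem xg_zero (r : ℕ) : xg K r 0 = 1 := Subtype.ext (xG_zero isType.inList _)

/-- the height of a root -/
theorem wt_eq {r : ℕ} (hr : 6 ≤ r) (hr' : r < 12) :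
    (wt (cs := CS) (h := isType.isCartan) ⟨vec chevG2 2 r, pos_vec hr hr'⟩ : ℤ) = rt chevG2 r 0 + rt chevG2 r 1 := by
  rw [wt_cast, ht_vec]

/-- the heights -/
def hts (r : ℕ) : ℕ := if r = 6 ∨ r = 7 then 1 else r - 6

theorem rt_hts {r : ℕ} (hr : 6 ≤ r) (hr' : r < 12) : rt chevG2 r 0 + rt chevG2 r 1 = (hts r : ℤ) := by
  obtain ⟨h1, h2, h3, h4, h5, h6⟩ := tab_ht
  have : r = 6 ∨ r = 7 ∨ r = 8 ∨ r = 9 ∨ r = 10 ∨ r = 11 := by omega
  rcases this with rfl | rfl | rfl | rfl | rfl | rfl <;> simp only [hts] <;> norm_num <;> assumption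

theorem wt_hts {r : ℕ} (hr : 6 ≤ r) (hr' : r < 12) :
    wt (cs := CS) (h := isType.isCartan) ⟨vec chevG2 2 r, pos_vec hr hr'⟩ = hts r := by
  have h1 := wt_eq hr hr'
  rw [rt_hts hr hr'] at h1
  exact_mod_cast h1

theorem hcomm (i j : {x // x ∈ RGD.Pos CS isType.isCartan}) :
    ∀ a ∈ Yp (cs := CS) (h := isType.isCartan) (XX K) i, ∀ b ∈ Yp (cs := CS) (h := isType.isCartan) (XX K) j,
    a * b * a⁻¹ * b⁻¹ ∈ VV K (wt j + 1) := by
  obtain ⟨x, hx⟩ := i
  obtain ⟨y, hy⟩ := j
  intro a ha b hb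
  by_cases hxy : x = y
  · subst hxy
    obtain ⟨r, hr, hr', rfl⟩ := pos_iff hx
    obtain ⟨t, rfl⟩ := (mem_XX hr').1 ha
    obtain ⟨u, rfl⟩ := (mem_XX hr').1 hb
    have e : xg K r t * xg K r u * (xg K r t)⁻¹ * (xg K r u)⁻¹ = 1 := by rw [xg_self]; group
    rw [e]
    exact one_mem _
  · have hxy' : x ≠ -y := by
      rintro rfl
      have h1 := ht_pos hx.2 hx.1.ne_zero
      have h2 := ht_pos hy.2 hy.1.ne_zero
      rw [map_neg] at h1
      omega
    have h1 := intComm_group isType K CS x y hx.1 hy.1 hxy hxy' a ha b hb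
    rw [commutatorElement_def] at h1
    refine (FS_le fun z hz => ?_ : FS (XX K) {z | IB CS isType.isCartan x y z} ≤ _) h1
    obtain ⟨hz1, i, j, hi, hj, rfl⟩ := hz
    have h2 := ht_pos hx.2 hx.1.ne_zero
    have h3 := ht_pos hy.2 hy.1.ne_zero
    refine X_le_V ⟨hz1, ?_⟩ ?_
    · intro k
      have h4 := hx.2 k
      have h5 := hy.2 k
      show 0 ≤ i * x k + j * y k
      exact add_nonneg (mul_nonneg hi.le h4) (mul_nonneg hj.le h5)
    · rw [map_add, map_zsmul, map_zsmul, smul_eq_mul, smul_eq_mul]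
      have h4 := wt_cast (cs := CS) (h := isType.isCartan) ⟨y, hy⟩
      have h5 : (wt (cs := CS) (h := isType.isCartan) ⟨y, hy⟩ : ℤ) = LineRgd.ht y := h4
      push_cast
      rw [h5]
      nlinarith only [hi, hj, h2, h3]

theorem Up_eq : Up K = VV K 0 := V_zero.symm

theorem mem_VV {r : ℕ} (hr : 6 ≤ r) (hr' : r < 12) {j : ℕ} (hj : j ≤ hts r) (t : K) : xg K r t ∈ VV K j :=
  X_le_V (pos_vec hr hr') (by rw [ht_vec, rt_hts hr hr']; exact_mod_cast hj) ((mem_XX hr').2 ⟨t, rfl⟩)

theorem VV_norm (d : ℕ) {s : ↥(chevG2.group K)} (hs : s ∈ VV K 0) : ∀ u ∈ VV K d, s * u * s⁻¹ ∈ VV K d :=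
  V_norm hcomm d hs

/-- a single root of height `j` -/
theorem step {r : ℕ} (hr : 6 ≤ r) (hr' : r < 12) {j : ℕ} (h1 : hts r = j)
    (h2 : ∀ s, 6 ≤ s → s < 12 → hts s = j → s = r) {y : ↥(chevG2.group K)} (hy : y ∈ VV K j) :
    ∃ t, ∃ v ∈ VV K (j + 1), y = xg K r t * v := by
  refine V_induction (C := fun y => ∃ t, ∃ v ∈ VV K (j + 1), y = xg K r t * v) hy ?_ ?_ ?_
  · rintro ⟨x, hx⟩ hi g hg
    obtain ⟨s, hs, hs', rfl⟩ := pos_iff hx
    obtain ⟨t, rfl⟩ := (mem_XX hs').1 hg
    rw [wt_hts hs hs'] at hi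
    by_cases h3 : hts s = j
    · have h4 := h2 s hs hs' h3
      subst h4
      exact ⟨t, 1, one_mem _, by rw [mul_one]⟩
    · exact ⟨0, xg K s t, mem_VV hs hs' (by omega) t, by rw [xg_zero, one_mul]⟩
  · exact ⟨0, 1, one_mem _, by rw [xg_zero, one_mul]⟩
  · rintro _ _ - - ⟨t, v, hv, rfl⟩ ⟨t', v', hv', rfl⟩
    refine ⟨t + t', (xg K r t')⁻¹ * v * xg K r t' * v', mul_mem ?_ hv', by rw [xg_add]; group⟩
    have h3 := VV_norm (j + 1) (inv_mem (mem_VV hr hr' (Nat.zero_le _) t')) v hv
    rwa [inv_inv] at h3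

theorem VV_six : VV K 6 = ⊥ := by
  rw [eq_bot_iff]
  refine V_le fun i hi => ?_
  exfalso
  obtain ⟨x, hx⟩ := i
  obtain ⟨s, hs, hs', rfl⟩ := pos_iff hx
  rw [wt_hts hs hs'] at hi
  simp only [hts] at hi
  split_ifs at hi <;> omega

theorem hts_uniq {r j : ℕ} (hr : 8 ≤ r) (h1 : hts r = j) (s : ℕ) (hs : 6 ≤ s) (hs' : s < 12) (h2 : hts s = j) :
    s = r := by
  simp only [hts] at h1 h2
  split_ifs at h1 h2 <;> omega

theorem step5 {y : ↥(chevG2.group K)} (hy : y ∈ VV K 5) : ∃ f, y = xg K 11 f := by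
  obtain ⟨f, v, hv, rfl⟩ := step (K := K) (r := 11) (j := 5) (by norm_num) (by norm_num) rfl
    (hts_uniq (by norm_num) rfl) hy
  rw [show (5 + 1 : ℕ) = 6 from rfl, VV_six, Subgroup.mem_bot] at hv
  subst hv
  exact ⟨f, by rw [mul_one]⟩

theorem step4 {y : ↥(chevG2.group K)} (hy : y ∈ VV K 4) : ∃ e f, y = xg K 10 e * xg K 11 f := by
  obtain ⟨e, v, hv, rfl⟩ := step (K := K) (r := 10) (j := 4) (by norm_num) (by norm_num) rfl
    (hts_uniq (by norm_num) rfl) hy
  obtain ⟨f, rfl⟩ := step5 hv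
  exact ⟨e, f, rfl⟩

theorem step2 {y : ↥(chevG2.group K)} (hy : y ∈ VV K 2) :
    ∃ c d e f, y = xg K 8 c * (xg K 9 d * (xg K 10 e * xg K 11 f)) := by
  obtain ⟨c, v, hv, rfl⟩ := step (K := K) (r := 8) (j := 2) (by norm_num) (by norm_num) rfl
    (hts_uniq (by norm_num) rfl) hy
  obtain ⟨d, w, hw, rfl⟩ := step (K := K) (r := 9) (j := 3) (by norm_num) (by norm_num) rfl
    (hts_uniq (by norm_num) rfl) hv
  obtain ⟨e, f, rfl⟩ := step4 hw
  exact ⟨c, d, e, f, rfl⟩

section

variable [Finite K]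

theorem gen_cases (i : Fin 6) (hi : i ≠ 1) (t : K) (g : ↥(chevG2.group K)) (hg : g = xs K i t) :
    ∃ a, ∃ v ∈ VV K 2, g = xg K 7 a * v := by
  have key : ∀ r, 8 ≤ r → r < 12 → g = xg K r t → ∃ a, ∃ v ∈ VV K 2, g = xg K 7 a * v := by
    rintro r hr hr' rfl
    refine ⟨0, xg K r t, mem_VV (by omega) hr' ?_ t, by rw [xg_zero, one_mul]⟩
    simp only [hts]
    split_ifs <;> omega
  have h1 : i = 0 ∨ i = 2 ∨ i = 3 ∨ i = 4 ∨ i = 5 := by
    clear hg
    revert i
    decide
  rcases h1 with rfl | rfl | rfl | rfl | rfl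
  · exact ⟨t, 1, one_mem _, by rw [mul_one]; exact hg⟩
  · exact key 8 (by norm_num) (by norm_num) hg
  · exact key 9 (by norm_num) (by norm_num) hg
  · exact key 10 (by norm_num) (by norm_num) hg
  · exact key 11 (by norm_num) (by norm_num) hg

/-- `U` in terms of root elements -/
theorem exists_decomp' {y : ↥(chevG2.group K)} (hy : y ∈ Up K) :
    ∃ s a, ∃ v ∈ VV K 2, y = xg K 6 s * (xg K 7 a * v) := by
  obtain ⟨s, z, hz, rfl⟩ := (gu (K := K)).exists_decomp (Upos_le hy)
  suffices h : ∃ a, ∃ v ∈ VV K 2, z = xg K 7 a * v by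
    obtain ⟨a, v, hv, rfl⟩ := h
    exact ⟨s, a, v, hv, rfl⟩
  refine Subgroup.iSup_induction (fun i : {i : Fin 6 // i ≠ 1} => (gu (K := K)).R i.1)
    (C := fun z => ∃ a, ∃ v ∈ VV K 2, z = xg K 7 a * v) hz ?_ ?_ ?_
  · rintro ⟨i, hi⟩ g ⟨t, ht⟩
    exact gen_cases i hi t g ht
  · exact ⟨0, 1, one_mem _, by rw [xg_zero, one_mul]⟩
  · rintro _ _ ⟨t, v, hv, rfl⟩ ⟨t', v', hv', rfl⟩
    refine ⟨t + t', (xg K 7 t')⁻¹ * v * xg K 7 t' * v', mul_mem ?_ hv', by rw [xg_add]; group⟩
    have h3 := VV_norm 2 (inv_mem (mem_VV (K := K) (r := 7) (by norm_num) (by norm_num) (Nat.zero_le _) t')) v hv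
    rwa [inv_inv] at h3

theorem mem_Up {r : ℕ} (hr : 6 ≤ r) (hr' : r < 12) (t : K) : xg K r t ∈ Up K := by
  rw [Up_eq]
  exact mem_VV hr hr' (Nat.zero_le _) t

/-- **`Z(U) ≤ X_ρ`** -/
theorem center_le {z : ↥(chevG2.group K)} (hz : z ∈ Up K) (hc : ∀ u ∈ Up K, u * z = z * u) : ∃ t, z = xg K 11 t := by
  have G := gu (K := K)
  obtain ⟨s, a, v, hv, rfl⟩ := exists_decomp' hz
  obtain ⟨c, d, e, f, rfl⟩ := step2 hv
  -- action on `x 10`
  have c710 : ∀ t u, xg K 7 t * xg K 10 u = xg K 10 u * xg K 7 t := G.c04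
  have c810 : ∀ t u, xg K 8 t * xg K 10 u = xg K 10 u * xg K 8 t := G.c24
  have c811 : ∀ t u, xg K 8 t * xg K 11 u = xg K 11 u * xg K 8 t := G.c25
  have c910 : ∀ t u, xg K 9 t * xg K 10 u = xg K 10 u * xg K 9 t := G.c34
  have c911 : ∀ t u, xg K 9 t * xg K 11 u = xg K 11 u * xg K 9 t := G.c35
  have c1011 : ∀ t u, xg K 10 t * xg K 11 u = xg K 11 u * xg K 10 t := G.c45
  have c711 : ∀ t u, xg K 7 t * xg K 11 u = xg K 11 u * xg K 7 t := G.c05
  have hs : s = 0 := by
    have h1 := hc _ (mem_Up (K := K) (r := 10) (by norm_num) (by norm_num) 1)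
    have h2 : xg K 7 a * (xg K 8 c * (xg K 9 d * (xg K 10 e * xg K 11 f))) * xg K 10 1 =
        xg K 10 1 * (xg K 7 a * (xg K 8 c * (xg K 9 d * (xg K 10 e * xg K 11 f)))) := by
      have e1 := xg_self (K := K) 10 e 1
      simp only [mul_assoc]
      rw [← c1011 1 f, ← mul_assoc (xg K 10 e), e1, mul_assoc (xg K 10 1), ← mul_assoc (xg K 9 d), c910,
        mul_assoc (xg K 10 1), ← mul_assoc (xg K 8 c), c810, mul_assoc (xg K 10 1), ← mul_assoc (xg K 7 a), c710,
        mul_assoc (xg K 10 1)]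
    have h3 : xg K 10 1 * xg K 6 s = xg K 6 s * xg K 10 1 := by
      generalize xg K 7 a * (xg K 8 c * (xg K 9 d * (xg K 10 e * xg K 11 f))) = w at h1 h2
      rw [mul_assoc (xg K 6 s), h2, ← mul_assoc, ← mul_assoc] at h1
      exact mul_right_cancel h1
    have h4 : xg K 10 1 * xg K 6 s = xg K 11 (s * 1) * (xg K 6 s * xg K 10 1) := eb s 1
    rw [h3] at h4
    have h5 := mul_eq_right.1 h4.symm
    have h6 := xg_inj (by norm_num) h5
    rwa [mul_one] at h6
  subst hs
  rw [xg_zero, one_mul] at hc ⊢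
  -- action on `x 9`
  have hac : a = 0 ∧ c = 0 := by
    have h1 := hc _ (mem_Up (K := K) (r := 9) (by norm_num) (by norm_num) 1)
    have h2 : xg K 8 c * (xg K 9 d * (xg K 10 e * xg K 11 f)) * xg K 9 1 =
        xg K 8 c * xg K 9 1 * (xg K 9 d * (xg K 10 e * xg K 11 f)) := by
      have e1 := xg_self (K := K) 9 d 1
      simp only [mul_assoc]
      rw [← c911 1 f, ← mul_assoc (xg K 10 e), ← c910, mul_assoc (xg K 9 1), ← mul_assoc (xg K 9 d), e1,
        mul_assoc (xg K 9 1)]
    rw [mul_assoc, h2, ← mul_assoc, ← mul_assoc, ← mul_assoc, ← mul_assoc] at h1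
    have h3 : xg K 9 1 * xg K 7 a * xg K 8 c = xg K 7 a * xg K 8 c * xg K 9 1 := by
      have h4 : xg K 9 1 * xg K 7 a * xg K 8 c * (xg K 9 d * (xg K 10 e * xg K 11 f)) =
          xg K 7 a * xg K 8 c * xg K 9 1 * (xg K 9 d * (xg K 10 e * xg K 11 f)) := by
        simp only [mul_assoc] at h1 ⊢
        exact h1
      exact mul_right_cancel h4
    have h4 : xg K 9 1 * xg K 7 a = xg K 10 (a * 1) * (xg K 7 a * xg K 9 1) := da a 1
    have h5 : xg K 9 1 * xg K 8 c = xg K 11 (c * 1) * (xg K 8 c * xg K 9 1) := dc c 1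
    rw [mul_one] at h4 h5
    have h6 : xg K 9 1 * xg K 7 a * xg K 8 c = xg K 10 a * xg K 11 c * (xg K 7 a * xg K 8 c * xg K 9 1) := by
      calc xg K 9 1 * xg K 7 a * xg K 8 c = xg K 10 a * xg K 7 a * (xg K 9 1 * xg K 8 c) := by
            rw [h4]; simp only [mul_assoc]
        _ = xg K 10 a * (xg K 7 a * xg K 11 c) * (xg K 8 c * xg K 9 1) := by rw [h5]; simp only [mul_assoc]
        _ = _ := by rw [c711]; simp only [mul_assoc]
    rw [h3] at h6
    exact G.ind4 a c (mul_eq_right.1 h6.symm)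
  obtain ⟨rfl, rfl⟩ := hac
  rw [xg_zero, xg_zero, one_mul, one_mul] at hc ⊢
  -- action on `x 7`
  have hd : d = 0 := by
    have h1 := hc _ (mem_Up (K := K) (r := 7) (by norm_num) (by norm_num) 1)
    have h2 : xg K 9 d * (xg K 10 e * xg K 11 f) * xg K 7 1 = xg K 9 d * xg K 7 1 * (xg K 10 e * xg K 11 f) := by
      simp only [mul_assoc]
      rw [← c711 1 f, ← mul_assoc (xg K 10 e), ← c710, mul_assoc (xg K 7 1)]
    rw [h2, ← mul_assoc] at h1
    have h3 := mul_right_cancel h1
    have h4 : xg K 9 d * xg K 7 1 = xg K 10 (1 * d) * (xg K 7 1 * xg K 9 d) := da 1 d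
    rw [← h3] at h4
    have h5 := xg_inj (by norm_num) (mul_eq_right.1 h4.symm)
    rwa [one_mul] at h5
  subst hd
  rw [xg_zero, one_mul] at hc ⊢
  -- action on `x 6`
  have he : e = 0 := by
    have h1 := hc _ (mem_Up (K := K) (r := 6) (by norm_num) (by norm_num) 1)
    have c611 : ∀ t u, xg K 6 t * xg K 11 u = xg K 11 u * xg K 6 t := G.c15
    rw [mul_assoc, ← c611 1 f, ← mul_assoc, ← mul_assoc] at h1
    have h3 := mul_right_cancel h1
    have h4 : xg K 10 e * xg K 6 1 = xg K 11 (1 * e) * (xg K 6 1 * xg K 10 e) := eb 1 e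
    rw [← h3] at h4
    have h5 := xg_inj (by norm_num) (mul_eq_right.1 h4.symm)
    rwa [one_mul] at h5
  subst he
  rw [xg_zero, one_mul]
  exact ⟨f, rfl⟩

end

end Cfsg.Agent.OddHalf.D4.G2.Center
end

-- part: H480/RowGTwo
section
/-!
# Nilpotent minimal covers: `G_2(q)` (helper480, S3925, S3926)
-/

set_option autoImplicit false
set_option linter.unusedSectionVars false

namespace Cfsg.Agent.H480.Fr

open CoxeterSystem Cfsg.Agent.ChevalleyStructure.CoxeterGeom Cfsg.Agent.Tits.Roots Cfsg.Agent.Tits.Core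
  Cfsg.Agent.Tits.RootComb Cfsg.Agent.Nodes.Comb Cfsg.Agent.Nodes.Reps Cfsg.Agent.Nodes.BNOf Cfsg.Agent.FixBN
  Cfsg.Agent.KFacts.RgdFilt Cfsg.Agent.KFacts.RgdBorelTits Subgroup
open scoped commutatorElement

universe u v

/-- **Root group data of rank two with a central root group.** -/
theorem row_of_rgd_center {S : Type v} [Group S] [Finite S] (hs : IsSimpleGroup S) {p : ℕ} [hp : Fact p.Prime]
    {W : Type*} [Group W] [Finite W] {M : CoxeterMatrix (Fin 2)} {cs : CoxeterSystem M W} {A : Fin 2 → Fin 2 → ℤ}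
    {h : IsCartan M A} {T : Subgroup S} {n : Fin 2 → S} {X : (Fin 2 → ℤ) → Subgroup S} (R : RGD cs h p T n X)
    (hG1 : Nodes.RGDLib.G1 cs h X = ⊤) (hI : IntComm cs h X) {i j : Fin 2} (hij : i ≠ j) {ρ : Fin 2 → ℤ}
    (hρ : ρ ∈ RGD.Pos cs h) (hX : ∃ z ∈ X ρ, z ≠ 1) (hab : ∀ a ∈ X ρ, ∀ b ∈ X ρ, b * a = a * b)
    (h1 : ∀ y ∈ RGD.Pos cs h, y ≠ ρ → ∀ z, ¬ IB cs h ρ y z) (h2 : ∀ z, ¬ IB cs h ρ (-sr i) z) (hρi : ρ ≠ sr i)
    (h3 : X (rep cs h (cs.simple j) ρ) ⊓ X ρ = ⊥)
    (hp2 : p ≠ 2 ∨ ∀ z ∈ RGD.Sup X (RGD.Pos cs h), (∀ u ∈ RGD.Sup X (RGD.Pos cs h), u * z = z * u) → z ∈ X ρ) :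
    Row.{u} S := by
  have hgen : RGD.B cs h T X ⊔ NN cs R.nsys = ⊤ := by
    rw [eq_top_iff, ← hG1]
    exact Nodes.RGDLib.rgd_G1_le R
  have hne : (R.bnPair hgen).S.Nonempty := ⟨n i, i, rfl⟩
  have hP := SplitRGD.split_of_rgd hp.1 R hgen (Cfsg.Agent.Tits.OfBN.normalCore_eq_bot (R.bnPair hgen) hne)
  have hall : ∀ k, k = i ∨ k = j := by
    intro k
    fin_cases i <;> fin_cases j <;> fin_cases k <;> first | exact absurd rfl hij | exact Or.inl rfl | exact Or.inr rfl
  have hcomm0 : ∀ x y, IsRoot cs h x → IsRoot cs h y → x ≠ y → x ≠ -y → (∀ z, ¬ IB cs h x y z) →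
      ∀ a ∈ X x, ∀ b ∈ X y, b * a = a * b := by
    intro x y hx hy hxy hxy' hn a ha b hb
    have e := hI x y hx hy hxy hxy' a ha b hb
    have e2 : FS X {z | IB cs h x y z} = ⊥ := by
      rw [eq_bot_iff]
      exact FS_le fun z hz => absurd hz (hn z)
    rw [e2, Subgroup.mem_bot, commutatorElement_eq_one_iff_mul_comm] at e
    exact e.symm
  have hneg : ∀ y ∈ RGD.Pos cs h, ρ ≠ -y := by
    intro y hy h4
    have h5 := RGD.ht_pos hρ.1 hρ.2
    have h6 := RGD.ht_pos hy.1 hy.2
    have h7 : ∀ k, y k = 0 := by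
      intro k
      have h8 : 0 ≤ ρ k := hρ.2 k
      have h9 : 0 ≤ y k := hy.2 k
      rw [h4, Pi.neg_apply] at h8
      omega
    exact hy.1.ne_zero (funext h7)
  refine row_of_center (P := R.bnPair hgen) (U := RGD.Sup X (RGD.Pos cs h)) hP (s := n i) (t := n j) ?_ ?_
    (Z := X ρ) ⟨hX, RGD.le_Sup hρ, ?_, ?_, ?_, ?_⟩ hp2
  · change Set.range n = _
    ext x
    constructor
    · rintro ⟨k, rfl⟩
      rcases hall k with rfl | rfl
      · exact Set.mem_insert _ _
      · exact Set.mem_insert_of_mem _ rfl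
    · rintro (rfl | rfl)
      · exact ⟨_, rfl⟩
      · exact ⟨_, rfl⟩
  · exact fun h4 => hij (R.n_injective h4)
  · intro z hz u hu
    refine Subgroup.iSup_induction (fun y : RGD.Pos cs h => X y.1) (C := fun u => u * z = z * u) hu ?_ ?_ ?_
    · rintro ⟨y, hy⟩ b hb
      by_cases hyρ : y = ρ
      · subst hyρ
        exact hab z hz b hb
      · exact hcomm0 ρ y hρ.1 hy.1 (Ne.symm hyρ) (hneg y hy) (h1 y hy hyρ) z hz b hb
    · rw [one_mul, mul_one]
    · intro a b ha hb
      rw [mul_assoc, hb, ← mul_assoc, ha, mul_assoc]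
  · intro b hb z hz
    obtain ⟨t, ht, u, hu, rfl⟩ := R.mem_B.1 (show b ∈ RGD.B cs h T X from hb)
    have h4 : u * z = z * u := by
      refine Subgroup.iSup_induction (fun y : RGD.Pos cs h => X y.1) (C := fun u => u * z = z * u) hu ?_ ?_ ?_
      · rintro ⟨y, hy⟩ b hb
        by_cases hyρ : y = ρ
        · subst hyρ
          exact hab z hz b hb
        · exact hcomm0 ρ y hρ.1 hy.1 (Ne.symm hyρ) (hneg y hy) (h1 y hy hyρ) z hz b hb
      · rw [one_mul, mul_one]
      · intro a b ha hb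
        rw [mul_assoc, hb, ← mul_assoc, ha, mul_assoc]
    have h5 : t * u * z * (t * u)⁻¹ = t * z * t⁻¹ := by
      calc t * u * z * (t * u)⁻¹ = t * (u * z) * u⁻¹ * t⁻¹ := by group
        _ = _ := by rw [h4]; group
    rw [h5]
    have h6 := R.tor ρ hρ.1 t ht
    have h7 : t * z * t⁻¹ ∈ cj t (X ρ) := conj_mem_cj.2 hz
    rwa [h6] at h7
  · -- the negative root group
    have hXn : X (-sr i) ≠ ⊥ := Nodes.Bruhat.X_ne_bot R (isRoot_sr cs h i).neg
    obtain ⟨u, hu, hu1⟩ := (Subgroup.bot_or_exists_ne_one (X (-sr i))).resolve_left hXn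
    obtain ⟨a, ha, t, ht, b, hb, hub⟩ := R.rk1 i u hu hu1
    have hXB : X (sr i) ≤ RGD.B cs h T X := RGD.X_le_B (isRoot_sr cs h i) (sr_nonneg i)
    refine ⟨a * t, mul_mem (hXB ha) (RGD.T_le_B ht), b, hXB hb, ?_⟩
    intro z hz
    rw [← hub]
    refine hcomm0 ρ (-sr i) hρ.1 (isRoot_sr cs h i).neg ?_ ?_ h2 z hz u hu
    · intro h4
      have h5 := hneg (sr i) ⟨isRoot_sr cs h i, sr_nonneg i⟩
      exact h5 h4
    · rw [neg_neg]
      exact hρi
  · intro z hz hzt
    have h4 := R.conj_mem (rp_simple cs R.nsys j) hρ.1 hz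
    have h5 : n j * z * (n j)⁻¹ ∈ X (rep cs h (cs.simple j) ρ) ⊓ X ρ := ⟨h4, hzt⟩
    rw [h3, Subgroup.mem_bot] at h5
    have h6 : z = (n j)⁻¹ * (n j * z * (n j)⁻¹) * n j := by group
    rw [h6, h5]
    group

end Cfsg.Agent.H480.Fr

namespace Cfsg.Agent.H480.GTwo

open CoxeterSystem Cfsg.Agent.ChevalleyStructure.CoxeterGeom Cfsg.Agent.Tits.Roots Cfsg.Agent.Tits.Core
  Cfsg.Agent.Nodes.Reps Cfsg.Agent.Nodes.BNOf Cfsg.Agent.KFacts.RgdFilt Cfsg.Agent.KFacts.RgdBorelTits Subgroup
  Cfsg.Agent.OddHalf.D4.LineFilt Cfsg.Agent.OddHalf.D4.LineRgd Cfsg.Agent.OddHalf.D4.LineGTwoInst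
open Cfsg.Lie Cfsg.Agent.ChevalleyStructure Cfsg.Agent.ChevalleyStructure.Elts
  Cfsg.Agent.ChevalleyStructure.RootVec Cfsg.Agent.ChevalleyStructure.RootVecTab
  Cfsg.Agent.ChevalleyStructure.NPerm Cfsg.Agent.ChevalleyStructure.CoxeterGeomTypes Cfsg.Agent.Nodes.RGDChev
open scoped commutatorElement

universe u v

theorem tab : ∀ r ∈ List.range 12, 2 ≤ rt chevG2 r 1 → rt chevG2 r 0 = 3 ∧ rt chevG2 r 1 = 2 := by decide +kernel

theorem tab11 : rt chevG2 11 0 = 3 ∧ rt chevG2 11 1 = 2 := by decide +kernel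

theorem tab_refl : chevG2.reflectRoot 1 11 = 10 := by decide +kernel

theorem root_cases {z : Fin 2 → ℤ} (hz : IsRoot CS isType.isCartan z) (h : 2 ≤ z 1) : z 0 = 3 ∧ z 1 = 2 := by
  obtain ⟨r, hr, rfl⟩ := (isRoot_iff isType CS z).1 hz
  rw [nroots_eq] at hr
  exact tab r (List.mem_range.2 hr) h

theorem xg_add' {F : Type v} [Field F] (r : ℕ) (t u : F) : xg F r (t + u) = xg F r t * xg F r u :=
  Subtype.ext (xG_add isType.inList _ _ _).symm

theorem xg_inj' {F : Type v} [Field F] {r : ℕ} (hr : r < 12) {t : F} (h : xg F r t = 1) : t = 0 :=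
  (xG_eq_one_iff isType.inList (by rw [nroots_eq]; exact hr) t).1 (congrArg Subtype.val h)

/-- **The row `G_2(q)`.** -/
theorem row_g2 {p : ℕ} [hp : Fact p.Prime] (F : Type v) [Field F] [Finite F] [CharP F p] :
    Row.{u} ↥(chevG2.group F) := by
  intro G _ _ K hK hs hna hc hcyc f
  have hsS : IsSimpleGroup ↥(chevG2.group F) := (MulEquiv.isSimpleGroup_congr f).2 hs
  have hfin : Finite ↥(chevG2.group F) := inferInstance
  have hW : Finite CoxeterMatrix.G₂.Group := finite_W isType CS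
  have hρ := pos_vec (r := 11) (by norm_num) (by norm_num)
  have h11 : ∀ {g : ↥(chevG2.group F)}, g ∈ (XV chevG2 2 F (vec chevG2 2 11)).subgroupOf (chevG2.group F) ↔
      ∃ t, g = xg F 11 t := by
    intro g
    rw [Subgroup.mem_subgroupOf, XV_vec isType F (lt_nroots (by norm_num)), mem_rootSubgroup_iff isType.inList]
    constructor
    · rintro ⟨t, ht⟩
      exact ⟨t, Subtype.ext ht⟩
    · rintro ⟨t, rfl⟩
      exact ⟨t, rfl⟩
  have hsr : (sr 0 : Fin 2 → ℤ) 0 = 1 := sr_self 0
  have hsr1 : (sr 0 : Fin 2 → ℤ) 1 = 0 := sr_ne (by decide)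
  have hv0 : vec chevG2 2 11 0 = 3 := tab11.1
  have hv1 : vec chevG2 2 11 1 = 2 := tab11.2
  refine Fr.row_of_rgd_center hsS (rgd (K := F) isType CS p) (G1_eq_top isType CS) (intComm_group isType F CS)
    (i := 0) (j := 1) (by decide) (ρ := vec chevG2 2 11) hρ ?_ ?_ ?_ ?_ ?_ ?_ ?_ G K hK hs hna hc hcyc f
  · exact ⟨xg F 11 1, h11.2 ⟨1, rfl⟩, fun h => one_ne_zero (xg_inj' (by norm_num) h)⟩
  · intro a ha b hb
    obtain ⟨t, rfl⟩ := h11.1 ha
    obtain ⟨u, rfl⟩ := h11.1 hb
    rw [← xg_add', ← xg_add', add_comm]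
  · intro y hy hyρ z hz
    obtain ⟨hz1, i, j, hi, hj, rfl⟩ := hz
    have e0 : (i • vec chevG2 2 11 + j • y) 0 = i * 3 + j * y 0 := by
      rw [Pi.add_apply, Pi.smul_apply, Pi.smul_apply, hv0]; rfl
    have e1 : (i • vec chevG2 2 11 + j • y) 1 = i * 2 + j * y 1 := by
      rw [Pi.add_apply, Pi.smul_apply, Pi.smul_apply, hv1]; rfl
    have hy0 : 0 ≤ y 0 := hy.2 0
    have hy1 : 0 ≤ y 1 := hy.2 1
    have h0 : 0 ≤ j * y 0 := mul_nonneg hj.le hy0
    have h1 : 0 ≤ j * y 1 := mul_nonneg hj.le hy1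
    have h2 := root_cases hz1 (by rw [e1]; linarith)
    rw [e0, e1] at h2
    have h3 : j * y 0 = 0 := by linarith only [hi, h0, h2.1]
    have h4 : j * y 1 = 0 := by linarith only [hi, h1, h2.2]
    apply hy.1.ne_zero
    funext k
    fin_cases k
    · exact (mul_eq_zero.1 h3).resolve_left hj.ne'
    · exact (mul_eq_zero.1 h4).resolve_left hj.ne'
  · intro z hz
    obtain ⟨hz1, i, j, hi, hj, rfl⟩ := hz
    have e0 : (i • vec chevG2 2 11 + j • (-sr 0) : Fin 2 → ℤ) 0 = i * 3 - j := by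
      rw [Pi.add_apply, Pi.smul_apply, Pi.smul_apply, hv0, Pi.neg_apply, hsr, smul_eq_mul, smul_eq_mul]; ring
    have e1 : (i • vec chevG2 2 11 + j • (-sr 0) : Fin 2 → ℤ) 1 = i * 2 := by
      rw [Pi.add_apply, Pi.smul_apply, Pi.smul_apply, hv1, Pi.neg_apply, hsr1, smul_eq_mul, smul_eq_mul]; ring
    have h2 := root_cases hz1 (by rw [e1]; linarith)
    rw [e0, e1] at h2
    linarith [h2.1, h2.2]
  · intro h
    have h1 := congrFun h 0
    rw [hv0, hsr] at h1
    norm_num at h1
  · rw [rep_vec isType CS 1 (lt_nroots (by norm_num))]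
    have e : chevG2.reflectRoot ((1 : Fin 2) : ℕ) 11 = 10 := tab_refl
    rw [e]
    have h1 := X_inf_V (rgd (K := F) isType CS p) (intComm_group isType F CS)
      (pos_vec (r := 10) (by norm_num) (by norm_num)) (d := 5) (by
        rw [ht_vec]
        obtain ⟨h1, h2, h3, h4, h5, h6⟩ := tab_ht
        rw [h5]; norm_num)
    have h2 : (XV chevG2 2 F (vec chevG2 2 11)).subgroupOf (chevG2.group F) ≤
        V (Yp (cs := CS) (h := isType.isCartan) (fun x => (XV chevG2 2 F x).subgroupOf (chevG2.group F))) wt 5 := by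
      refine X_le_V (cs := CS) (h := isType.isCartan)
        (X := fun x => (XV chevG2 2 F x).subgroupOf (chevG2.group F)) hρ ?_
      rw [ht_vec]
      obtain ⟨h1, h2, h3, h4, h5, h6⟩ := tab_ht
      rw [h6]; norm_num
    rw [eq_bot_iff, ← h1]
    exact inf_le_inf_left _ h2
  · by_cases h2 : p = 2
    · subst h2
      right
      intro z hz hz'
      obtain ⟨t, rfl⟩ := Cfsg.Agent.OddHalf.D4.G2.Center.center_le hz hz'
      exact h11.2 ⟨t, rfl⟩
    · exact Or.inl h2

end Cfsg.Agent.H480.GTwo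
end

private theorem dce_b2e0a3098eec : _root_.True := by
  try have : _root_.True := by simp only [_root_.Cfsg.Agent.H480.act.congr_simp]
  try have : _root_.True := by simp only [_root_.Cfsg.Agent.H480.SpFour.tt.congr_simp]
  try have : _root_.True := by simp only [_root_.Cfsg.Agent.OddHalf.D4.G2.Center.hts.eq_1]
  exact _root_.True.intro
end

-- part: H480/Three_mg
section
prune_inst 0xf01047205ca210080000000080003c62a20000300040080080a0000407888c2000002020b81001001a0000054039004811000000420000000a000000011c01800000000201000008400000000000400000000000000000000000000000000000000000000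
set_option linter.all false
open scoped Cfsg.Agent.FastGrp

-- part: H480/Three
section
/-!
# Nilpotent minimal covers: three dimensional groups (helper480, S3925, S3926)
-/

set_option autoImplicit false
set_option linter.unusedSectionVars false
set_option linter.unusedSimpArgs false

namespace Cfsg.Agent.H480.Three

open Subgroup Matrix Cfsg

variable {F : Type*} [Field F]

/-- the torus element -/
def mz (y : F) : Matrix (Fin 3) (Fin 3) F := !![(y ^ 2)⁻¹, 0, 0; 0, y, 0; 0, 0, y]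
/-- the transvection -/
def md (e : F) : Matrix (Fin 3) (Fin 3) F := !![1, 0, 0; 0, 1, e; 0, 0, 1]
/-- the opposite transvection -/
def ml (e : F) : Matrix (Fin 3) (Fin 3) F := !![1, 0, 0; 0, 1, 0; 0, -e⁻¹, 1]
/-- the Weyl element -/
def mw (e : F) : Matrix (Fin 3) (Fin 3) F := !![1, 0, 0; 0, 0, e; 0, -e⁻¹, 0]

theorem ml_mw {e : F} (he : e ≠ 0) : ml e * mw e = mw e * md e := by
  ext i j
  (revert i j; simp only [ml, mw, md, Matrix.mul_apply, Fin.sum_univ_three, he, _root_.Fin.forall_fin_succ, _root_.Matrix.of_apply, _root_.Matrix.cons_val', _root_.Matrix.cons_val_fin_one, Fin.isValue, _root_.Matrix.cons_val_zero, _root_.Matrix.cons_val_one, _root_.Matrix.cons_val, _root_.mul_one, _root_.MulZeroClass.mul_zero, _root_.add_zero, _root_.Matrix.cons_val_succ, _root_.mul_neg, _root_.zero_add, _root_.forall_const, _root_.true_and, _root_.MulZeroClass.zero_mul, _root_.neg_zero, _root_.and_self, _root_.one_mul, _root_.neg_mul, _root_.ne_eq, _root_.not_false_eq_true,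 _root_.inv_mul_cancel₀, _root_.implies_true])

theorem md_ml_md {e : F} (he : e ≠ 0) : md e * ml e * md e = mw e := by
  ext i j
  (revert i j; simp only [ml, mw, md, Matrix.mul_apply, Fin.sum_univ_three, he, _root_.Fin.forall_fin_succ, _root_.Matrix.cons_mul, _root_.Nat.succ_eq_add_one, Nat.reduceAdd, _root_.Matrix.vecMul_cons, _root_.Matrix.head_cons, _root_.one_smul, _root_.Matrix.tail_cons, _root_.zero_smul, _root_.Matrix.empty_vecMul, _root_.add_zero, _root_.Matrix.smul_cons, _root_.smul_eq_mul, _root_.MulZeroClass.mul_zero, _root_.mul_neg, _root_.ne_eq, _root_.not_false_eq_true, _root_.mul_inv_cancel₀, _root_.mul_one, _root_.Matrix.smul_empty, _root_.Matrix.add_cons, _root_.add_neg_cancel, _root_.zero_add, _root_.Matrix.empty_add_empty, _root_.Matrix.empty_mul, _root_.Equiv.symm_apply_apply, _root_.Matrix.of_apply, _root_.Matrix.cons_val', _root_.Matrix.cons_val_fin_one, Fin.isValue, _root_.Matrix.cons_val_zero, _root_.Matrix.cons_val_one, _root_.Matrix.cons_val,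 _root_.Matrix.cons_val_succ, _root_.forall_const, _root_.true_and, _root_.MulZeroClass.zero_mul, _root_.neg_mul, _root_.inv_mul_cancel₀, _root_.neg_add_cancel, _root_.implies_true, _root_.and_self])

theorem mw_four {e : F} (he : e ≠ 0) : mw e ^ 4 = 1 := by
  have h : mw e * mw e = !![1, 0, 0; 0, -1, 0; 0, 0, -1] := by
    ext i j
    (revert i j; simp only [mw, Matrix.mul_apply, Fin.sum_univ_three, he, _root_.Fin.forall_fin_succ, _root_.Matrix.of_apply, _root_.Matrix.cons_val', _root_.Matrix.cons_val_fin_one, Fin.isValue, _root_.Matrix.cons_val_zero, _root_.Matrix.cons_val_one, _root_.Matrix.cons_val, _root_.mul_one, _root_.MulZeroClass.mul_zero, _root_.add_zero, _root_.Matrix.cons_val_succ, _root_.mul_neg, _root_.zero_add, _root_.forall_const, _root_.true_and, _root_.MulZeroClass.zero_mul, _root_.neg_zero, _root_.and_self, _root_.ne_eq, _root_.not_false_eq_true, _root_.mul_inv_cancel₀, _root_.neg_mul, _root_.inv_mul_cancel₀, _root_.implies_true])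
  rw [show (4 : ℕ) = 2 * 2 from rfl, pow_mul, pow_two (mw e), h]
  ext i j
  (revert i j; simp only [pow_two, Matrix.mul_apply, Fin.sum_univ_three, _root_.Fin.forall_fin_succ, _root_.Matrix.of_apply, _root_.Matrix.cons_val', _root_.Matrix.cons_val_fin_one, Fin.isValue, _root_.Matrix.cons_val_zero, _root_.Matrix.cons_val_one, _root_.Matrix.cons_val, _root_.mul_one, _root_.MulZeroClass.mul_zero, _root_.add_zero, _root_.Matrix.cons_val_succ, _root_.mul_neg, _root_.zero_add, _root_.IsEmpty.forall_iff, _root_.and_true, _root_.Matrix.one_apply_eq, _root_.neg_zero, Nat.reduceAdd, _root_.Fin.succ_zero_eq_one, _root_.ne_eq, _root_.zero_ne_one, _root_.not_false_eq_true, _root_.Matrix.one_apply_ne, _root_.Fin.succ_one_eq_two, Fin.reduceEq, _root_.and_self, _root_.Fin.succ_ne_zero, _root_.neg_neg, _root_.true_and])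

theorem md_pow (e : F) (n : ℕ) : md e ^ n = md (n * e) := by
  induction n with
  | zero => ext i j; (revert i j; simp only [md, _root_.Fin.forall_fin_succ, _root_.pow_zero, _root_.Nat.cast_zero, _root_.MulZeroClass.zero_mul, _root_.Matrix.of_apply, _root_.Matrix.cons_val', _root_.Matrix.cons_val_fin_one, Fin.isValue, _root_.Matrix.cons_val_zero, _root_.Matrix.cons_val_succ, _root_.IsEmpty.forall_iff, _root_.and_true, _root_.Matrix.one_apply_eq, Nat.reduceAdd, _root_.Fin.succ_zero_eq_one, _root_.ne_eq, _root_.zero_ne_one, _root_.not_false_eq_true, _root_.Matrix.one_apply_ne, _root_.Fin.succ_one_eq_two, Fin.reduceEq, _root_.and_self, _root_.Fin.succ_ne_zero, _root_.true_and])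
  | succ n ih =>
    rw [pow_succ, ih]
    ext i j
    (revert i j; simp only [md, Matrix.mul_apply, Fin.sum_univ_three, _root_.Fin.forall_fin_succ, _root_.Matrix.of_apply, _root_.Matrix.cons_val', _root_.Matrix.cons_val_fin_one, Fin.isValue, _root_.Matrix.cons_val_zero, _root_.Matrix.cons_val_one, _root_.Matrix.cons_val, _root_.Nat.cast_add, _root_.Nat.cast_one, _root_.mul_one, _root_.MulZeroClass.mul_zero, _root_.add_zero, _root_.Matrix.cons_val_succ, _root_.zero_add, _root_.forall_const, _root_.MulZeroClass.zero_mul, _root_.one_mul, _root_.implies_true, _root_.and_true, _root_.true_and]) <;> (repeat' with_reducible apply And.intro)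
    ring

theorem md_zero : md (0 : F) = 1 := by
  ext i j; (revert i j; simp only [md, _root_.Fin.forall_fin_succ, _root_.Matrix.of_apply, _root_.Matrix.cons_val', _root_.Matrix.cons_val_fin_one, Fin.isValue, _root_.Matrix.cons_val_zero, _root_.Matrix.cons_val_succ, _root_.IsEmpty.forall_iff, _root_.and_true, _root_.Matrix.one_apply_eq, Nat.reduceAdd, _root_.Fin.succ_zero_eq_one, _root_.ne_eq, _root_.zero_ne_one, _root_.not_false_eq_true, _root_.Matrix.one_apply_ne, _root_.Fin.succ_one_eq_two, Fin.reduceEq, _root_.and_self, _root_.Fin.succ_ne_zero, _root_.true_and])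

theorem dl_cube {e : F} (he : e ≠ 0) (h2 : (2 : F) = 0) : (md e * ml e) ^ 3 = 1 := by
  have h : md e * ml e = !![1, 0, 0; 0, 0, e; 0, -e⁻¹, 1] := by
    ext i j
    (revert i j; simp only [md, ml, Matrix.mul_apply, Fin.sum_univ_three, he, _root_.Fin.forall_fin_succ, _root_.Matrix.of_apply, _root_.Matrix.cons_val', _root_.Matrix.cons_val_fin_one, Fin.isValue, _root_.Matrix.cons_val_zero, _root_.Matrix.cons_val_one, _root_.Matrix.cons_val, _root_.mul_one, _root_.MulZeroClass.mul_zero, _root_.add_zero, _root_.Matrix.cons_val_succ, _root_.zero_add, _root_.mul_neg, _root_.implies_true, _root_.and_true, _root_.true_and, _root_.MulZeroClass.zero_mul, _root_.neg_zero, _root_.ne_eq, _root_.not_false_eq_true, _root_.mul_inv_cancel₀, _root_.add_neg_cancel, _root_.one_mul, _root_.and_self])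
  have h1 : (-1 : F) = 1 := by linear_combination -h2
  rw [h, pow_succ, pow_two]
  ext i j
  have h3 : e + e = 0 := by linear_combination e * h2
  have h4 : (1 : F) + 1 = 0 := by linear_combination h2
  (revert i j; simp only [Matrix.mul_apply, Fin.sum_univ_three, he, h1, h3, h4, _root_.Fin.forall_fin_succ, _root_.Matrix.cons_mul, _root_.Nat.succ_eq_add_one, Nat.reduceAdd, _root_.Matrix.vecMul_cons, _root_.Matrix.head_cons, _root_.one_smul, _root_.Matrix.tail_cons, _root_.zero_smul, _root_.Matrix.empty_vecMul, _root_.add_zero, _root_.Matrix.smul_cons, _root_.smul_eq_mul, _root_.MulZeroClass.mul_zero, _root_.mul_neg, _root_.ne_eq, _root_.not_false_eq_true, _root_.mul_inv_cancel₀, _root_.mul_one, _root_.Matrix.smul_empty, _root_.zero_add, _root_.neg_smul, _root_.inv_mul_cancel₀, _root_.Matrix.neg_cons, _root_.neg_zero, _root_.Matrix.neg_empty, _root_.Matrix.add_cons, _root_.Matrix.empty_add_empty, _root_.Matrix.empty_mul, _root_.Equiv.symm_apply_apply, _root_.Matrix.of_apply,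 _root_.Matrix.cons_val', _root_.Matrix.cons_val_fin_one, Fin.isValue, _root_.Matrix.cons_val_zero, _root_.Matrix.cons_val_one, _root_.Matrix.cons_val, _root_.Matrix.cons_val_succ, _root_.IsEmpty.forall_iff, _root_.and_true, _root_.Matrix.one_apply_eq, _root_.MulZeroClass.zero_mul, _root_.Fin.succ_zero_eq_one, _root_.zero_ne_one, _root_.Matrix.one_apply_ne, _root_.Fin.succ_one_eq_two, Fin.reduceEq, _root_.and_self, _root_.Fin.succ_ne_zero, _root_.one_mul, _root_.neg_mul, _root_.true_and])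

theorem mz_pow (y : F) (n : ℕ) : mz y ^ n = mz (y ^ n) := by
  induction n with
  | zero => ext i j; (revert i j; simp only [mz, _root_.Fin.forall_fin_succ, _root_.pow_zero, _root_.one_pow, _root_.inv_one, _root_.Matrix.of_apply, _root_.Matrix.cons_val', _root_.Matrix.cons_val_fin_one, Fin.isValue, _root_.Matrix.cons_val_zero, _root_.Matrix.cons_val_succ, _root_.IsEmpty.forall_iff, _root_.and_true, _root_.Matrix.one_apply_eq, Nat.reduceAdd, _root_.Fin.succ_zero_eq_one, _root_.ne_eq, _root_.zero_ne_one, _root_.not_false_eq_true, _root_.Matrix.one_apply_ne, _root_.Fin.succ_one_eq_two, Fin.reduceEq, _root_.and_self, _root_.Fin.succ_ne_zero, _root_.true_and])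
  | succ n ih =>
    rw [pow_succ, ih]
    ext i j
    (revert i j; simp only [mz, Matrix.mul_apply, Fin.sum_univ_three, pow_succ, _root_.Fin.forall_fin_succ, _root_.pow_zero, _root_.one_mul, _root_.mul_inv_rev, _root_.Matrix.of_apply, _root_.Matrix.cons_val', _root_.Matrix.cons_val_fin_one, Fin.isValue, _root_.Matrix.cons_val_zero, _root_.Matrix.cons_val_one, _root_.Matrix.cons_val, _root_.MulZeroClass.mul_zero, _root_.add_zero, _root_.Matrix.cons_val_succ, _root_.zero_add, _root_.forall_const, _root_.MulZeroClass.zero_mul, _root_.implies_true, _root_.and_true, _root_.true_and]) <;> (repeat' with_reducible apply And.intro)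
    ring

theorem mz_md (y e : F) : mz y * md e = md e * mz y := by
  ext i j
  (revert i j; simp only [mz, md, Matrix.mul_apply, Fin.sum_univ_three, mul_comm, _root_.Fin.forall_fin_succ, _root_.Matrix.of_apply, _root_.Matrix.cons_val', _root_.Matrix.cons_val_fin_one, Fin.isValue, _root_.Matrix.cons_val_zero, _root_.Matrix.cons_val_one, _root_.Matrix.cons_val, _root_.one_mul, _root_.MulZeroClass.zero_mul, _root_.add_zero, _root_.Matrix.cons_val_succ, _root_.zero_add, _root_.forall_const, _root_.MulZeroClass.mul_zero, _root_.and_self, _root_.mul_one, _root_.implies_true])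

theorem mz_mw (y e : F) : mz y * mw e = mw e * mz y := by
  ext i j
  (revert i j; simp only [mz, mw, Matrix.mul_apply, Fin.sum_univ_three, mul_comm, _root_.Fin.forall_fin_succ, _root_.Matrix.of_apply, _root_.Matrix.cons_val', _root_.Matrix.cons_val_fin_one, Fin.isValue, _root_.Matrix.cons_val_zero, _root_.Matrix.cons_val_one, _root_.Matrix.cons_val, _root_.one_mul, _root_.MulZeroClass.zero_mul, _root_.add_zero, _root_.Matrix.cons_val_succ, _root_.neg_mul, _root_.zero_add, _root_.forall_const, _root_.MulZeroClass.mul_zero, _root_.neg_zero, _root_.and_self, _root_.mul_neg, _root_.implies_true])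

/-- commuting with the transvection up to a scalar -/
theorem comm_md {X : Matrix (Fin 3) (Fin 3) F} (hX : X.det ≠ 0) {e c : F} (he : e ≠ 0)
    (h : X * md e = c • (md e * X)) : c = 1 ∧ X 0 1 = 0 ∧ X 2 1 = 0 ∧ X 2 0 = 0 ∧ X 1 1 = X 2 2 := by
  have h' := fun i j => congrFun (congrFun h i) j
  simp only [md, Matrix.mul_apply, Fin.sum_univ_three, Matrix.smul_apply] at h'
  have h00 := h' 0 0
  have h01 := h' 0 1
  have h02 := h' 0 2
  have h10 := h' 1 0
  have h11 := h' 1 1
  have h12 := h' 1 2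
  have h20 := h' 2 0
  have h21 := h' 2 1
  have h22 := h' 2 2
  simp only [_root_.Fin.isValue, _root_.Matrix.of_apply, _root_.Matrix.cons_val', _root_.Matrix.cons_val_zero, _root_.Matrix.cons_val_fin_one, _root_.mul_one, _root_.Matrix.cons_val_one, _root_.MulZeroClass.mul_zero, _root_.add_zero, _root_.Matrix.cons_val, _root_.one_mul, _root_.MulZeroClass.zero_mul, _root_.smul_eq_mul, _root_.zero_add] at h00 h01 h02 h10 h11 h12 h20 h21 h22
  by_cases hc : c = 1
  · subst hc
    refine ⟨rfl, ?_, ?_, ?_, ?_⟩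
    · have : X 0 1 * e = 0 := by linear_combination h02
      exact (mul_eq_zero.1 this).resolve_right he
    · have : X 2 1 * e = 0 := by linear_combination -h11
      exact (mul_eq_zero.1 this).resolve_right he
    · have : X 2 0 * e = 0 := by linear_combination -h10
      exact (mul_eq_zero.1 this).resolve_right he
    · have : (X 1 1 - X 2 2) * e = 0 := by linear_combination h12
      exact sub_eq_zero.1 ((mul_eq_zero.1 this).resolve_right he)
  · exfalso
    have key : ∀ a : F, a = c * a → a = 0 := by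
      intro a ha
      have : (1 - c) * a = 0 := by linear_combination ha
      exact (mul_eq_zero.1 this).resolve_left (sub_ne_zero.2 (Ne.symm hc))
    apply hX
    rw [Matrix.det_eq_zero_of_row_eq_zero 0]
    intro j
    have h1 := key _ h01
    fin_cases j
    · exact key _ h00
    · exact h1
    · exact key _ (by rw [h1, zero_mul, zero_add] at h02; exact h02)

/-- commuting with the torus element up to a scalar as well -/
theorem comm_mz {X : Matrix (Fin 3) (Fin 3) F} (hX : X.det ≠ 0) {e c c' y : F} (he : e ≠ 0) (hy : y ≠ 0)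
    (hy3 : y ^ 3 ≠ 1) (h : X * md e = c • (md e * X)) (h' : X * mz y = c' • (mz y * X)) :
    ∃ a b n : F, b ≠ 0 ∧ X = !![a, 0, 0; 0, b, n; 0, 0, b] := by
  obtain ⟨-, h01, h21, h20, h12⟩ := comm_md hX he h
  have h1 := fun i j => congrFun (congrFun h' i) j
  simp only [mz, Matrix.mul_apply, Fin.sum_univ_three, Matrix.smul_apply] at h1
  have k02 := h1 0 2
  have k10 := h1 1 0
  have k11 := h1 1 1
  simp only [_root_.Fin.isValue, _root_.Matrix.of_apply, _root_.Matrix.cons_val', _root_.Matrix.cons_val, _root_.Matrix.cons_val_fin_one, _root_.Matrix.cons_val_zero, _root_.MulZeroClass.mul_zero, _root_.Matrix.cons_val_one, _root_.add_zero, _root_.zero_add, _root_.MulZeroClass.zero_mul, _root_.smul_eq_mul] at k02 k10 k11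
  have hb : X 1 1 ≠ 0 := by
    intro h0
    apply hX
    rw [Matrix.det_eq_zero_of_column_eq_zero 1]
    intro i
    fin_cases i
    exacts [h01, h0, h21]
  have hc : c' = 1 := by
    have : (1 - c') * (X 1 1 * y) = 0 := by linear_combination k11
    rcases mul_eq_zero.1 this with h2 | h2
    · linear_combination -h2
    · exact absurd h2 (mul_ne_zero hb hy)
  subst hc
  have hne : y - (y ^ 2)⁻¹ ≠ 0 := by
    intro h2
    apply hy3
    field_simp at h2
    linear_combination h2
  have h02 : X 0 2 = 0 := by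
    have : X 0 2 * (y - (y ^ 2)⁻¹) = 0 := by linear_combination k02
    exact (mul_eq_zero.1 this).resolve_right hne
  have h10 : X 1 0 = 0 := by
    have : X 1 0 * (y - (y ^ 2)⁻¹) = 0 := by linear_combination -k10
    exact (mul_eq_zero.1 this).resolve_right hne
  refine ⟨X 0 0, X 1 1, X 1 2, hb, ?_⟩
  ext i j
  (revert i j; simp only [h01, h02, h10, h20, h21, h12, _root_.Fin.forall_fin_succ, Fin.isValue, _root_.Matrix.of_apply, _root_.Matrix.cons_val', _root_.Matrix.cons_val_fin_one, _root_.Matrix.cons_val_zero, _root_.Matrix.cons_val_succ, _root_.Fin.succ_zero_eq_one, _root_.Fin.succ_one_eq_two, _root_.IsEmpty.forall_iff, _root_.and_true, _root_.and_self])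

theorem pow_shape (a b n : F) (k : ℕ) : (!![a, 0, 0; 0, b, n; 0, 0, b] : Matrix (Fin 3) (Fin 3) F) ^ k =
    !![a ^ k, 0, 0; 0, b ^ k, k * b ^ (k - 1) * n; 0, 0, b ^ k] := by
  induction k with
  | zero => ext i j; (revert i j; simp only [_root_.Fin.forall_fin_succ, _root_.pow_zero, _root_.Nat.cast_zero, _root_.zero_tsub, _root_.mul_one, _root_.MulZeroClass.zero_mul, _root_.Matrix.of_apply, _root_.Matrix.cons_val', _root_.Matrix.cons_val_fin_one, Fin.isValue, _root_.Matrix.cons_val_zero, _root_.Matrix.cons_val_succ, _root_.IsEmpty.forall_iff, _root_.and_true, _root_.Matrix.one_apply_eq, Nat.reduceAdd, _root_.Fin.succ_zero_eq_one, _root_.ne_eq, _root_.zero_ne_one, _root_.not_false_eq_true, _root_.Matrix.one_apply_ne, _root_.Fin.succ_one_eq_two, Fin.reduceEq, _root_.and_self, _root_.Fin.succ_ne_zero, _root_.true_and])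
  | succ k ih =>
    rw [pow_succ, ih]
    ext i j
    (revert i j; simp only [Matrix.mul_apply, Fin.sum_univ_three, pow_succ, _root_.Fin.forall_fin_succ, _root_.Matrix.of_apply, _root_.Matrix.cons_val', _root_.Matrix.cons_val_fin_one, Fin.isValue, _root_.Matrix.cons_val_zero, _root_.Matrix.cons_val_one, _root_.Matrix.cons_val, _root_.Nat.cast_add, _root_.Nat.cast_one, _root_.add_tsub_cancel_right, _root_.MulZeroClass.mul_zero, _root_.add_zero, _root_.Matrix.cons_val_succ, _root_.zero_add, _root_.forall_const, _root_.MulZeroClass.zero_mul, _root_.implies_true, _root_.and_true, _root_.true_and]) <;> (repeat' with_reducible apply And.intro)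
    rcases k with - | k
    · simp only [_root_.pow_zero, _root_.one_mul, _root_.Nat.cast_zero, _root_.zero_tsub, _root_.mul_one, _root_.MulZeroClass.zero_mul, _root_.add_zero, _root_.zero_add]
    · simp only [Nat.add_sub_cancel, pow_succ]
      push_cast
      ring

variable {Γ : Type*} [Group Γ]

theorem kill_three (ρ : Γ →* Matrix (Fin 3) (Fin 3) F) (hinj : Function.Injective ρ)
    (hdet : ∀ g, (ρ g).det ≠ 0) (hcen : ∀ g ∈ center Γ, ∃ c : F, ρ g = c • (1 : Matrix (Fin 3) (Fin 3) F))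
    {p r : ℕ} [CharP F p] [hp : Fact p.Prime] (hr : r.Prime) (hrp : r ≠ p) {y e : F}
    (hη : IsPrimitiveRoot (y ^ 3) r) (he : e ≠ 0) {z d w : Γ} (hz : ρ z = mz y) (hd : ρ d = md e)
    (hw : ρ w = mw e) : Kill (Γ ⧸ center Γ) := by
  have hr0 : (r : F) ≠ 0 := by
    intro h
    rw [CharP.cast_eq_zero_iff F p] at h
    exact hrp ((Nat.prime_dvd_prime_iff_eq hp.1 hr).1 h).symm
  have hy3 : y ^ 3 ≠ 1 := hη.ne_one hr.one_lt
  have hy : y ≠ 0 := by
    rintro rfl
    have := hη.pow_eq_one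
    simp [hr.ne_zero] at this
  set π : Γ →* Γ ⧸ center Γ := QuotientGroup.mk' _ with hπ
  have hπs : Function.Surjective π := QuotientGroup.mk'_surjective _
  have hsc : ∀ X Y : Γ, π X = π Y → ∃ c : F, ρ X = c • ρ Y := by
    intro X Y h
    have h1 : X * Y⁻¹ ∈ center Γ := by
      rw [← QuotientGroup.eq_one_iff]
      change π (X * Y⁻¹) = 1
      rw [map_mul, h, map_inv, mul_inv_cancel]
    obtain ⟨c, hc⟩ := hcen _ h1
    refine ⟨c, ?_⟩
    have h2 : X = X * Y⁻¹ * Y := by group
    rw [h2, map_mul, hc, smul_mul_assoc, one_mul]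
  have hsc' : ∀ (X Y : Γ) (c : F), ρ X = c • ρ Y → π X = π Y := by
    intro X Y c h
    have h1 : X * Y⁻¹ ∈ center Γ := by
      rw [mem_center_iff]
      intro g
      apply hinj
      have h2 : ρ (X * Y⁻¹) = c • (1 : Matrix (Fin 3) (Fin 3) F) := by
        rw [map_mul, h, smul_mul_assoc, ← map_mul, mul_inv_cancel, map_one]
      rw [map_mul ρ g, map_mul ρ _ g, h2]
      simp
    have h2 : π (X * Y⁻¹) = 1 := (QuotientGroup.eq_one_iff _).2 h1
    rw [map_mul, map_inv] at h2
    exact mul_inv_eq_one.1 h2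
  have hdp : d ^ p = 1 := by
    apply hinj
    rw [map_pow, hd, md_pow, CharP.cast_eq_zero, zero_mul, md_zero, map_one]
  have hzd : z * d = d * z := by
    apply hinj
    rw [map_mul, map_mul, hz, hd, mz_md]
  have hzw : z * w = w * z := by
    apply hinj
    rw [map_mul, map_mul, hz, hw, mz_mw]
  refine ⟨r, π z, π d, hr, ?_, ?_, ?_, ?_, ?_⟩
  · have hfr : Fact r.Prime := ⟨hr⟩
    refine orderOf_eq_prime ?_ ?_
    · rw [← map_pow, ← map_one π]
      apply hsc' _ _ (y ^ r)
      have h1 : (y ^ r) ^ 3 = 1 := by rw [← pow_mul, mul_comm, pow_mul, hη.pow_eq_one]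
      have h0 : y ^ r ≠ 0 := pow_ne_zero _ hy
      rw [map_pow, hz, mz_pow, map_one]
      have h2 : ((y ^ r) ^ 2)⁻¹ = y ^ r := by
        refine inv_eq_of_mul_eq_one_left ?_
        rw [← h1]
        ring
      ext i j
      (revert i j; simp only [mz, _root_.Fin.forall_fin_succ, _root_.Matrix.of_apply, _root_.Matrix.cons_val', _root_.Matrix.cons_val_fin_one, _root_.Matrix.smul_apply, _root_.smul_eq_mul, Fin.isValue, _root_.Matrix.cons_val_zero, _root_.Matrix.cons_val_succ, _root_.IsEmpty.forall_iff, _root_.Matrix.one_apply_eq, _root_.mul_one, Nat.reduceAdd, _root_.Fin.succ_zero_eq_one, _root_.ne_eq, _root_.zero_ne_one, _root_.not_false_eq_true, _root_.Matrix.one_apply_ne, _root_.MulZeroClass.mul_zero, _root_.Fin.succ_one_eq_two, Fin.reduceEq, _root_.Fin.succ_ne_zero, _root_.zero_eq_mul, _root_.pow_eq_zero_iff', _root_.or_true, _root_.and_true, _root_.true_and]) <;> (repeat' with_reducible apply And.intro)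
      simpa using h2
    · intro h
      obtain ⟨c, hc⟩ := hsc _ _ (h.trans (map_one π).symm)
      rw [hz, map_one] at hc
      have h0 := congrFun (congrFun hc 0) 0
      have h1 := congrFun (congrFun hc 1) 1
      simp [mz] at h0 h1
      apply hy3
      rw [← h1] at h0
      field_simp at h0
      linear_combination -h0
  · refine Nat.Coprime.coprime_dvd_left (orderOf_dvd_of_pow_eq_one (n := p) ?_)
      ((Nat.coprime_primes hp.1 hr).2 hrp.symm)
    rw [← map_pow, hdp, map_one]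
  · rw [← map_mul, ← map_mul, hzd]
  · intro x hx hxz hxd
    obtain ⟨X, rfl⟩ := hπs x
    rw [← map_mul, ← map_mul] at hxz hxd
    obtain ⟨c', hc'⟩ := hsc _ _ hxz
    obtain ⟨c, hc⟩ := hsc _ _ hxd
    rw [map_mul, map_mul, hz] at hc'
    rw [map_mul, map_mul, hd] at hc
    obtain ⟨a, b, n, hb, hX⟩ := comm_mz (hdet X) he hy hy3 hc hc'
    have hXr : π (X ^ r) = π 1 := by
      rw [map_pow, map_one, ← hx, pow_orderOf_eq_one]
    obtain ⟨t, ht⟩ := hsc _ _ hXr
    rw [map_pow, hX, pow_shape, map_one] at ht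
    have h00 := congrFun (congrFun ht 0) 0
    have h11 := congrFun (congrFun ht 1) 1
    have h12 := congrFun (congrFun ht 1) 2
    simp only [_root_.Fin.isValue, _root_.Matrix.of_apply, _root_.Matrix.cons_val', _root_.Matrix.cons_val_zero, _root_.Matrix.cons_val_fin_one, _root_.Matrix.smul_apply, _root_.Matrix.one_apply_eq, _root_.smul_eq_mul, _root_.mul_one, _root_.Matrix.cons_val_one, _root_.Matrix.cons_val, _root_.ne_eq, _root_.Fin.reduceEq, _root_.not_false_eq_true, _root_.Matrix.one_apply_ne, _root_.MulZeroClass.mul_zero, _root_.mul_eq_zero, _root_.pow_eq_zero_iff'] at h00 h11 h12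
    have hn : n = 0 := by
      rcases h12 with (h12 | h12) | h12
      · exact absurd h12 hr0
      · exact absurd h12.1 hb
      · exact h12
    have hab : (a / b) ^ r = 1 := by
      rw [div_pow, h00, ← h11, div_self (pow_ne_zero _ hb)]
    have hη' : IsPrimitiveRoot (y ^ 3)⁻¹ r := hη.inv
    have hnz : NeZero r := ⟨hr.ne_zero⟩
    obtain ⟨i, -, hi⟩ := hη'.eq_pow_of_pow_eq_one hab
    refine mem_zpowers_iff.2 ⟨(i : ℤ), ?_⟩
    rw [zpow_natCast, ← map_pow]
    apply hsc' _ _ (y ^ i * b⁻¹)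
    rw [map_pow, hz, mz_pow, hX, hn]
    have ha : a = b * ((y ^ 3)⁻¹) ^ i := by
      rw [hi]
      field_simp
    ext i' j'
    fin_cases i' <;> fin_cases j' <;> simp [mz, ha]
    · field_simp
      ring
    · field_simp
    · field_simp
  · -- the conjugates
    set l : Γ := w * d * w⁻¹ with hl
    have hlm : ρ l = ml e := by
      have h1 : ρ w * ρ w⁻¹ = 1 := by rw [← map_mul, mul_inv_cancel, map_one]
      rw [hl, map_mul, map_mul, hw, hd, ← ml_mw he, mul_assoc, ← hw, h1, mul_one]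
    have hC : π w ∈ centralizer ({π z} : Set (Γ ⧸ center Γ)) := by
      rw [mem_centralizer_singleton_iff, ← map_mul, ← map_mul, hzw]
    have hdD : π d ∈ closure (cjs (centralizer ({π z} : Set (Γ ⧸ center Γ))) (π d)) :=
      subset_closure (mem_cjs_self _ _)
    have hlD : π l ∈ closure (cjs (centralizer ({π z} : Set (Γ ⧸ center Γ))) (π d)) :=
      subset_closure ⟨π w, hC, by rw [hl, map_mul, map_mul, map_inv]⟩
    have hwl : d * l * d = w := by
      apply hinj
      rw [map_mul, map_mul, hd, hlm, hw, md_ml_md he]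
    rcases hp.1.eq_two_or_odd' with rfl | hodd
    · have h2 : (2 : F) = 0 := by
        have := CharP.cast_eq_zero F 2
        exact_mod_cast this
      refine not_nilpotent_of_coprime (mul_mem hdD hlD) hdD (m := 3) (n := 2) (by norm_num) ?_ ?_ ?_
      · rw [← map_mul, ← map_pow]
        rw [show (d * l) ^ 3 = 1 from hinj (by rw [map_pow, map_mul, hd, hlm, dl_cube he h2, map_one]), map_one]
      · rw [← map_pow, hdp, map_one]
      · intro h
        rw [← map_mul, ← map_mul, ← map_mul, hwl] at h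
        obtain ⟨c, hc⟩ := hsc _ _ h
        rw [map_mul, map_mul, hw, hd, hlm] at hc
        have h0 := congrFun (congrFun hc 0) 0
        have h1 := congrFun (congrFun hc 1) 1
        simp [mw, md, ml, Matrix.mul_apply, Fin.sum_univ_three, he] at h0 h1
        exact one_ne_zero (h0.trans h1)
    · have hwD : π w ∈ closure (cjs (centralizer ({π z} : Set (Γ ⧸ center Γ))) (π d)) := by
        rw [← hwl, map_mul, map_mul]
        exact mul_mem (mul_mem hdD hlD) hdD
      refine not_nilpotent_of_coprime hwD hdD (m := 4) (n := p) (by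
        exact Nat.Coprime.pow_left 2 (hodd.coprime_two_left)) ?_ ?_ ?_
      · rw [← map_pow, show w ^ 4 = 1 from hinj (by rw [map_pow, hw, mw_four he, map_one]), map_one]
      · rw [← map_pow, hdp, map_one]
      · intro h
        rw [← map_mul, ← map_mul] at h
        obtain ⟨c, hc⟩ := hsc _ _ h
        rw [map_mul, map_mul, hw, hd] at hc
        have h0 := congrFun (congrFun hc 0) 0
        have h1 := congrFun (congrFun hc 1) 1
        simp [mw, md, ml, Matrix.mul_apply, Fin.sum_univ_three, he] at h0 h1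
        exact one_ne_zero (h0.trans h1)

theorem exists_root {F : Type*} [Field F] [Finite F] {m : ℕ} (hm : m ∣ Nat.card Fˣ) (h : 1 < m / Nat.gcd m 3) :
    ∃ r : ℕ, r.Prime ∧ r ∣ m ∧ ∃ y : F, y ^ m = 1 ∧ IsPrimitiveRoot (y ^ 3) r := by
  obtain ⟨r, hr, hrd⟩ := Nat.exists_prime_and_dvd h.ne'
  have hm0 : m ≠ 0 := by
    rintro rfl
    simp at h
  obtain ⟨g0, hg0⟩ := IsCyclic.exists_ofOrder_eq_natCard (α := Fˣ)
  obtain ⟨k, hk⟩ := hm
  have hk0 : k ≠ 0 := by
    rintro rfl
    rw [mul_zero] at hk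
    exact Nat.card_pos.ne' hk
  have hg : orderOf (g0 ^ k) = m := by
    rw [orderOf_pow_of_dvd hk0 (by rw [hg0, hk]; exact dvd_mul_left _ _), hg0, hk,
      Nat.mul_div_cancel _ (Nat.pos_of_ne_zero hk0)]
  set g := g0 ^ k with hgdef
  have hg3 : orderOf (g ^ 3) = m / Nat.gcd m 3 := by rw [orderOf_pow, hg]
  obtain ⟨j, hj⟩ := hrd
  have hj0 : j ≠ 0 := by
    rintro rfl
    rw [mul_zero] at hj
    omega
  have h1 : orderOf ((g ^ 3) ^ j) = r := by
    rw [orderOf_pow_of_dvd hj0 (by rw [hg3, hj]; exact dvd_mul_left _ _), hg3, hj,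
      Nat.mul_div_cancel _ (Nat.pos_of_ne_zero hj0)]
  refine ⟨r, hr, ?_, ((g ^ j : Fˣ) : F), ?_, ?_⟩
  · refine (Dvd.intro _ hj.symm).trans (Nat.div_dvd_of_dvd (Nat.gcd_dvd_left m 3))
  · rw [← Units.val_pow_eq_pow_val, ← pow_mul, mul_comm, pow_mul, ← hg, pow_orderOf_eq_one, one_pow, Units.val_one]
  · rw [← Units.val_pow_eq_pow_val]
    have h2 : (g ^ j) ^ 3 = (g ^ 3) ^ j := pow_right_comm g j 3
    rw [h2, ← h1]
    exact IsPrimitiveRoot.coe_units_iff.2 (IsPrimitiveRoot.orderOf _)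

/-! ### the linear group -/

/-- the inclusion -/
def rhoSL (F : Type*) [Field F] : Matrix.SpecialLinearGroup (Fin 3) F →* Matrix (Fin 3) (Fin 3) F where
  toFun g := g
  map_one' := Matrix.SpecialLinearGroup.coe_one
  map_mul' := Matrix.SpecialLinearGroup.coe_mul

theorem det_md (e : F) : (md e).det = 1 := by
  simp [md, det_fin_three]

theorem det_mw {e : F} (he : e ≠ 0) : (mw e).det = 1 := by
  simp [mw, det_fin_three, he]

theorem det_mz {y : F} (hy : y ≠ 0) : (mz y).det = 1 := by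
  simp only [mz, det_fin_three, _root_.Cfsg.Agent.H480.Three.mz, _root_.Matrix.det_fin_three, _root_.Fin.isValue, _root_.Matrix.of_apply, _root_.Matrix.cons_val', _root_.Matrix.cons_val_zero, _root_.Matrix.cons_val_fin_one, _root_.Matrix.cons_val_one, _root_.Matrix.cons_val, _root_.MulZeroClass.mul_zero, _root_.sub_zero, _root_.MulZeroClass.zero_mul, _root_.add_zero]
  field_simp

theorem kill_PSL {F : Type*} [Field F] [Finite F] (p : ℕ) [hp : Fact p.Prime] [CharP F p]
    (h : 1 < (Nat.card F - 1) / Nat.gcd (Nat.card F - 1) 3) :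
    Kill (Matrix.ProjectiveSpecialLinearGroup (Fin 3) F) := by
  obtain ⟨r, hr, hrm, y, -, hy⟩ := exists_root (F := F) (m := Nat.card F - 1) (by rw [Nat.card_units]) h
  have hy0 : y ≠ 0 := by
    rintro rfl
    have := hy.pow_eq_one
    simp [hr.ne_zero] at this
  have hrp : r ≠ p := by
    rintro rfl
    have : Fintype F := Fintype.ofFinite F
    obtain ⟨n, -, hn⟩ := FiniteField.card F r
    have h1 : r ∣ Nat.card F := by
      rw [Nat.card_eq_fintype_card, hn]
      exact dvd_pow_self r n.pos.ne'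
    have h2 : 1 ≤ Nat.card F := Nat.card_pos
    have h3 := (Nat.dvd_sub_iff_right h2 h1).1 hrm
    exact hr.one_lt.ne' (Nat.dvd_one.1 h3)
  refine kill_three (rhoSL F) (fun a b hab => Subtype.ext hab) (fun g => by
    change (g : Matrix (Fin 3) (Fin 3) F).det ≠ 0
    rw [g.2]
    exact one_ne_zero) ?_ hr hrp hy (one_ne_zero) (z := ⟨mz y, det_mz hy0⟩) (d := ⟨md 1, det_md 1⟩)
      (w := ⟨mw 1, det_mw one_ne_zero⟩) rfl rfl rfl
  intro g hg
  obtain ⟨c, -, hc⟩ := Matrix.SpecialLinearGroup.mem_center_iff.1 hg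
  refine ⟨c, ?_⟩
  change (g : Matrix (Fin 3) (Fin 3) F) = _
  rw [← hc]
  ext i j
  (revert i j; simp only [_root_.Fin.forall_fin_succ, _root_.Matrix.scalar_apply, _root_.Matrix.smul_apply, _root_.smul_eq_mul, Fin.isValue, _root_.Fin.succ_zero_eq_one, _root_.Fin.succ_one_eq_two, _root_.IsEmpty.forall_iff, _root_.and_true, _root_.Matrix.diagonal_apply_eq, _root_.Matrix.one_apply_eq, _root_.mul_one, _root_.ne_eq, _root_.zero_ne_one, _root_.not_false_eq_true, _root_.Matrix.diagonal_apply_ne, Nat.reduceAdd, _root_.Matrix.one_apply_ne, _root_.MulZeroClass.mul_zero, Fin.reduceEq, _root_.and_self, _root_.Fin.succ_ne_zero, _root_.true_and])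

end Cfsg.Agent.H480.Three
end

-- part: H480/LieTwo
section
/-!
# Nilpotent minimal covers: `PSU_4(q)`, `PSU_5(q)` (helper480, S3925, S3926)
-/

set_option autoImplicit false
set_option linter.unusedSectionVars false

namespace Cfsg.Agent.H480.Fr

open Cfsg
open CoxeterSystem Cfsg.Agent.ChevalleyStructure.CoxeterGeom Cfsg.Agent.Tits.Roots Cfsg.Agent.Tits.Core
  Cfsg.Agent.Nodes.Comb Cfsg.Agent.Nodes.Reps Cfsg.Agent.Nodes.BNOf Cfsg.Agent.FixBN
  Cfsg.Agent.Nodes.RGDLib Cfsg.Agent.Omega.ML.Ex.Typ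

universe u v

/-- rank two with different root groups -/
theorem row_of_par {S : Type v} [Group S] {p : ℕ} [hp : Fact p.Prime] {M : CoxeterMatrix (Fin 2)} {i : Fin 2}
    {r k m : ℕ} (hM : M 0 1 = m) (hk : p ^ k ∣ Nat.card S) (hlt : r ^ m < p ^ k) (h : ParT p M i r S) : Row.{u} S := by
  intro G _ _ K hK hs hna hc hcyc f 𝓐 hA
  obtain ⟨A, h, T, n, X, hW, R, hG1, hr⟩ := h.of_equiv f
  refine not_nmc_of_rgd hK R hG1 {i} ⟨i, rfl⟩ ?_ ?_ hA
  · intro h1
    have h2 : (0 : Fin 2) ∈ ({i} : Set (Fin 2)) := by rw [h1]; trivial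
    have h3 : (1 : Fin 2) ∈ ({i} : Set (Fin 2)) := by rw [h1]; trivial
    have h4 : (0 : Fin 2) = 1 := (Set.mem_singleton_iff.1 h2).trans (Set.mem_singleton_iff.1 h3).symm
    exact absurd h4 (by decide)
  · intro σ N h1 h2 h3 h4 j hj
    rw [Set.mem_singleton_iff] at hj ⊢
    subst hj
    by_contra hne
    have h5 : ∀ k, N k ≤ r := by
      intro k
      have h6 : k = j ∨ k = σ j := by
        have h7 : ∀ a b k : Fin 2, b ≠ a → k = a ∨ k = b := by decide
        exact h7 _ _ _ hne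
      rcases h6 with rfl | rfl
      · exact (h3 k).trans hr
      · rw [h2]; exact (h3 j).trans hr
    have h6 := h4 r h5 0 1 (by decide) k (by rw [← Nat.card_congr f.toEquiv]; exact hk)
    have h7 : r ^ M 0 1 = r ^ m := by rw [hM]
    rw [h7] at h6
    omega

section TypeC

open Cfsg.Agent.Nodes.TypeC
open Cfsg.Agent.Nodes Cfsg.Agent.Nodes.WittAll Cfsg.Agent.Nodes.WittU Cfsg.Agent.Nodes.WittInst
  Cfsg.Agent.Nodes.WittRoot Cfsg.Agent.Nodes.WittRGD
  Cfsg.Agent.TitsThree Cfsg.Agent.TitsThree.Siegel Cfsg.Agent.TitsThree.SiegelGen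
  Cfsg.Agent.TitsThree.WittFrame Cfsg.Agent.TitsThree.WBridge Cfsg.Agent.TitsThree.WittWeyl
  Cfsg.Agent.TitsThree.FrameCN

variable {F : Type*} [Field F] {V : Type*} [AddCommGroup V] [Module F V] {H : HForm F V}

/-- the first root group is an image of the field -/
theorem card_first {n : ℕ} (hn : 1 < n) {Fr : Frame H (Fin n)} {K : Type*} [Group K] (M : Model Fr K)
    [Finite F] : Nat.card (WittModel.X M (sr ⟨0, by omega⟩)) ≤ Nat.card F := by
  have hnx : nx (⟨0, by omega⟩ : Fin n) = (⟨1, hn⟩, false) := by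
    unfold nx; rw [dif_pos (by simpa using hn)]
  have hmem : ∀ x ∈ WittModel.X M (sr ⟨0, by omega⟩), ∃ (a : F)
      (ha : Fr.X (⟨0, by omega⟩, true) (⟨1, hn⟩, false) a ∈ M.I), M.φ ⟨_, ha⟩ = x := by
    rintro _ ⟨g, hg, rfl⟩
    obtain ⟨g, hgI⟩ := g
    have h1 : g ∈ rg Fr (sr ⟨0, by omega⟩) := hg
    rw [rg_sr, hnx, PG_ne _ (by simp)] at h1
    obtain ⟨a, rfl⟩ := h1
    exact ⟨a, hgI, rfl⟩
  choose! f hf using hmem
  refine Nat.card_le_card_of_injective (fun x : WittModel.X M (sr ⟨0, by omega⟩) => f x.1) ?_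
  intro x y hxy
  obtain ⟨h1, h2⟩ := hf x.1 x.2
  obtain ⟨h3, h4⟩ := hf y.1 y.2
  apply Subtype.ext
  rw [← h2, ← h4]
  congr 2
  exact congrArg _ hxy

end TypeC

section Unitary

open Cfsg.Agent.LieClassical.HermBasic Cfsg.Agent.TitsThree.KSideU
open Cfsg.Agent.Nodes.TypeC
open Cfsg.Agent.Nodes Cfsg.Agent.Nodes.WittAll Cfsg.Agent.Nodes.WittU Cfsg.Agent.Nodes.WittInst
  Cfsg.Agent.Nodes.WittRoot Cfsg.Agent.Nodes.WittRGD
  Cfsg.Agent.TitsThree Cfsg.Agent.TitsThree.Siegel Cfsg.Agent.TitsThree.SiegelGen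
  Cfsg.Agent.TitsThree.WittFrame Cfsg.Agent.TitsThree.WBridge Cfsg.Agent.TitsThree.WittWeyl
  Cfsg.Agent.TitsThree.FrameCN

variable {F : Type*} [Field F] [Fintype F] {q N : ℕ} (hF : Fintype.card F = q ^ 2)

include hF

theorem par_PSU_five {p : ℕ} [Fact p.Prime] [CharP F p] :
    ParT p (CoxeterMatrix.B 2) 0 (q ^ 2) (PSU 5 F q) := by
  obtain ⟨W, d, -, hW⟩ := exists_wframe_odd hF (show 5 = 2 * 2 + 1 from rfl)
  obtain ⟨p0, hp0, -⟩ := exists_adm hF W
  have := finite_adm (toFrame W)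
  exact ⟨Nodes.TypeC.A 2, Nodes.TypeC.isCartan 2, _, _, _, Nodes.TypeC.finite_W (CoxeterMatrix.B 2).toCoxeterSystem,
    rgdC_model (KInstU.model hF (by omega) W) (AmbT.of_amb (amb_U hF W) p) hp0 _,
    WittModel.G1_eq_top _ (by omega) _, by
      have h1 := card_first (by omega) (KInstU.model hF (by omega) W)
      rw [Nat.card_eq_fintype_card (α := F), hF] at h1
      exact h1⟩

end Unitary

theorem exists_pow {F : Type*} [Field F] [Fintype F] {q p : ℕ} [hp : Fact p.Prime] [CharP F p]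
    (hF : Fintype.card F = q ^ 2) : ∃ a, 0 < a ∧ q = p ^ a := by
  obtain ⟨n, -, hn⟩ := FiniteField.card F p
  rw [hF] at hn
  obtain ⟨a, -, ha⟩ := (Nat.dvd_prime_pow hp.1).1 (show q ∣ p ^ (n : ℕ) by rw [← hn]; exact dvd_pow_self q two_ne_zero)
  refine ⟨a, Nat.pos_of_ne_zero ?_, ha⟩
  rintro rfl
  rw [ha, pow_zero, one_pow] at hn
  exact (one_lt_pow₀ hp.1.one_lt n.pos.ne').ne hn

/-- the `p`-part of the order of `PSU_n(q)` -/
theorem dvd_card_psu {F : Type} [Field F] [Fintype F] {q n p : ℕ} [hp : Fact p.Prime] (hF : Fintype.card F = q ^ 2)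
    (hn : 2 ≤ n) {a : ℕ} (ha : 0 < a) (hq : q = p ^ a) : q ^ (n * (n - 1) / 2) ∣ Nat.card (PSU n F q) := by
  have h1 := H341.ThreeList.card_psu (n := n) hF hn
  have h2 : q ^ (n * (n - 1) / 2) ∣ Nat.gcd n (q + 1) * Nat.card (PSU n F q) := by
    rw [h1]
    exact Dvd.intro _ rfl
  refine Nat.Coprime.dvd_of_dvd_mul_left (Nat.Coprime.pow_left _ ?_) h2
  refine Nat.Coprime.coprime_dvd_right (Nat.gcd_dvd_right n (q + 1)) ?_
  simp

theorem row_psu_four {F : Type} [Field F] [Fintype F] {q p : ℕ} [hp : Fact p.Prime] [CharP F p]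
    (hF : Fintype.card F = q ^ 2) : Row.{u} (PSU 4 F q) := by
  obtain ⟨a, ha, hq⟩ := exists_pow (p := p) hF
  have h1 := dvd_card_psu (n := 4) hF (by omega) ha hq
  have h2 := par_PSU_even hF (show 4 = 2 * 2 from rfl) (by omega) (p := p)
  have hq2 := two_le_q hF
  refine row_of_par (m := 4) (k := a * 6) ?_ ?_ ?_ h2
  · rfl
  · rw [pow_mul, ← hq]; exact h1
  · rw [pow_mul, ← hq]
    exact Nat.pow_lt_pow_right (by omega) (by omega)

theorem row_psu_five {F : Type} [Field F] [Fintype F] {q p : ℕ} [hp : Fact p.Prime] [CharP F p]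
    (hF : Fintype.card F = q ^ 2) : Row.{u} (PSU 5 F q) := by
  obtain ⟨a, ha, hq⟩ := exists_pow (p := p) hF
  have h1 := dvd_card_psu (n := 5) hF (by omega) ha hq
  have hq2 := two_le_q hF
  refine row_of_par (m := 4) (k := a * 10) ?_ ?_ ?_ (par_PSU_five hF (p := p))
  · rfl
  · rw [pow_mul, ← hq]; exact h1
  · rw [pow_mul, ← hq, ← pow_mul]
    exact Nat.pow_lt_pow_right (by omega) (by omega)

end Cfsg.Agent.H480.Fr
end

-- part: H480/TwD4
section
/-!
# Nilpotent minimal covers: `³D₄(q)` (helper480, S3925, S3926)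
-/

set_option autoImplicit false
set_option linter.unusedSectionVars false

namespace Cfsg.Agent.H480.Fr

open Cfsg.Lie
open CoxeterSystem Cfsg.Agent.ChevalleyStructure.CoxeterGeom Cfsg.Agent.Tits.Roots Cfsg.Agent.Tits.Core
  Cfsg.Agent.Nodes.BNOf Cfsg.Agent.Nodes.RGDTwGen Cfsg.Agent.Nodes.RGDChev Cfsg.Agent.Nodes.RGDFold
  Cfsg.Agent.Nodes.RGDTwD4 Cfsg.Agent.Omega.ML.Ex.Typ
open Cfsg.Agent.ChevalleyStructure
  Cfsg.Agent.ChevalleyStructure.TwistedU Cfsg.Agent.ChevalleyStructure.TwistedFix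
open Cfsg.Agent.ChevalleyStructure.D4Comm Cfsg.Agent.ChevalleyStructure.D4RGD
open Cfsg.Agent.ChevalleyStructure.GraphSymm
open Cfsg.Agent.ChevalleyStructure.D4U Cfsg.Agent.ChevalleyStructure.D4Twisted
open Cfsg.Agent.ChevalleyStructure.D4Fixed (sig)

universe u v

theorem card_pow_eq_le {K : Type*} [Field K] [Finite K] {q : ℕ} (hq : 2 ≤ q) :
    Nat.card {c : K // c ^ q = c} ≤ q := by
  classical
  have : Fintype K := Fintype.ofFinite K
  let f : Polynomial K := Polynomial.X ^ q - Polynomial.X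
  have hdeg : (Polynomial.X : Polynomial K).natDegree < q := by
    rw [Polynomial.natDegree_X]; omega
  have hf : f.natDegree = q := by
    rw [Polynomial.natDegree_sub_eq_left_of_natDegree_lt (by rwa [Polynomial.natDegree_X_pow]),
      Polynomial.natDegree_X_pow]
  have hf0 : f ≠ 0 := by
    intro h
    rw [h, Polynomial.natDegree_zero] at hf
    omega
  have h1 : ∀ c : K, c ^ q = c → c ∈ f.roots.toFinset := by
    intro c hc
    rw [Multiset.mem_toFinset, Polynomial.mem_roots hf0, Polynomial.IsRoot.def]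
    simp only [f, Polynomial.eval_sub, Polynomial.eval_pow, Polynomial.eval_X]
    rw [hc, sub_self]
  have h2 : Nat.card {c : K // c ^ q = c} ≤ Nat.card f.roots.toFinset :=
    Nat.card_le_card_of_injective (fun c => (⟨c.1, h1 c.1 c.2⟩ : f.roots.toFinset)) fun x y e =>
      Subtype.ext (congrArg (fun z => (z.1 : K)) e)
  refine h2.trans ?_
  rw [Nat.card_eq_fintype_card, Fintype.card_coe]
  exact (Multiset.toFinset_card_le _).trans ((Polynomial.card_roots' f).trans hf.le)

theorem card_X0 {K : Type*} [Field K] [Fintype K] {φ : K →+* K} {q : ℕ} (hq : 2 ≤ q) (hφ : ∀ x, φ x = x ^ q) :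
    Nat.card (X φ q (sr 0)) ≤ q := by
  refine le_trans ?_ (card_pow_eq_le (K := K) hq)
  have h1 : ∀ g : X φ q (sr 0), ∃ t : {c : K // c ^ q = c},
      ((g : ↥(twistedD4 K q)) : GL chevD4.Idx K) = D4Comm.xG 14 (t : K) := by
    rintro ⟨g, hg⟩
    have h2 : (g : GL chevD4.Idx K) ∈ R chevD4 hp K J (sig φ) (sr 0) := hg
    rw [R0, Subgroup.mem_inf] at h2
    obtain ⟨t, ht⟩ : ∃ t, (g : GL chevD4.Idx K) = D4Comm.xG 14 t := by
      have h3 : RS K [14] ≤ chevD4.rootSubgroup K 14 := by
        refine rspan_le D4Comm.xG fun s hs t => ?_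
        have h4 : s = 14 := by simpa using hs
        subst h4
        exact xG_mem_rootSubgroup (F := K) 14 t
      exact mem_rootSubgroup.1 (h3 h2.1)
    refine ⟨⟨t, ?_⟩, ht⟩
    have h3 := h2.2
    rw [ht, ← D4U.xU_eq, D4Fixed.mem_fix, D4Fixed.sig_14, D4U.xU_eq, D4U.xU_eq] at h3
    have h4 := Elts.xG_injective (F := K) hp.inList (r := 14) (by decide) (by exact h3)
    rw [← hφ]
    exact h4
  choose f hf using h1
  refine Nat.card_le_card_of_injective f ?_
  intro g g' hgg
  apply Subtype.ext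
  apply Subtype.ext
  rw [hf g, hf g', hgg]

theorem row_twD4 {K : Type} [Field K] [Fintype K] {q : ℕ} (hq : IsPrimePow q) (hK : Fintype.card K = q ^ 3)
    (p : ℕ) [CharP K p] : Row.{u} ↥(Lie.twistedD4 K q) := by
  have : Fact p.Prime := ⟨CharP.char_is_prime K p⟩
  obtain ⟨φ, hφ⟩ := D4Fixed.exists_frob hq hK
  have h2 : 2 ≤ q := hq.two_le
  have hpar : ParT p CoxeterMatrix.G₂ (0 : Fin 2) q ↥(Lie.twistedD4 K q) :=
    ⟨_, isCartan, _, _, _, Cfsg.Agent.Nodes.RGDFold.finite_W (hp := hp) CoxeterMatrix.G₂.toCoxeterSystem isCartan foldData,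
      rgd _ hK hφ p, G1_eq_top _ hK hφ, card_X0 h2 hφ⟩
  -- the order
  obtain ⟨n, -, hn⟩ := FiniteField.card K p
  obtain ⟨a, -, ha⟩ : ∃ a ≤ (n : ℕ), q = p ^ a := (Nat.dvd_prime_pow Fact.out).1 (by
    rw [← hn, hK]; exact dvd_pow_self q three_ne_zero)
  have hdvd : p ^ (a * 12) ∣ Nat.card ↥(Lie.twistedD4 K q) := by
    rw [TwD4Card.card_twistedD4 hq hK]
    refine Dvd.dvd.mul_left (Dvd.dvd.mul_right ?_ _) _
    rw [D4U.card_U1 hq hK, pow_mul, ← ha]
  refine row_of_par (m := 6) (k := a * 12) rfl hdvd ?_ hpar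
  rw [pow_mul, ← ha]
  exact Nat.pow_lt_pow_right (by omega) (by omega)

end Cfsg.Agent.H480.Fr
end

private theorem dce_a6a727b8f73b : _root_.True := by
  try have : _root_.True := by simp only [_root_.Cfsg.Agent.H480.Three.mz.eq_1]
  try have : _root_.True := by simp only [_root_.Cfsg.Agent.H480.Three.ml.eq_1]
  try have : _root_.True := by simp only [_root_.Cfsg.Agent.H480.Three.mw.eq_1]
  try have : _root_.True := by simp only [_root_.Cfsg.Agent.H480.Three.md.eq_1]
  exact _root_.True.intro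
end

-- part: H480/Prime
section
set_option linter.all false
open scoped Cfsg.Agent.FastGrp

/-!
# Nilpotent minimal covers: a prime dividing the order exactly once (helper480, S3925, S3926)
-/

set_option autoImplicit false

namespace Cfsg.Agent.H480

open Subgroup

/-- the `p`-elements of a nilpotent subgroup containing an element `x` of order `p` are powers of `x`, if `p ^ 2` does
not divide the order -/
theorem mem_zpowers_of_nilpotent {G : Type*} [Group G] [Finite G] {p : ℕ} (hp : p.Prime) {x : G} (hx : orderOf x = p)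
    (hpp : ¬ p ^ 2 ∣ Nat.card G) {A : Subgroup G} (hA : Group.IsNilpotent ↥A) (hxA : x ∈ A) {y : G} (hy : y ∈ A)
    (hyp : ∃ k : ℕ, y ^ p ^ k = 1) : y ∈ zpowers x := by
  have hfp : Fact p.Prime := ⟨hp⟩
  obtain ⟨P⟩ : Nonempty (Sylow p ↥A) := inferInstance
  have hPn : (P : Subgroup ↥A).Normal := by
    have := (Group.isNilpotent_of_finite_tfae (G := ↥A)).out 0 3
    exact this.1 hA p hfp P
  have hel : ∀ b : ↥A, (∃ i : ℕ, b ^ p ^ i = 1) → b ∈ (P : Subgroup ↥A) := by
    rintro b ⟨i, hi⟩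
    have h2 : IsPGroup p ↥(zpowers b) := by
      rw [IsPGroup]
      rintro ⟨c, hc⟩
      obtain ⟨n, rfl⟩ := mem_zpowers_iff.1 hc
      exact ⟨i, Subtype.ext (by
        have h3 : (b ^ n) ^ p ^ i = (b ^ p ^ i) ^ n := by
          rw [← zpow_natCast, ← zpow_natCast, ← zpow_mul, ← zpow_mul, mul_comm]
        simpa [hi] using h3)⟩
    obtain ⟨Q, hQ⟩ := h2.exists_le_sylow
    have hQP : Q = P := by
      have hss := Sylow.unique_of_normal P hPn
      exact (hss.uniq Q).trans (hss.uniq P).symm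
    rw [← hQP]
    exact hQ (mem_zpowers b)
  have hxP : (⟨x, hxA⟩ : ↥A) ∈ (P : Subgroup ↥A) :=
    hel _ ⟨1, Subtype.ext (by
      have h0 : x ^ p = 1 := by rw [← hx, pow_orderOf_eq_one]
      simpa using h0)⟩
  have hyP : (⟨y, hy⟩ : ↥A) ∈ (P : Subgroup ↥A) := by
    obtain ⟨k, hk⟩ := hyp
    exact hel _ ⟨k, Subtype.ext (by simpa using hk)⟩
  -- the order of `P`
  have hPc : Nat.card (P : Subgroup ↥A) = p := by
    obtain ⟨n, hn⟩ := (IsPGroup.iff_card).1 P.isPGroup'
    have h1 : Nat.card (P : Subgroup ↥A) ∣ Nat.card G :=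
      (Subgroup.card_subgroup_dvd_card _).trans (Subgroup.card_subgroup_dvd_card A)
    have hn2 : n < 2 := by
      by_contra h
      apply hpp
      refine dvd_trans (pow_dvd_pow p (not_lt.1 h)) ?_
      rw [← hn]
      exact h1
    have hn0 : n ≠ 0 := by
      rintro rfl
      rw [pow_zero] at hn
      have h2 : (⟨x, hxA⟩ : ↥A) = 1 := by
        have h3 := (Subgroup.card_eq_one (H := (P : Subgroup ↥A))).1 hn
        rw [h3, mem_bot] at hxP
        exact hxP
      have h3 : x = 1 := congrArg Subtype.val h2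
      rw [h3, orderOf_one] at hx
      exact hp.one_lt.ne hx
    have h4 : n = 1 := by omega
    rw [hn, h4, pow_one]
  have hPz : (P : Subgroup ↥A) = zpowers ⟨x, hxA⟩ := by
    symm
    refine Subgroup.eq_of_le_of_card_ge (zpowers_le.2 hxP) ?_
    rw [hPc, Nat.card_zpowers, ← hx]
    exact (orderOf_coe (⟨x, hxA⟩ : ↥A)).le
  rw [hPz] at hyP
  obtain ⟨n, hn⟩ := mem_zpowers_iff.1 hyP
  refine mem_zpowers_iff.2 ⟨n, ?_⟩
  have h5 := congrArg Subtype.val hn
  simpa using h5

/-- a nilpotent subgroup containing `x` centralises `x` -/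
theorem comm_of_nilpotent {G : Type*} [Group G] [Finite G] {p : ℕ} (hp : p.Prime) {x : G} (hx : orderOf x = p)
    (hpp : ¬ p ^ 2 ∣ Nat.card G) {A : Subgroup G} (hA : Group.IsNilpotent ↥A) (hxA : x ∈ A) {y : G} (hy : y ∈ A) :
    y * x = x * y := by
  obtain ⟨s, t, hst, hs, ht⟩ := exists_parts y hp
  have h1 : y ^ s * x = x * y ^ s := by
    obtain ⟨n, hn⟩ := mem_zpowers_iff.1 (mem_zpowers_of_nilpotent hp hx hpp hA hxA (A.pow_mem hy s) hs)
    rw [← hn]
    exact ((Commute.refl x).zpow_left n).eq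
  have h2 : y ^ t * x = x * y ^ t := by
    have h3 : Commute (⟨y ^ t, A.pow_mem hy t⟩ : ↥A) ⟨x, hxA⟩ :=
      Lib.NilpotentCoprime.commute_of_coprime_orderOf (by
        rw [← orderOf_coe, ← orderOf_coe]
        change (orderOf (y ^ t)).Coprime (orderOf x)
        rw [hx]
        exact ht)
    exact congrArg Subtype.val h3.eq
  rw [hst, mul_assoc, h2, ← mul_assoc, h1, mul_assoc]

/-- **A prime dividing the order once**: `C(x)` in a proper subgroup `M` in which `⟨x⟩` is not normal. -/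
theorem NMC.not_of_prime {G : Type*} [Group G] [Finite G] {𝓐 : Finset (Subgroup G)} (h : NMC 𝓐) {p : ℕ}
    (hp : p.Prime) {x : G} (hx : orderOf x = p) (hpp : ¬ p ^ 2 ∣ Nat.card G) {M : Subgroup G} (hM : M ≠ ⊤)
    (hC : ∀ g, g * x = x * g → g ∈ M) {m : G} (hm : m ∈ M) (hmx : m * x * m⁻¹ ∉ zpowers x) : False := by
  have h1 := h.nilpotent_of_le hM (x := x) (fun A hA hxA g hg =>
    hC g (comm_of_nilpotent hp hx hpp hA hxA hg))
  apply hmx
  refine mem_zpowers_of_nilpotent hp hx hpp h1 (subset_closure (mem_cjs_self M x))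
    (subset_closure ⟨m, hm, rfl⟩) ⟨1, ?_⟩
  rw [pow_one, conj_pow, ← hx, pow_orderOf_eq_one]
  group

universe u v

/-- the criterion for automorphism groups: all automorphisms fixing `x` leave the proper subgroup `Y` invariant, and
`⟨x⟩` is not normal in `Y` -/
theorem NMC.not_of_prime_aut {S : Type v} [Group S] [Finite S] {G : Type u} [Group G] [Finite G]
    {K : Subgroup G} [hK : K.Normal] (hs : IsSimpleGroup ↥K) (hc : centralizer (K : Set G) = ⊥) (f : S ≃* ↥K)
    {𝓐 : Finset (Subgroup G)} (h : NMC 𝓐) {p : ℕ} (hp : p.Prime) {x : S} (hx : orderOf x = p)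
    (hpp : ¬ p ^ 2 ∣ Nat.card (MulAut S)) (Y : Subgroup S) (hYt : Y ≠ ⊤)
    (hC : ∀ α : MulAut S, α x = x → ∀ y ∈ Y, α y ∈ Y) {m : S} (hm : m ∈ Y) (hmx : m * x * m⁻¹ ∉ zpowers x) :
    False := by
  have hstab : ∀ α : MulAut S, (∀ y ∈ Y, α y ∈ Y) → ∀ y, α y ∈ Y → y ∈ Y := by
    intro α hα y hy
    have h1 : Y.map (α : S ≃* S).toMonoidHom = Y := by
      refine Subgroup.eq_of_le_of_card_ge ?_ ?_
      · rintro _ ⟨y, hy, rfl⟩
        exact hα y hy
      · exact (Nat.card_congr (Y.equivMapOfInjective _ (α : S ≃* S).injective).toEquiv).le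
    rw [← h1] at hy
    obtain ⟨z, hz, hzy⟩ := hy
    rw [← (α : S ≃* S).injective hzy]
    exact hz
  let M : Subgroup G :=
    { carrier := {g | ∀ y ∈ Y, act f g y ∈ Y}
      mul_mem' := by
        intro a b ha hb y hy
        rw [map_mul, MulAut.mul_apply]
        exact ha _ (hb y hy)
      one_mem' := by
        intro y hy
        rw [map_one, MulAut.one_apply]
        exact hy
      inv_mem' := by
        intro a ha y hy
        refine hstab (act f a) ha _ ?_
        rw [map_inv, MulAut.apply_inv_self]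
        exact hy }
  have hMmem : ∀ g, g ∈ M ↔ ∀ y ∈ Y, act f g y ∈ Y := fun g => Iff.rfl
  have hYM : ∀ y ∈ Y, (f y : G) ∈ M := by
    intro y hy z hz
    rw [act_coe, MulAut.conj_apply]
    exact mul_mem (mul_mem hy hz) (inv_mem hy)
  have hM : M ≠ ⊤ := by
    intro hM
    have hYn : Y.Normal := by
      refine ⟨fun y hy s => ?_⟩
      have h1 : (f s : G) ∈ M := by rw [hM]; exact mem_top _
      have h2 := h1 y hy
      rwa [act_coe, MulAut.conj_apply] at h2
    have hsS : IsSimpleGroup S := (MulEquiv.isSimpleGroup_congr f).2 hs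
    rcases hYn.eq_bot_or_eq_top with h1 | h1
    · rw [h1, mem_bot] at hm
      apply hmx
      rw [hm]
      simp
    · exact hYt h1
  refine h.not_of_prime hp (x := (f x : G)) (by rw [orderOf_coe, MulEquiv.orderOf_eq, hx]) ?_ hM ?_ (hYM m hm) ?_
  · intro h1
    exact hpp (h1.trans (Subgroup.card_dvd_of_injective (act f) (act_injective f hc)))
  · intro g hg
    exact hC _ (act_comm f hg)
  · intro h1
    apply hmx
    obtain ⟨k, hk⟩ := mem_zpowers_iff.1 h1
    refine mem_zpowers_iff.2 ⟨k, ?_⟩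
    apply f.injective
    apply Subtype.ext
    simpa using hk

end Cfsg.Agent.H480
end

-- part: H480/SporCoTwo
section
prune_inst 0xf43057200ba212080000001082003c32c8000430002b0800b8a00f020a06536000022f4048801c020a2ab28100010000000000c0400000000a00000000050120800052048348010c660009801007100000000000000000000000000000041000000000000
set_option linter.all false
open scoped Cfsg.Agent.FastGrp

-- part: H480/SporMSmall
section
/-!
# Nilpotent minimal covers: `M22`, `M23` (helper480, S3925, S3926)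
-/

set_option autoImplicit false

namespace Cfsg.Agent.H480

open Subgroup Equiv

universe u v

open scoped Pointwise

/-- the row from a prime dividing the order of the automorphism group once -/
theorem Row.of_prime_aut {S : Type v} [Group S] [Finite S] {p : ℕ} (hp : p.Prime) {x : S} (hx : orderOf x = p)
    (hpp : ¬ p ^ 2 ∣ Nat.card (MulAut S)) (Y : Subgroup S) (hYt : Y ≠ ⊤)
    (hC : ∀ α : MulAut S, α x = x → ∀ y ∈ Y, α y ∈ Y) {m : S} (hm : m ∈ Y) (hmx : m * x * m⁻¹ ∉ zpowers x) :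
    Row.{u} S := by
  intro G _ _ K hK hs hna hc hcyc f 𝓐 hA
  exact hA.not_of_prime_aut hs hc f hp hx hpp Y hYt hC hm hmx

theorem inj_five' {X : Type*} {a b c d e : X} (h1 : a ≠ b) (h2 : a ≠ c) (h3 : a ≠ d) (h4 : a ≠ e)
    (h5 : b ≠ c) (h6 : b ≠ d) (h7 : b ≠ e) (h8 : c ≠ d) (h9 : c ≠ e) (h10 : d ≠ e) :
    Function.Injective ![a, b, c, d, e] := by
  intro i j h
  fin_cases i <;> fin_cases j <;> first | rfl | exact absurd h (by assumption) |
    exact absurd h.symm (by assumption)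

open Cfsg in
/-- moving one point, four points fixed -/
theorem exists_fix_four {a b c d e e' : GolayPt} (h : Function.Injective ![a, b, c, d, e])
    (h' : Function.Injective ![a, b, c, d, e']) :
    ∃ m ∈ M24, m a = a ∧ m b = b ∧ m c = c ∧ m d = d ∧ m e = e' := by
  obtain ⟨g, hg⟩ := (MulAction.isMultiplyPretransitive_iff.mp Cfsg.Agent.S0366.result)
    (⟨_, h⟩ : Fin 5 ↪ GolayPt) (⟨_, h'⟩ : Fin 5 ↪ GolayPt)
  have hg' : ∀ i : Fin 5, (g : Perm GolayPt) (![a, b, c, d, e] i) = ![a, b, c, d, e'] i := by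
    intro i
    have := congrArg (fun f : Fin 5 ↪ GolayPt => f i) hg
    exact this
  exact ⟨g, g.2, hg' 0, hg' 1, hg' 2, hg' 3, hg' 4⟩

open Cfsg in
/-- an element of `M24` fixing three points fixed by `w` and not normalizing `⟨w⟩` -/
theorem exists_not_normal {w : Perm GolayPt} {n : ℕ} (hw : orderOf w = n) (hn : n ≤ 11) {f₁ f₂ f₃ a : GolayPt}
    (h12 : f₁ ≠ f₂) (h13 : f₁ ≠ f₃) (h23 : f₂ ≠ f₃) (h1 : w f₁ = f₁) (h2 : w f₂ = f₂)
    (h3 : w f₃ = f₃ ∨ ∀ k : ℤ, (w ^ k) a ≠ f₃) (ha : w a ≠ a) :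
    ∃ m ∈ M24, m f₁ = f₁ ∧ m f₂ = f₂ ∧ (w f₃ = f₃ → m f₃ = f₃) ∧ m * w * m⁻¹ ∉ zpowers w := by
  classical
  have hw0 : 0 < orderOf w := orderOf_pos w
  -- the orbit of `a`
  set O : Finset GolayPt := (Finset.range n).image (fun i => (w ^ i) a) with hO
  have hOc : O.card ≤ 11 := (Finset.card_image_le.trans (by rw [Finset.card_range])).trans hn
  have hmemO : ∀ k : ℤ, (w ^ k) a ∈ O := by
    intro k
    have h4 : w ^ k ∈ zpowers w := zpow_mem (mem_zpowers w) k
    rw [← mem_powers_iff_mem_zpowers] at h4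
    obtain ⟨i, hi⟩ := h4
    have hi' : w ^ i = w ^ k := hi
    rw [hO, Finset.mem_image]
    refine ⟨i % n, Finset.mem_range.2 (Nat.mod_lt _ (by rw [← hw]; exact hw0)), ?_⟩
    rw [← hw, pow_mod_orderOf, hi']
  have hfixO : ∀ f, w f = f → f ∉ O := by
    intro f hf hfO
    rw [hO, Finset.mem_image] at hfO
    obtain ⟨i, -, hi⟩ := hfO
    apply ha
    have h5 : (w ^ i) f = f := by
      have : ∀ j : ℕ, (w ^ j) f = f := by
        intro j
        induction j with
        | zero => rfl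
        | succ j ih => rw [pow_succ, Perm.mul_apply, hf, ih]
      exact this i
    have h6 : a = f := by
      apply (w ^ i).injective
      rw [h5]
      exact hi
    rw [h6, hf]
  have haO : a ∈ O := by
    have := hmemO 0
    rwa [zpow_zero] at this
  have hbO : w a ∈ O := by
    have := hmemO 1
    rwa [zpow_one] at this
  have hf3O : f₃ ∉ O := by
    rcases h3 with h3 | h3
    · exact hfixO _ h3
    · intro h4
      rw [hO, Finset.mem_image] at h4
      obtain ⟨i, -, hi⟩ := h4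
      exact h3 i (by rw [zpow_natCast]; exact hi)
  obtain ⟨c, hc⟩ : ∃ c, c ∉ O ∪ {f₁, f₂, f₃} := by
    by_contra hcon
    push Not at hcon
    have h4 : (Finset.univ : Finset GolayPt) ⊆ O ∪ {f₁, f₂, f₃} := fun c _ => hcon c
    have h5 := Finset.card_le_card h4
    have h6 : (Finset.univ : Finset GolayPt).card = 24 := by
      rw [Finset.card_univ]; rfl
    have h7 := Finset.card_union_le O ({f₁, f₂, f₃} : Finset GolayPt)
    have h8 : ({f₁, f₂, f₃} : Finset GolayPt).card ≤ 3 := Finset.card_le_three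
    omega
  rw [Finset.mem_union, not_or] at hc
  simp only [Finset.mem_insert, Finset.mem_singleton, not_or] at hc
  obtain ⟨hcO, hc1, hc2, hc3⟩ := hc
  have ne_of : ∀ {s t : GolayPt}, s ∉ O → t ∈ O → s ≠ t := fun hs ht h => hs (h ▸ ht)
  have hinj : Function.Injective ![f₁, f₂, f₃, a, w a] := by
    have e1 := ne_of (hfixO _ h1) haO
    have e2 := ne_of (hfixO _ h2) haO
    have e3 := ne_of hf3O haO
    have e4 := ne_of (hfixO _ h1) hbO
    have e5 := ne_of (hfixO _ h2) hbO
    have e6 := ne_of hf3O hbO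
    exact inj_five' h12 h13 e1 e4 h23 e2 e5 e3 e6 (Ne.symm ha)
  have hinj' : Function.Injective ![f₁, f₂, f₃, a, c] := by
    have e1 := ne_of (hfixO _ h1) haO
    have e2 := ne_of (hfixO _ h2) haO
    have e3 := ne_of hf3O haO
    have e4 := ne_of hcO haO
    exact inj_five' h12 h13 e1 (Ne.symm hc1) h23 e2 (Ne.symm hc2) e3 (Ne.symm hc3) (Ne.symm e4)
  obtain ⟨m, hm, m1, m2, m3, m4, m5⟩ := exists_fix_four hinj hinj'
  refine ⟨m, hm, m1, m2, fun _ => m3, ?_⟩
  intro hz
  obtain ⟨k, hk⟩ := mem_zpowers_iff.1 hz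
  apply hcO
  have h7 : (w ^ k) a = c := by
    rw [hk, Perm.mul_apply, Perm.mul_apply]
    have h8 : m⁻¹ a = a := by rw [Perm.inv_eq_iff_eq]; exact m4.symm
    rw [h8, m5]
  rw [← h7]
  exact hmemO k

open Cfsg Cfsg.Agent.J4Type.OuterM22 in
/-- **`M₂₂`** -/
theorem row_m22 : Row.{u} ↥Cfsg.Spor.M22 := by
  classical
  have hcard : Nat.card Cfsg.Spor.M22 = 443520 := Cfsg.Agent.SporadicA.MathieuRecog.card_M22
  have hfin : Finite ↥Cfsg.Spor.M22 := Nat.finite_of_card_ne_zero (by rw [hcard]; norm_num)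
  have hf7 : Fact (Nat.Prime 7) := ⟨by norm_num⟩
  obtain ⟨x, hx⟩ := exists_prime_orderOf_dvd_card' (G := ↥Cfsg.Spor.M22) 7 (by rw [hcard]; norm_num)
  have hx' : orderOf (x : Perm GolayPt) = 7 := by rw [orderOf_coe]; exact hx
  have hx7 : (x : Perm GolayPt) ^ 7 = 1 := by rw [← hx', pow_orderOf_eq_one]
  have hxne : (x : Perm GolayPt) ≠ 1 := by
    intro h
    rw [h, orderOf_one] at hx'
    norm_num at hx'
  have hx0 : (x : Perm GolayPt) none = none := (Cfsg.Agent.S5599.mem_M22_iff _).1 x.2 |>.2.1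
  have hx1 : (x : Perm GolayPt) (some 0) = some 0 := (Cfsg.Agent.S5599.mem_M22_iff _).1 x.2 |>.2.2
  -- one fixed point among the 22
  have hF := card_fixed_modEq (p := 7) hx7 (Y := U) (fun y hy => map_U hx0 hx1 hy)
  have hlt := card_fix_U (p := 7) (by norm_num) x.2 hx7 hxne
  rw [card_U] at hF
  have hF1 : (U.filter (fun y => (x : Perm GolayPt) y = y)).card = 1 := by
    unfold Nat.ModEq at hF
    omega
  obtain ⟨ω, hω⟩ := Finset.card_eq_one.1 hF1
  have hωm : ω ∈ U ∧ (x : Perm GolayPt) ω = ω := by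
    have h1 : ω ∈ U.filter (fun y => (x : Perm GolayPt) y = y) := by
      rw [hω]
      exact Finset.mem_singleton_self ω
    exact (Finset.mem_filter (p := fun y => (x : Perm GolayPt) y = y)).1 h1
  have huniq : ∀ y ∈ U, (x : Perm GolayPt) y = y → y = ω := by
    intro y hy hxy
    rw [← Finset.mem_singleton, ← hω, Finset.mem_filter]
    exact ⟨hy, hxy⟩
  -- a moved point
  obtain ⟨a, ha⟩ : ∃ a, (x : Perm GolayPt) a ≠ a := by
    by_contra hcon
    push Not at hcon
    exact hxne (Equiv.ext hcon)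
  have hω1 := mem_U.1 hωm.1
  obtain ⟨m, hmM, m1, m2, m3, hmx⟩ := exists_not_normal hx' (by norm_num) (f₁ := none) (f₂ := some 0) (f₃ := ω)
    (a := a) (by decide) (Ne.symm hω1.1) (Ne.symm hω1.2) hx0 hx1 (Or.inl hωm.2) ha
  have hmM22 : m ∈ Cfsg.Spor.M22 := (Cfsg.Agent.S5599.mem_M22_iff _).2 ⟨hmM, m1, m2⟩
  refine Row.of_prime_aut (p := 7) (by norm_num) hx ?_ (St ω) ?_ ?_ (m := ⟨m, hmM22⟩) (m3 hωm.2) ?_
  · have hD : Nat.card Cfsg.Agent.J4Type.Aut22.D22 = 887040 := Cfsg.Agent.J4Type.Aut22.card_D22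
    have hA : Nat.card (MulAut Cfsg.Spor.M22) = 887040 := by
      rw [← hD, ← Cfsg.Agent.KFacts.MM.OutAut.emb_range]
      exact Nat.card_congr (MonoidHom.ofInjective Cfsg.Agent.KFacts.MM.OutAut.emb_inj).toEquiv
    rw [hA]
    norm_num
  · intro htop
    have h1 := card_St hωm.1
    rw [htop, Nat.card_congr (Subgroup.topEquiv (G := ↥Cfsg.Spor.M22)).toEquiv, hcard] at h1
    norm_num at h1
  · intro α hα y hy
    have hcomm : sig α * (x : Perm GolayPt) = (x : Perm GolayPt) * sig α := by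
      have h1 := sig_conj α x
      rw [hα] at h1
      rw [← mul_inv_eq_iff_eq_mul]
      exact h1.symm
    have hsω : sig α ω = ω := by
      apply huniq
      · rw [sig_apply]
        exact pm_mem α hωm.1
      · have h2 := congrArg (fun g : Perm GolayPt => g ω) hcomm
        simp only [Perm.mul_apply, hωm.2] at h2
        exact h2.symm
    rw [mem_St] at hy ⊢
    rw [sig_conj, Perm.mul_apply, Perm.mul_apply]
    have h3 : (sig α)⁻¹ ω = ω := by rw [Perm.inv_eq_iff_eq, hsω]
    rw [h3, hy, hsω]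
  · intro hz
    apply hmx
    obtain ⟨k, hk⟩ := mem_zpowers_iff.1 hz
    exact mem_zpowers_iff.2 ⟨k, by simpa only [_root_.SubgroupClass.coe_zpow, _root_.Subgroup.coe_mul, _root_.InvMemClass.coe_inv] using congrArg Subtype.val hk⟩

open Cfsg Cfsg.Agent.J4Type.OuterM22 in
/-- **`M₂₃`** -/
theorem row_m23 : Row.{u} ↥Cfsg.Spor.M23 := by
  classical
  have hcard : Nat.card Cfsg.Spor.M23 = 10200960 := Cfsg.Agent.SporadicA.MathieuRecog.card_M23
  have hfin : Finite ↥Cfsg.Spor.M23 := Nat.finite_of_card_ne_zero (by rw [hcard]; norm_num)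
  have hf11 : Fact (Nat.Prime 11) := ⟨by norm_num⟩
  have hmem23 : ∀ g : Perm GolayPt, g ∈ Cfsg.Spor.M23 ↔ g ∈ Cfsg.M24 ∧ g none = none := by
    intro g
    unfold Cfsg.Spor.M23
    rw [Subgroup.mem_inf, MulAction.mem_stabilizer_iff]
    rfl
  obtain ⟨x, hx⟩ := exists_prime_orderOf_dvd_card' (G := ↥Cfsg.Spor.M23) 11 (by rw [hcard]; norm_num)
  have hx' : orderOf (x : Perm GolayPt) = 11 := by rw [orderOf_coe]; exact hx
  have hx11 : (x : Perm GolayPt) ^ 11 = 1 := by rw [← hx', pow_orderOf_eq_one]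
  have hxne : (x : Perm GolayPt) ≠ 1 := by
    intro h
    rw [h, orderOf_one] at hx'
    norm_num at hx'
  have hxM := ((hmem23 _).1 x.2).1
  have hx0 : (x : Perm GolayPt) none = none := ((hmem23 _).1 x.2).2
  have hc24 : (Finset.univ : Finset GolayPt).card = 24 := by
    rw [Finset.card_univ]; rfl
  have hF := card_fixed_modEq (p := 11) hx11 (Y := Finset.univ) (fun y _ => Finset.mem_univ _)
  have hlt : (Finset.univ.filter fun y => (x : Perm GolayPt) y = y).card < 5 := by
    by_contra hcon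
    exact hxne (Cfsg.Agent.H337.MTwentyFour.eq_one_of_fix hxM hx11 (not_lt.1 hcon))
  rw [hc24] at hF
  have hF1 : (Finset.univ.filter (fun y => (x : Perm GolayPt) y = y)).card = 2 := by
    unfold Nat.ModEq at hF
    omega
  obtain ⟨p, q, hpq, hFpq⟩ := Finset.card_eq_two.1 hF1
  have hmemF : ∀ y, (x : Perm GolayPt) y = y ↔ y = p ∨ y = q := by
    intro y
    have h1 : y ∈ Finset.univ.filter (fun y => (x : Perm GolayPt) y = y) ↔ y ∈ ({p, q} : Finset GolayPt) := by
      rw [hFpq]
    simpa using h1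
  obtain ⟨ω, hωn, hω⟩ : ∃ ω, ω ≠ none ∧ ∀ y, (x : Perm GolayPt) y = y ↔ y = none ∨ y = ω := by
    rcases (hmemF none).1 hx0 with h1 | h1
    · refine ⟨q, ?_, fun y => by rw [hmemF y, h1]⟩
      rw [h1]
      exact hpq.symm
    · refine ⟨p, ?_, fun y => by rw [hmemF y, h1, or_comm]⟩
      rw [h1]
      exact hpq
  have hxω : (x : Perm GolayPt) ω = ω := (hω ω).2 (Or.inr rfl)
  -- a moved point and a third point
  obtain ⟨a, ha⟩ : ∃ a, (x : Perm GolayPt) a ≠ a := by
    by_contra hcon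
    push Not at hcon
    exact hxne (Equiv.ext hcon)
  obtain ⟨f, hf0, hf1, hfa⟩ : ∃ f, f ≠ none ∧ f ≠ ω ∧ ∀ k : ℤ, ((x : Perm GolayPt) ^ k) a ≠ f := by
    by_contra hcon
    push Not at hcon
    have h1 : (Finset.univ : Finset GolayPt) ⊆
        ((Finset.range 11).image (fun i => ((x : Perm GolayPt) ^ i) a)) ∪ {none, ω} := by
      intro y _
      rw [Finset.mem_union]
      by_cases h2 : y = none
      · right; rw [h2]; simp
      by_cases h3 : y = ω
      · right; rw [h3]; simp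
      left
      obtain ⟨k, hk⟩ := hcon y h2 h3
      have h4 : (x : Perm GolayPt) ^ k ∈ zpowers (x : Perm GolayPt) := zpow_mem (mem_zpowers _) k
      rw [← mem_powers_iff_mem_zpowers] at h4
      obtain ⟨i, hi⟩ := h4
      have hi' : (x : Perm GolayPt) ^ i = (x : Perm GolayPt) ^ k := hi
      rw [Finset.mem_image]
      refine ⟨i % 11, Finset.mem_range.2 (Nat.mod_lt _ (by norm_num)), ?_⟩
      rw [← hk, ← hi']
      conv_rhs => rw [← pow_mod_orderOf, hx']
    have h5 := Finset.card_le_card h1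
    have h6 := Finset.card_union_le ((Finset.range 11).image (fun i => ((x : Perm GolayPt) ^ i) a))
      ({none, ω} : Finset GolayPt)
    have h7 : ((Finset.range 11).image (fun i => ((x : Perm GolayPt) ^ i) a)).card ≤ 11 :=
      Finset.card_image_le.trans (by rw [Finset.card_range])
    have h8 : ({none, ω} : Finset GolayPt).card ≤ 2 := Finset.card_le_two
    omega
  obtain ⟨m, hmM, m1, m2, -, hmx⟩ := exists_not_normal hx' (by norm_num) (f₁ := none) (f₂ := ω) (f₃ := f)
    (a := a) (Ne.symm hωn) (Ne.symm hf0) (Ne.symm hf1) hx0 hxω (Or.inr hfa) ha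
  have hmM23 : m ∈ Cfsg.Spor.M23 := (hmem23 _).2 ⟨hmM, m1⟩
  let Y : Subgroup ↥Cfsg.Spor.M23 :=
    (MulAction.stabilizer (Perm GolayPt) ω).comap (Subgroup.subtype _)
  have hY : ∀ g : ↥Cfsg.Spor.M23, g ∈ Y ↔ (g : Perm GolayPt) ω = ω := fun g => Iff.rfl
  refine Row.of_prime_aut (p := 11) (by norm_num) hx ?_ Y ?_ ?_ (m := ⟨m, hmM23⟩) m2 ?_
  · have hsurj : Function.Surjective (MulAut.conj : ↥Cfsg.Spor.M23 →* MulAut ↥Cfsg.Spor.M23) := by
      intro α
      obtain ⟨k, hk⟩ := Cfsg.Agent.UGT.MTwentyThree.Aut.exists_conj α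
      exact ⟨k, hk.symm⟩
    intro h1
    have h2 := h1.trans (Subgroup.card_dvd_of_surjective _ hsurj)
    rw [hcard] at h2
    norm_num at h2
  · intro htop
    -- `M₂₃` moves `ω`
    obtain ⟨b, hb0, hbω, hba⟩ : ∃ b : GolayPt, b ≠ none ∧ b ≠ ω ∧ b ≠ a := by
      have h1 : ∃ b, b ∉ ({none, ω, a} : Finset GolayPt) := by
        by_contra hcon
        push Not at hcon
        have h2 := Finset.card_le_card (fun b _ => hcon b : (Finset.univ : Finset GolayPt) ⊆ {none, ω, a})
        have h3 : ({none, ω, a} : Finset GolayPt).card ≤ 3 := Finset.card_le_three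
        omega
      obtain ⟨b, hb⟩ := h1
      simp only [Finset.mem_insert, Finset.mem_singleton, not_or] at hb
      exact ⟨b, hb.1, hb.2.1, hb.2.2⟩
    have hex : ∀ s : Finset GolayPt, s.card < 24 → ∃ c, c ∉ s := by
      intro s hs
      by_contra hcon
      push Not at hcon
      have h2 := Finset.card_le_card (fun b _ => hcon b : (Finset.univ : Finset GolayPt) ⊆ s)
      omega
    obtain ⟨c, hc⟩ := hex {none, ω, b} (lt_of_le_of_lt Finset.card_le_three (by norm_num))
    simp only [Finset.mem_insert, Finset.mem_singleton, not_or] at hc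
    obtain ⟨d, hd⟩ := hex {none, ω, b, c} (lt_of_le_of_lt Finset.card_le_four (by norm_num))
    simp only [Finset.mem_insert, Finset.mem_singleton, not_or] at hd
    obtain ⟨e, he⟩ := hex {none, ω, b, c, d} (lt_of_le_of_lt Finset.card_le_five (by norm_num))
    simp only [Finset.mem_insert, Finset.mem_singleton, not_or] at he
    obtain ⟨g, hg, g1, -, -, -, g5⟩ := exists_fix_four (a := none) (b := c) (c := d) (d := e) (e := ω) (e' := b)
      (inj_five' (Ne.symm hc.1) (Ne.symm hd.1) (Ne.symm he.1) (Ne.symm hωn) (Ne.symm hd.2.2.2)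
        (Ne.symm he.2.2.2.1) hc.2.1 (Ne.symm he.2.2.2.2) hd.2.1 he.2.1)
      (inj_five' (Ne.symm hc.1) (Ne.symm hd.1) (Ne.symm he.1) (Ne.symm hb0) (Ne.symm hd.2.2.2)
        (Ne.symm he.2.2.2.1) hc.2.2 (Ne.symm he.2.2.2.2) hd.2.2.1 he.2.2.1)
    have h9 : (⟨g, (hmem23 g).2 ⟨hg, g1⟩⟩ : ↥Cfsg.Spor.M23) ∈ Y := by rw [htop]; exact mem_top _
    have h10 : g ω = ω := h9
    exact hbω (g5.symm.trans h10)
  · intro α hα y hy
    obtain ⟨k, hk⟩ := Cfsg.Agent.UGT.MTwentyThree.Aut.exists_conj α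
    rw [hk, MulAut.conj_apply] at hα
    have hcomm : (k : Perm GolayPt) * (x : Perm GolayPt) = (x : Perm GolayPt) * k := by
      rw [← mul_inv_eq_iff_eq_mul]
      exact congrArg Subtype.val hα
    have hk0 : (k : Perm GolayPt) none = none := ((hmem23 _).1 k.2).2
    have hsω : (k : Perm GolayPt) ω = ω := by
      have h2 := congrArg (fun g : Perm GolayPt => g ω) hcomm
      simp only [Perm.mul_apply, hxω] at h2
      rcases (hω _).1 h2.symm with h3 | h3
      · exact absurd ((k : Perm GolayPt).injective (h3.trans hk0.symm)) hωn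
      · exact h3
    rw [hY] at hy ⊢
    rw [hk, MulAut.conj_apply]
    change ((k : Perm GolayPt) * y * (k : Perm GolayPt)⁻¹) ω = ω
    rw [Perm.mul_apply, Perm.mul_apply]
    have h3 : (k : Perm GolayPt)⁻¹ ω = ω := by rw [Perm.inv_eq_iff_eq, hsω]
    rw [h3, hy, hsω]
  · intro hz
    apply hmx
    obtain ⟨k, hk⟩ := mem_zpowers_iff.1 hz
    exact mem_zpowers_iff.2 ⟨k, by simpa only [_root_.SubgroupClass.coe_zpow, _root_.Subgroup.coe_mul, _root_.InvMemClass.coe_inv] using congrArg Subtype.val hk⟩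

end Cfsg.Agent.H480
end

-- part: H480/SporHS
section
/-!
# Nilpotent minimal covers: `HS` (helper480, S3925, S3926)
-/

set_option autoImplicit false

namespace Cfsg.Agent.H480

open Subgroup Equiv

universe u v

theorem card_mulAut_dvd (S : Type v) [Group S] [Finite S] : Nat.card (MulAut S) ∣ Nat.card S * Nat.card (Cfsg.Out S) := by
  have h1 : Nat.card (MulAut S) = Nat.card ↥(Cfsg.Inn S) * (Cfsg.Inn S).index := (Subgroup.card_mul_index _).symm
  have h2 : (Cfsg.Inn S).index = Nat.card (Cfsg.Out S) := rfl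
  have h3 : Nat.card ↥(Cfsg.Inn S) ∣ Nat.card S := Subgroup.card_range_dvd _
  rw [h1, h2]
  exact Nat.mul_dvd_mul_right h3 _

namespace HSRow

open Cfsg.Agent.SporadicA.PermTab Cfsg.Agent.HN.HS100 Cfsg.Agent.HN.AutHS

/-- the element of order 11 on the points -/
def xe (i : ℕ) : ℕ := lk s4 (lk s3 (lk s3 (lk s3 i)))

/-- iteration -/
def xpow (k i : ℕ) : ℕ := Nat.rec i (fun _ j => xe j) k

theorem c11 : (allB (fun i => Nat.beq (xpow 11 i) i) 100) = true := by decide +kernel

theorem cfix : (allB (fun i => cond (Nat.beq (xe i) i) (Nat.beq i 0) true) 100) = true := by decide +kernel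

/-- a point where `m x` and `x ^ k m` differ -/
theorem cnorm : ∀ k : Fin 11, ∃ i : Fin 100, lk s3 (xe (i : ℕ)) ≠ xpow (k : ℕ) (lk s3 (i : ℕ)) := by decide +kernel

theorem row_Q : Row.{u} ↥Q := by
  obtain ⟨g3, hg3, e3⟩ := in3
  obtain ⟨g4, hg4, e4⟩ := in4
  have hfin : Finite ↥Q := finite_Q
  obtain ⟨⟨e⟩, -⟩ := nonempty_Q
  have h3Q : g3 ∈ Q := ps_le _ _ hg3
  have h4Q : g4 ∈ Q := ps_le _ _ hg4
  have hg30 : g3 0 = 0 := (mem_ps.1 hg3).2
  have hg40 : g4 0 = 0 := (mem_ps.1 hg4).2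
  set x : Perm (Fin 100) := g4 * (g3 * (g3 * g3)) with hxdef
  have hxQ : x ∈ Q := mul_mem h4Q (mul_mem h3Q (mul_mem h3Q h3Q))
  have hxe : ∀ i, ((x i : Fin 100) : ℕ) = xe i := by
    intro i
    rw [hxdef, Perm.mul_apply, Perm.mul_apply, Perm.mul_apply, e4, e3, e3, e3]
    rfl
  have hpow : ∀ (k : ℕ) (i : Fin 100), (((x ^ k) i : Fin 100) : ℕ) = xpow k i := by
    intro k
    induction k with
    | zero => intro i; rfl
    | succ k ih =>
      intro i
      rw [pow_succ', Perm.mul_apply, hxe, ih]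
      rfl
  have hx11 : x ^ 11 = 1 := by
    apply Equiv.ext
    intro i
    apply Fin.ext
    rw [hpow]
    exact Nat.eq_of_beq_eq_true ((allB_iff _ _).1 c11 i i.2)
  have hxfix : ∀ i, x i = i → i = 0 := by
    intro i hi
    have h1 := (allB_iff _ _).1 cfix i i.2
    have h2 : Nat.beq (xe i) i = true := by
      rw [← hxe, hi]
      exact Nat.beq_refl _
    rw [h2] at h1
    exact Fin.ext (Nat.eq_of_beq_eq_true h1)
  have hx0 : x 0 = 0 := by
    rw [hxdef, Perm.mul_apply, Perm.mul_apply, Perm.mul_apply, hg30, hg30, hg30, hg40]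
  have hxne : x ≠ 1 := by
    intro h
    have h1 := hxfix 1 (by rw [h]; rfl)
    exact absurd h1 (by decide)
  have hord : orderOf (⟨x, hxQ⟩ : ↥Q) = 11 := by
    have : Fact (Nat.Prime 11) := ⟨by norm_num⟩
    rw [← orderOf_coe]
    exact orderOf_eq_prime hx11 hxne
  let Y : Subgroup ↥Q := (MulAction.stabilizer (Perm (Fin 100)) (0 : Fin 100)).comap (Subgroup.subtype _)
  have hY : ∀ g : ↥Q, g ∈ Y ↔ (g : Perm (Fin 100)) 0 = 0 := fun g => Iff.rfl
  refine Row.of_prime_aut (p := 11) (by norm_num) hord ?_ Y ?_ ?_ (m := ⟨g3, h3Q⟩) hg30 ?_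
  · intro h1
    have h2 : Nat.card (MulAut ↥Q) = Nat.card (MulAut ↥Cfsg.Spor.HS) := Nat.card_congr (MulAut.congr e).toEquiv
    rw [h2] at h1
    have hfin' : Finite ↥Cfsg.Spor.HS := Finite.of_equiv _ e.toEquiv
    have h3 := h1.trans (card_mulAut_dvd ↥Cfsg.Spor.HS)
    have hcard : Nat.card ↥Cfsg.Spor.HS = 44352000 := Cfsg.Agent.KFacts.HS.card ⟨MulEquiv.refl _⟩
    rw [Cfsg.Agent.S2072.result, hcard] at h3
    norm_num at h3
  · intro htop
    have h1 := trans_Q
    obtain ⟨g, hg⟩ := h1.exists_smul_eq (0 : Fin 100) 1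
    have h2 : g ∈ Y := by rw [htop]; exact mem_top _
    have h3 : (g : Perm (Fin 100)) 0 = 0 := h2
    have h4 : (g : Perm (Fin 100)) 0 = 1 := hg
    rw [h3] at h4
    exact absurd h4 (by decide)
  · intro α hα y hy
    obtain ⟨p, -, hp⟩ := exists_perm α
    have h1 := hp ⟨x, hxQ⟩
    rw [hα] at h1
    have hcomm : p * x = x * p := by
      rw [← mul_inv_eq_iff_eq_mul]
      exact h1.symm
    have hp0 : p 0 = 0 := by
      apply hxfix
      have h2 := congrArg (fun g : Perm (Fin 100) => g 0) hcomm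
      simp only [Perm.mul_apply, hx0] at h2
      exact h2.symm
    rw [hY] at hy ⊢
    rw [hp, Perm.mul_apply, Perm.mul_apply]
    have h3 : p⁻¹ 0 = 0 := by rw [Perm.inv_eq_iff_eq, hp0]
    rw [h3, hy, hp0]
  · intro hz
    have h1 : (⟨g3, h3Q⟩ : ↥Q) * ⟨x, hxQ⟩ * (⟨g3, h3Q⟩ : ↥Q)⁻¹ ∈ Submonoid.powers (⟨x, hxQ⟩ : ↥Q) :=
      mem_powers_iff_mem_zpowers.2 hz
    obtain ⟨k, hk⟩ := h1
    have hk' : x ^ k = g3 * x * g3⁻¹ := congrArg Subtype.val hk
    have hk2 : x ^ (k % 11) = g3 * x * g3⁻¹ := by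
      rw [← hk']
      conv_rhs => rw [← pow_mod_orderOf]
      rw [← hord, ← orderOf_coe]
    obtain ⟨i, hi⟩ := cnorm ⟨k % 11, Nat.mod_lt _ (by norm_num)⟩
    apply hi
    have h5 : g3 * x = x ^ (k % 11) * g3 := by
      rw [hk2]
      group
    have h6 := congrArg (fun g : Perm (Fin 100) => ((g i : Fin 100) : ℕ)) h5
    simp only [Perm.mul_apply] at h6
    rw [e3, hxe, hpow, e3] at h6
    exact h6

end HSRow

/-- **`HS`** -/
theorem row_hs : Row.{u} ↥Cfsg.Spor.HS := by
  obtain ⟨⟨e⟩, -⟩ := Cfsg.Agent.HN.AutHS.nonempty_Q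
  exact Row.congr e HSRow.row_Q

end Cfsg.Agent.H480
end

-- part: MonsterP/LeechMu
section
/-!
Connectivity of the graphs of common neighbours on the minimal vectors of the Leech lattice
(adjacency: inner product `±16`): the neighbours of `o` (`9200` points, with the edges `u, u'`
such that `o, u, u'` is a triple with product `16 ^ 3` of the inner products), and the common
neighbours of `o` and `x` for `x = -o`, `(o, x) = 0` and `(o, x) = ±8`.
-/

set_option autoImplicit false

namespace Cfsg.Agent.MonsterP.LeechMu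

open Cfsg Cfsg.Agent.MonsterX.KSide Cfsg.Agent.MonsterX.Lat Cfsg.Agent.Leech.Min
  Cfsg.Agent.Leech.Trans Cfsg.Agent.Leech.TransPair Cfsg.Agent.Leech.Code
  Cfsg.Agent.Leech.Co0Elts Cfsg.Agent.MonsterP.LeechTriple Cfsg.Agent.MonsterP.LeechNbr
  Cfsg.Agent.Leech.Basic Cfsg.Agent.MonsterP.LeechPairs

/-! ### Reflexive transitive closures -/

/-! ### The neighbours of a vector -/

/-- Neighbours `u`, `u'` of `o` such that `o, u, u'` have, up to signs, inner products `16`. -/
def NbrAdj (o u u' : leechLattice) : Prop :=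
  nrm u = 32 ∧ nrm u' = 32 ∧ (dot o u = 16 ∨ dot o u = -16) ∧ (dot o u' = 16 ∨ dot o u' = -16) ∧
    dot o u * dot o u' * dot u u' = 4096

theorem NbrAdj.symm {o u u' : leechLattice} (h : NbrAdj o u u') : NbrAdj o u' u := by
  obtain ⟨h1, h2, h3, h4, h5⟩ := h
  refine ⟨h2, h1, h4, h3, ?_⟩
  rw [dot_comm u' u, mul_comm (dot o u')]
  exact h5

section

variable {p q : GolayPt} (hpq : p ≠ q)

include hpq

end

/-! ### Common neighbours -/

/-- Common neighbours of `o` and `x`. -/
def Mu (o x u : leechLattice) : Prop :=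
  nrm u = 32 ∧ (dot o u = 16 ∨ dot o u = -16) ∧ (dot x u = 16 ∨ dot x u = -16)

/-- Adjacency among the common neighbours. -/
def MuAdj (o x u u' : leechLattice) : Prop :=
  Mu o x u ∧ Mu o x u' ∧ (dot u u' = 16 ∨ dot u u' = -16)

theorem MuAdj.symm {o x u u' : leechLattice} (h : MuAdj o x u u') : MuAdj o x u' u :=
  ⟨h.2.1, h.1, by rw [dot_comm]; exact h.2.2⟩

/-! ### Inner product `0` -/

section

variable {p q : GolayPt} (hpq : p ≠ q)

include hpq

end

/-! ### Inner product `8` -/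

/-- The vector with coordinate `3` at `p` and `-1` elsewhere. -/
def w3 (p : GolayPt) : leechLattice := ⟨fun i => if i = p then 3 else -1,
  ((min_iff _).2 (Or.inr (Or.inr ⟨p, Or.inl (if_pos rfl), fun i hi => Or.inr (if_neg hi), by
    have : cls (fun i => if i = p then (3 : ℤ) else -1) 1 = ∅ := by
      ext i
      rw [mem_cls]
      unfold Int.ModEq
      simp only [Finset.notMem_empty, iff_false]
      split_ifs <;> decide
    rw [this]
    exact empty_mem⟩))).1⟩

theorem nrm_w3 (p : GolayPt) : nrm (w3 p) = 32 :=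
  ((min_iff _).2 (Or.inr (Or.inr ⟨p, Or.inl (if_pos rfl), fun i hi => Or.inr (if_neg hi), by
    have : cls (fun i => if i = p then (3 : ℤ) else -1) 1 = ∅ := by
      ext i
      rw [mem_cls]
      unfold Int.ModEq
      simp only [Finset.notMem_empty, iff_false]
      split_ifs <;> decide
    rw [this]
    exact empty_mem⟩))).2

theorem dot_w3 (p : GolayPt) (u : leechLattice) :
    dot (w3 p) u = 4 * (u : GolayPt → ℤ) p - ∑ i, (u : GolayPt → ℤ) i := by
  show dotInt _ _ = _
  unfold dotInt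
  have : ∀ i, ((w3 p : leechLattice) : GolayPt → ℤ) i * (u : GolayPt → ℤ) i =
      (if i = p then 4 * (u : GolayPt → ℤ) p else 0) - (u : GolayPt → ℤ) i := by
    intro i
    show (if i = p then (3 : ℤ) else -1) * _ = _
    split_ifs with h
    · subst h; ring
    · ring
  rw [Finset.sum_congr rfl fun i _ => this i, Finset.sum_sub_distrib, Finset.sum_ite_eq' Finset.univ p]
  simp only [_root_.Finset.mem_univ, ↓ _root_.reduceIte, _root_.Fintype.sum_option]

section

variable {p q : GolayPt} (hpq : p ≠ q)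

include hpq

end

end Cfsg.Agent.MonsterP.LeechMu
end

-- part: H480/SporCoTwo
section
/-!
# Nilpotent minimal covers: `Co2` (helper480, S3925, S3926)
-/

set_option autoImplicit false

namespace Cfsg.Agent.H480

open Subgroup Equiv

universe u v w

open scoped Pointwise

theorem exists_conj_of_out {S : Type v} {T : Type w} [Group S] [Group T] (e : S ≃* T)
    (h : Nat.card (Cfsg.Out T) = 1) (α : MulAut S) : ∃ s : S, ∀ x, α x = s * x * s⁻¹ := by
  have h1 : (Cfsg.Inn T).index = 1 := h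
  have h2 : Cfsg.Inn T = ⊤ := Subgroup.index_eq_one.1 h1
  have h3 : (MulAut.congr e α) ∈ Cfsg.Inn T := by rw [h2]; exact mem_top _
  obtain ⟨t, ht⟩ := h3
  refine ⟨e.symm t, fun x => ?_⟩
  have h4 := congrArg (fun β : MulAut T => e.symm (β (e x))) ht
  simp only [MulAut.conj_apply, map_mul, map_inv, MulEquiv.symm_apply_apply, MulAut.congr_apply,
    MulEquiv.trans_apply] at h4
  exact h4.symm

namespace CoTwoRow

open Cfsg Cfsg.Agent.Leech.FrameAux Cfsg.Agent.MonsterX.KSide Cfsg.Agent.MonsterX.Lat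
  Cfsg.Agent.MonsterP.LeechMu Cfsg.Agent.MonsterP.LeechTriple

/-- `g` acts on the lattice as the permutation `σ` of the coordinates -/
def IsP (g : Co0) (σ : Perm GolayPt) : Prop :=
  ∀ (v : leechLattice) (i : GolayPt), ((g • v : leechLattice) : GolayPt → ℤ) i = (v : GolayPt → ℤ) (σ.symm i)

theorem IsP.mul {g h : Co0} {σ τ : Perm GolayPt} (hg : IsP g σ) (hh : IsP h τ) : IsP (g * h) (σ * τ) := by
  intro v i
  rw [mul_smul, hg, hh]
  rfl

theorem IsP.one : IsP 1 1 := by
  intro v i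
  rw [one_smul]
  rfl

theorem IsP.inv {g : Co0} {σ : Perm GolayPt} (hg : IsP g σ) : IsP g⁻¹ σ⁻¹ := by
  intro v i
  have h1 := hg (g⁻¹ • v) (σ i)
  rw [smul_inv_smul, Equiv.symm_apply_apply] at h1
  rw [← h1]
  rfl

theorem IsP.pow {g : Co0} {σ : Perm GolayPt} (hg : IsP g σ) (n : ℕ) : IsP (g ^ n) (σ ^ n) := by
  induction n with
  | zero => exact IsP.one
  | succ n ih => rw [pow_succ, pow_succ]; exact ih.mul hg

theorem IsP.eq {g h : Co0} {σ : Perm GolayPt} (hg : IsP g σ) (hh : IsP h σ) : g = h := by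
  apply Subtype.ext
  apply Equiv.ext
  intro v
  apply Subtype.ext
  funext i
  exact (hg v i).trans (hh v i).symm

theorem e8_val (p i : GolayPt) : (e8 p : GolayPt → ℤ) i = if i = p then 8 else 0 := by
  rw [coe_e8, Pi.single_apply]

theorem IsP.inj {g : Co0} {σ τ : Perm GolayPt} (hg : IsP g σ) (hh : IsP g τ) : σ = τ := by
  have h1 : σ.symm = τ.symm := by
    apply Equiv.ext
    intro i
    have h2 := (hg (e8 (σ.symm i)) i).symm.trans (hh (e8 (σ.symm i)) i)
    rw [e8_val, e8_val, if_pos rfl] at h2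
    by_contra hne
    rw [if_neg (fun h => hne h.symm)] at h2
    norm_num at h2
  exact Equiv.symm_bijective.1 h1

theorem IsP.smul_e8 {g : Co0} {σ : Perm GolayPt} (hg : IsP g σ) {p : GolayPt} (hp : σ p = p) : g • e8 p = e8 p := by
  apply Subtype.ext
  funext i
  rw [hg, e8_val, e8_val]
  have h1 : σ.symm i = p ↔ i = p := by
    rw [Equiv.symm_apply_eq, hp]
  simp only [h1]

theorem IsP.smul_w3 {g : Co0} {σ : Perm GolayPt} (hg : IsP g σ) {p : GolayPt} (hp : σ p = p) : g • w3 p = w3 p := by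
  apply Subtype.ext
  funext i
  rw [hg]
  change (if σ.symm i = p then (3 : ℤ) else -1) = if i = p then (3 : ℤ) else -1
  have h1 : σ.symm i = p ↔ i = p := by
    rw [Equiv.symm_apply_eq, hp]
  simp only [h1]

theorem mem23 (g : Perm GolayPt) : g ∈ Cfsg.Spor.M23 ↔ g ∈ Cfsg.M24 ∧ g none = none := by
  unfold Cfsg.Spor.M23
  rw [Subgroup.mem_inf, MulAction.mem_stabilizer_iff]
  rfl

theorem dot_e8 (v : leechLattice) : dot v (e8 none) = 8 * (v : GolayPt → ℤ) none := by
  change dotInt _ _ = _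
  rw [coe_e8, Cfsg.Agent.Leech.FrameAux.dot_single_right]
  ring

theorem nrm_leechU' : nrm Spor.leechU' = 32 := by
  change sqNorm Spor.vecU' = 32
  decide +kernel

theorem dot_one : dot (w3 none) Spor.leechU' = 16 := by
  change dotInt (fun i => if i = none then 3 else -1) Spor.vecU' = 16
  decide +kernel

theorem dot_two : dot (w3 none) (w3 (some 0)) = 16 := by
  change dotInt (fun i => if i = none then 3 else -1) (fun i => if i = some 0 then 3 else -1) = 16
  decide +kernel

/-- a permutation of order 23 fixing the extra point is transitive on the others -/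
theorem exists_zpow {σ : Perm GolayPt} (hσo : orderOf σ = 23) (hσ0 : σ none = none) {i j : GolayPt} (hi : i ≠ none)
    (hj : j ≠ none) : ∃ k : ℤ, (σ ^ k) i = j := by
  have hc24 : Fintype.card GolayPt = 24 := rfl
  have hcyc : σ.IsCycle := Perm.isCycle_of_prime_order' (by rw [hσo]; norm_num) (by rw [hσo, hc24]; norm_num)
  have hsupp : ∀ i, i ≠ none → σ i ≠ i := by
    intro i hi h1
    have h2 : σ.support.card = 23 := by rw [← hcyc.orderOf, hσo]
    have h3 : σ.support ⊆ (Finset.univ.erase none).erase i := by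
      intro j hj
      rw [Perm.mem_support] at hj
      rw [Finset.mem_erase, Finset.mem_erase]
      refine ⟨?_, ?_, Finset.mem_univ _⟩
      · rintro rfl
        exact hj h1
      · rintro rfl
        exact hj hσ0
    have h4 := Finset.card_le_card h3
    rw [Finset.card_erase_of_mem (by simpa using hi), Finset.card_erase_of_mem (Finset.mem_univ _), Finset.card_univ,
      hc24, h2] at h4
    norm_num at h4
  exact hcyc.sameCycle (hsupp i hi) (hsupp j hj)

theorem const_of_inv {σ : Perm GolayPt} (hσo : orderOf σ = 23) (hσ0 : σ none = none) {f : GolayPt → ℤ}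
    (hf : ∀ i, f (σ i) = f i) {i : GolayPt} (hi : i ≠ none) : f i = f (some 0) := by
  obtain ⟨k, hk⟩ := exists_zpow hσo hσ0 (Option.some_ne_none 0) hi
  have h2 : ∀ k : ℤ, ∀ j, f ((σ ^ k) j) = f j := by
    have h3 : ∀ (n : ℕ) (j : GolayPt), f ((σ ^ n) j) = f j := by
      intro n
      induction n with
      | zero => intro j; rfl
      | succ n ih => intro j; rw [pow_succ', Perm.mul_apply, hf, ih]
    intro k j
    obtain ⟨n, rfl | rfl⟩ := k.eq_nat_or_neg
    · rw [zpow_natCast]; exact h3 n j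
    · rw [zpow_neg, zpow_natCast]
      have h4 := h3 n ((σ ^ n)⁻¹ j)
      rw [← h4]
      simp
  rw [← hk, h2]

/-- the centralizer of `x` in the stabilizer fixes the extra coordinate vector -/
theorem fix_of_comm {σ : Perm GolayPt} (hσo : orderOf σ = 23) (hσ0 : σ none = none) {x : Co0} (hx : IsP x σ) {c : Co0}
    (hcu : c • w3 none = w3 none) (hcx : c * x = x * c) : c • e8 none = e8 none := by
  have hc24 : Fintype.card GolayPt = 24 := rfl
  have hxe : x • e8 none = e8 none := hx.smul_e8 hσ0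
  set w := c • e8 none with hw
  have hxw : x • w = w := by
    rw [hw, ← mul_smul, ← hcx, mul_smul, hxe]
  have hwσ : ∀ i, (w : GolayPt → ℤ) (σ i) = (w : GolayPt → ℤ) i := by
    intro i
    have h1 := hx w (σ i)
    rw [hxw, Equiv.symm_apply_apply] at h1
    exact h1
  have hwc : ∀ i, i ≠ none → (w : GolayPt → ℤ) i = (w : GolayPt → ℤ) (some 0) := fun i hi =>
    const_of_inv hσo hσ0 hwσ hi
  obtain ⟨a, ha⟩ : ∃ a, a = (w : GolayPt → ℤ) none := ⟨_, rfl⟩
  obtain ⟨b, hb⟩ : ∃ b, b = (w : GolayPt → ℤ) (some 0) := ⟨_, rfl⟩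
  have hn : a ^ 2 + 23 * b ^ 2 = 64 := by
    have h1 : nrm w = 64 := by
      rw [hw, nrm_smul]
      change sqNorm _ = _
      rw [coe_e8, sqNorm_single]
      norm_num
    rw [← h1]
    change _ = sqNorm _
    rw [sqNorm_def, ← Finset.add_sum_erase _ _ (Finset.mem_univ (none : GolayPt)),
      Finset.sum_congr rfl (fun i hi => by rw [hwc i (Finset.ne_of_mem_erase hi)] :
        ∀ i ∈ Finset.univ.erase (none : GolayPt), (w : GolayPt → ℤ) i ^ 2 = (w : GolayPt → ℤ) (some 0) ^ 2),
      Finset.sum_const, Finset.card_erase_of_mem (Finset.mem_univ _), Finset.card_univ, hc24, ← ha, ← hb]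
    norm_num
  have hd : 3 * a - 23 * b = 24 := by
    have h1 : dot (w3 none) w = 24 := by
      have h2 := dot_smul c (w3 none) (e8 none)
      rw [hcu] at h2
      rw [hw, h2, dot_e8]
      rfl
    rw [← h1, dot_w3, ← Finset.add_sum_erase _ _ (Finset.mem_univ (none : GolayPt)),
      Finset.sum_congr rfl (fun i hi => by rw [hwc i (Finset.ne_of_mem_erase hi)] :
        ∀ i ∈ Finset.univ.erase (none : GolayPt), (w : GolayPt → ℤ) i = (w : GolayPt → ℤ) (some 0)),
      Finset.sum_const, Finset.card_erase_of_mem (Finset.mem_univ _), Finset.card_univ, hc24, ← ha, ← hb]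
    norm_num
    ring
  have hb0 : b = 0 := by
    have h1 : b * (736 * b + 1104) = 0 := by nlinarith only [hn, hd]
    rcases mul_eq_zero.1 h1 with h2 | h2
    · exact h2
    · (clear * - ha h2; omega)
  have ha8 : a = 8 := by
    rw [hb0] at hd
    omega
  apply Subtype.ext
  funext i
  rw [e8_val]
  by_cases hi : i = none
  · rw [if_pos hi, hi, ← ha, ha8]
  · rw [if_neg hi, hwc i hi, ← hb, hb0]

theorem row_stab : Row.{u} ↥(MulAction.stabilizer Co0 (w3 none)) := by
  have hcard : Nat.card Cfsg.Spor.M23 = 10200960 := Cfsg.Agent.SporadicA.MathieuRecog.card_M23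
  have hfin23 : Finite ↥Cfsg.Spor.M23 := Nat.finite_of_card_ne_zero (by rw [hcard]; norm_num)
  have hsim := Cfsg.Agent.S2037.simple
  have hf23 : Fact (Nat.Prime 23) := ⟨by norm_num⟩
  obtain ⟨⟨e⟩⟩ : Nonempty (Nonempty (MulAction.stabilizer Co0 (w3 none) ≃* Spor.Co2)) :=
    ⟨Cfsg.Agent.Schreier.CoTwoStab.exists_equiv (w3 none) (by
      rw [← Cfsg.Agent.SporadicStructure.Co2RankThree.norm_eq]
      exact nrm_w3 none)⟩
  have hfin2 : Finite Spor.Co2 := Cfsg.Agent.Schreier.CoTwoStab.finite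
  have hfin : Finite ↥(MulAction.stabilizer Co0 (w3 none)) := Finite.of_equiv _ e.symm.toEquiv
  -- a permutation of order 23
  obtain ⟨σ', hσ'⟩ := exists_prime_orderOf_dvd_card' (G := ↥Cfsg.Spor.M23) 23 (by rw [hcard]; norm_num)
  obtain ⟨σ, hσ⟩ : ∃ σ : Perm GolayPt, σ = σ' := ⟨_, rfl⟩
  have hσo : orderOf σ = 23 := by rw [hσ, orderOf_coe]; exact hσ'
  have hσM : σ ∈ Cfsg.Spor.M23 := by rw [hσ]; exact σ'.2
  have hσ0 : σ none = none := ((mem23 _).1 hσM).2
  -- a permutation not normalizing `⟨σ⟩`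
  obtain ⟨τ, hτM, hτ⟩ : ∃ τ ∈ Cfsg.Spor.M23, τ * σ * τ⁻¹ ∉ zpowers σ := by
    by_contra hcon
    push Not at hcon
    have hn : (zpowers σ').Normal := by
      refine ⟨?_⟩
      intro n hn g
      obtain ⟨k, rfl⟩ := mem_zpowers_iff.1 hn
      obtain ⟨j, hj⟩ := mem_zpowers_iff.1 (hcon g g.2)
      have h1 : g * σ' * g⁻¹ = σ' ^ j := by
        apply Subtype.ext
        rw [hσ] at hj
        simpa only [_root_.Subgroup.coe_mul, _root_.InvMemClass.coe_inv, _root_.SubgroupClass.coe_zpow] using hj.symm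
      refine mem_zpowers_iff.2 ⟨j * k, ?_⟩
      rw [zpow_mul, ← h1, conj_zpow]
    rcases hn.eq_bot_or_eq_top with h1 | h1
    · have h2 := Nat.card_zpowers σ'
      rw [h1, hσ'] at h2
      rw [Nat.card_eq_one_iff_unique.2 ⟨inferInstance, inferInstance⟩] at h2
      norm_num at h2
    · have h2 := Nat.card_zpowers σ'
      rw [h1, hσ', Nat.card_congr (Subgroup.topEquiv (G := ↥Cfsg.Spor.M23)).toEquiv, hcard] at h2
      norm_num at h2
  have hτ0 : τ none = none := ((mem23 _).1 hτM).2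
  obtain ⟨x, hx⟩ : ∃ x : Co0, IsP x σ := exists_co0_of_perm σ ((mem23 _).1 hσM).1
  obtain ⟨m, hm⟩ : ∃ x : Co0, IsP x τ := exists_co0_of_perm τ ((mem23 _).1 hτM).1
  have hxS : x ∈ MulAction.stabilizer Co0 (w3 none) := hx.smul_w3 hσ0
  have hmS : m ∈ MulAction.stabilizer Co0 (w3 none) := hm.smul_w3 hτ0
  have hxe : x • e8 none = e8 none := hx.smul_e8 hσ0
  have hme : m • e8 none = e8 none := hm.smul_e8 hτ0
  have hxo : orderOf (⟨x, hxS⟩ : ↥(MulAction.stabilizer Co0 (w3 none))) = 23 := by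
    rw [← orderOf_coe]
    refine orderOf_eq_prime ?_ ?_
    · have h1 := hx.pow 23
      have h2 : σ ^ 23 = 1 := orderOf_dvd_iff_pow_eq_one.1 (dvd_of_eq hσo)
      rw [h2] at h1
      exact h1.eq IsP.one
    · intro h1
      change x = 1 at h1
      rw [h1] at hx
      have h2 := hx.inj IsP.one
      rw [h2, orderOf_one] at hσo
      norm_num at hσo
  have hfix : ∀ c : Co0, c • w3 none = w3 none → c * x = x * c → c • e8 none = e8 none :=
    fun c h1 h2 => fix_of_comm hσo hσ0 hx h1 h2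
  let Y : Subgroup ↥(MulAction.stabilizer Co0 (w3 none)) :=
    (MulAction.stabilizer Co0 (e8 none)).comap (Subgroup.subtype _)
  have hY : ∀ g : ↥(MulAction.stabilizer Co0 (w3 none)), g ∈ Y ↔ (g : Co0) • e8 none = e8 none := fun g => Iff.rfl
  refine Row.of_prime_aut (p := 23) (by norm_num) hxo ?_ Y ?_ ?_ (m := ⟨m, hmS⟩) hme ?_
  · intro h1
    rw [Nat.card_congr (MulAut.congr e).toEquiv] at h1
    have h3 := h1.trans (card_mulAut_dvd ↥Cfsg.Spor.Co2)
    rw [Cfsg.Agent.S2070.result, Cfsg.Agent.Schreier.CoTwoStab.card] at h3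
    norm_num at h3
  · intro htop
    obtain ⟨g, hg1, hg2⟩ := exists_pair (w3 none) Spor.leechU' (w3 none) (w3 (some 0)) (nrm_w3 _)
      nrm_leechU' (nrm_w3 _) (nrm_w3 _) dot_one dot_two
    have h1 : (⟨g, hg1⟩ : ↥(MulAction.stabilizer Co0 (w3 none))) ∈ Y := by rw [htop]; exact mem_top _
    have h2 : g • e8 none = e8 none := h1
    have h3 := dot_smul g Spor.leechU' (e8 none)
    rw [hg2, h2, dot_e8, dot_e8] at h3
    have h4 : (w3 (some 0) : GolayPt → ℤ) none = -1 := rfl
    have h5 : (Spor.leechU' : GolayPt → ℤ) none = 4 := rfl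
    rw [h4, h5] at h3
    norm_num at h3
  · intro α hα y hy
    obtain ⟨c, hc⟩ := exists_conj_of_out e Cfsg.Agent.S2070.result α
    rw [hc] at hα
    have hcomm : (c : Co0) * x = x * c := by
      rw [← mul_inv_eq_iff_eq_mul]
      exact congrArg Subtype.val hα
    have h1 := hfix c c.2 hcomm
    rw [hY] at hy ⊢
    rw [hc]
    change ((c : Co0) * y * (c : Co0)⁻¹) • e8 none = e8 none
    have h3 : (c : Co0)⁻¹ • e8 none = e8 none := by rw [inv_smul_eq_iff, h1]
    rw [mul_smul, mul_smul, h3, hy, h1]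
  · intro hz
    have h1 : (⟨m, hmS⟩ : ↥(MulAction.stabilizer Co0 (w3 none))) * ⟨x, hxS⟩ * (⟨m, hmS⟩)⁻¹ ∈
        Submonoid.powers (⟨x, hxS⟩ : ↥(MulAction.stabilizer Co0 (w3 none))) :=
      mem_powers_iff_mem_zpowers.2 hz
    obtain ⟨k, hk⟩ := h1
    have hk' : x ^ k = m * x * m⁻¹ := congrArg Subtype.val hk
    have h2 := hx.pow k
    rw [hk'] at h2
    have h3 := ((hm.mul hx).mul hm.inv).inj h2
    apply hτ
    rw [h3]
    exact pow_mem (mem_zpowers σ) k

end CoTwoRow

/-- **`Co₂`** -/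
theorem row_co2 : Row.{u} ↥Cfsg.Spor.Co2 := by
  obtain ⟨e⟩ := Cfsg.Agent.Schreier.CoTwoStab.exists_equiv (Cfsg.Agent.MonsterP.LeechMu.w3 none) (by
      rw [← Cfsg.Agent.SporadicStructure.Co2RankThree.norm_eq]
      exact Cfsg.Agent.MonsterP.LeechMu.nrm_w3 none)
  exact Row.congr e CoTwoRow.row_stab

end Cfsg.Agent.H480
end
end

-- part: H480/KillHom
section
set_option linter.all false
open scoped Cfsg.Agent.FastGrp

/-!
# The kill criterion from a homomorphism of the centralizer of an involution (helper480, S3925, S3926)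

* `Kill.of_hom` : `C(z) / ⟨z⟩ ≅ X` where `X` has no nontrivial nilpotent normal subgroups and elements of odd prime
  order `q` which commute with no involution;
* `Kill.of_elem` : the same with an explicit element `d` of odd order and a kernel in which `d` commutes only with
  the involution `z`.
-/

set_option autoImplicit false

namespace Cfsg.Agent.H480

open Subgroup

variable {S : Type*} [Group S]



theorem Kill.of_elem {z d : S} (hz : orderOf z = 2) (hd : Odd (orderOf d)) (hzd : z * d = d * z)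
    {X : Type*} [Group X] (φ : ↥(centralizer ({z} : Set S)) →* X)
    (hker : ∀ x : ↥(centralizer ({z} : Set S)), φ x = 1 → (x : S) * x = 1 → (x : S) * d = d * x →
      (x : S) = 1 ∨ (x : S) = z)
    (hC : ∀ b : X, b ∈ φ.range → b * b = 1 →
      b * φ ⟨d, mem_centralizer_singleton_iff.2 hzd.symm⟩ = φ ⟨d, mem_centralizer_singleton_iff.2 hzd.symm⟩ * b →
      b = 1)
    (hnil : ¬ Group.IsNilpotent ↥(closure (cjs (centralizer ({z} : Set S)) d))) : Kill S := by
  refine Kill.of_inv hz hd hzd ?_ hnil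
  intro x hx hxz hxd
  have hxC : x ∈ centralizer ({z} : Set S) := mem_centralizer_singleton_iff.2 hxz
  refine hker ⟨x, hxC⟩ (hC _ ⟨_, rfl⟩ ?_ ?_) hx hxd
  · rw [← map_mul, ← map_one φ]
    exact congrArg φ (Subtype.ext hx)
  · rw [← map_mul, ← map_mul]
    exact congrArg φ (Subtype.ext hxd)

/-- `C(z) / ⟨z⟩ ≅ X` where `X` has no nontrivial nilpotent normal subgroups and elements of odd prime order `q`
which commute with no involution. -/
theorem Kill.of_hom {z : S} (hz : orderOf z = 2) {X : Type*} [Group X] [Finite X]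
    (φ : ↥(centralizer ({z} : Set S)) →* X) (hφ : Function.Surjective φ)
    (hker : ∀ x : ↥(centralizer ({z} : Set S)), φ x = 1 → (x : S) = 1 ∨ (x : S) = z)
    {q : ℕ} (hq : q.Prime) (hq2 : q ≠ 2) (hqX : q ∣ Nat.card X)
    (hC : ∀ a b : X, orderOf a = q → orderOf b = 2 → a * b ≠ b * a)
    (hN : ∀ N : Subgroup X, N.Normal → N ≠ ⊥ → ¬ Group.IsNilpotent ↥N) : Kill S := by
  have hfq : Fact q.Prime := ⟨hq⟩
  obtain ⟨a, ha⟩ := exists_prime_orderOf_dvd_card' (G := X) q hqX
  obtain ⟨⟨c, hc⟩, rfl⟩ := hφ a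
  have hcz : c * z = z * c := mem_centralizer_singleton_iff.1 hc
  have hodd : Odd q := hq.odd_of_ne_two hq2
  -- `d = c ^ 2` has order `q`
  have hcq : c ^ q = 1 ∨ c ^ q = z := by
    have h1 : φ (⟨c, hc⟩ ^ q) = 1 := by rw [map_pow, ← ha, pow_orderOf_eq_one]
    simpa using hker _ h1
  have hzz : z * z = 1 := by rw [← pow_two, ← hz, pow_orderOf_eq_one]
  have hd : (c ^ 2) ^ q = 1 := by
    rw [← pow_mul, mul_comm, pow_mul]
    rcases hcq with h1 | h1
    · rw [h1, one_pow]
    · rw [h1, pow_two, hzz]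
  have hzd : z * c ^ 2 = c ^ 2 * z := ((show Commute z c from hcz.symm).pow_right 2).eq
  have hdodd : Odd (orderOf (c ^ 2)) := by
    rcases (Nat.dvd_prime hq).1 (orderOf_dvd_of_pow_eq_one hd) with h1 | h1
    · rw [h1]
      exact odd_one
    · rw [h1]
      exact hodd
  have hφd : φ ⟨c ^ 2, mem_centralizer_singleton_iff.2 hzd.symm⟩ = φ ⟨c, hc⟩ ^ 2 := by
    rw [← map_pow]
    rfl
  have hord : orderOf (φ ⟨c, hc⟩ ^ 2) = q := by
    have h1 := Nat.Coprime.orderOf_pow (y := φ ⟨c, hc⟩) (m := 2) (by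
      rw [ha]
      exact (Nat.coprime_primes hq Nat.prime_two).2 hq2)
    rw [h1, ha]
  refine Kill.of_elem hz hdodd hzd φ (fun x hx _ _ => hker x hx) ?_ ?_
  · intro b _ hb2 hbd
    rw [hφd] at hbd
    by_contra hb1
    have h1 : orderOf b = 2 := orderOf_eq_prime (by rw [pow_two]; exact hb2) hb1
    exact hC _ _ hord h1 hbd.symm
  · intro hn
    -- the image of the group generated by the conjugates
    set D : Subgroup S := closure (cjs (centralizer ({z} : Set S)) (c ^ 2)) with hD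
    have hDC : D ≤ centralizer ({z} : Set S) := by
      rw [hD, closure_le]
      rintro _ ⟨m, hm, rfl⟩
      exact mul_mem (mul_mem hm (mem_centralizer_singleton_iff.2 hzd.symm)) (inv_mem hm)
    have hN1 := hN ((D.subgroupOf (centralizer ({z} : Set S))).map φ) ?_ ?_
    · refine hN1 ?_
      have h1 : Group.IsNilpotent ↥(D.subgroupOf (centralizer ({z} : Set S))) :=
        Group.nilpotent_of_mulEquiv (_h := hn) (subgroupOfEquivOfLe hDC).symm
      exact Group.nilpotent_of_surjective (h := h1)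
        (φ.subgroupMap (D.subgroupOf (centralizer ({z} : Set S))))
        (φ.subgroupMap_surjective (D.subgroupOf (centralizer ({z} : Set S))))
    · refine ⟨?_⟩
      rintro _ ⟨x, hx, rfl⟩ g
      obtain ⟨y, rfl⟩ := hφ g
      refine ⟨y * x * y⁻¹, ?_, by simp⟩
      have h2 : ∀ x ∈ D, ∀ y ∈ centralizer ({z} : Set S), y * x * y⁻¹ ∈ D := by
        intro x hx y hy
        have h3 : D ≤ D.comap (MulAut.conj y).toMonoidHom := by
          conv_lhs => rw [hD]
          rw [closure_le]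
          rintro _ ⟨m, hm, rfl⟩
          refine subset_closure ⟨y * m, mul_mem hy hm, ?_⟩
          simp [mul_assoc]
        have h4 := h3 hx
        simpa using h4
      exact h2 x hx y y.2
    · intro hb
      have h2 : φ ⟨c ^ 2, mem_centralizer_singleton_iff.2 hzd.symm⟩ ∈
          (D.subgroupOf (centralizer ({z} : Set S))).map φ :=
        ⟨⟨c ^ 2, mem_centralizer_singleton_iff.2 hzd.symm⟩, subset_closure (mem_cjs_self _ _), rfl⟩
      rw [hb, mem_bot, hφd] at h2
      rw [h2, orderOf_one] at hord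
      exact hq.one_lt.ne hord

end Cfsg.Agent.H480
end

-- part: H480/SporTools
section
set_option linter.all false
open scoped Cfsg.Agent.FastGrp

/-!
# Nilpotent minimal covers: tools for the sporadic groups (helper480, S3925, S3926)
-/

set_option autoImplicit false

namespace Cfsg.Agent.H480

open Subgroup Equiv

/-- a permutation commuting with a cycle of prime order with at most one fixed point is `1` if its order is coprime
to the order of the cycle -/
theorem eq_one_of_comm_cycle {α : Type*} [Fintype α] [DecidableEq α] {a b : Perm α} {p m : ℕ} (hp : p.Prime)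
    (ha : orderOf a = p) (h1 : Fintype.card α ≤ p + 1) (hp2 : 3 ≤ p) (hb : b ^ m = 1) (hm : m.Coprime p)
    (hab : a * b = b * a) : b = 1 := by
  have hcyc : a.IsCycle := by
    refine Equiv.Perm.isCycle_of_prime_order' (by rw [ha]; exact hp) ?_
    rw [ha]
    omega
  have hsup : a.support.card = p := by rw [← hcyc.orderOf, ha]
  obtain ⟨hc', k, hk⟩ := (hcyc.commute_iff (g := b)).1 hab.symm
  have hk1 : ∀ x ∈ a.support, b x = (a ^ k) x := by
    intro x hx
    have h2 := congrArg (fun e : Perm α => e x) hk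
    simp only at h2
    rw [h2, Perm.ofSubtype_apply_of_mem _ hx]
    rfl
  have hk2 : ∀ j : ℕ, ∀ x ∈ a.support, (b ^ j) x = (a ^ (k * j)) x := by
    intro j
    induction j with
    | zero => intro x hx; simp
    | succ j ih =>
      intro x hx
      rw [pow_succ', Perm.mul_apply, ih x hx]
      have h2 : (a ^ (k * j)) x ∈ a.support := Perm.zpow_apply_mem_support.2 hx
      rw [hk1 _ h2, ← Perm.mul_apply, ← zpow_add]
      congr 2
      push_cast
      ring
  have hkm : a ^ (k * m) = 1 := by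
    ext x
    by_cases hx : x ∈ a.support
    · rw [← hk2 m x hx, hb]
    · have h2 : a x = x := Perm.notMem_support.1 hx
      rw [Perm.zpow_apply_eq_self_of_apply_eq_self h2, Perm.one_apply]
  have hak : a ^ k = 1 := by
    rw [← orderOf_dvd_iff_zpow_eq_one, ha] at hkm ⊢
    exact (Int.isCoprime_iff_gcd_eq_one.2 (by simpa using hm.symm)).dvd_of_dvd_mul_right hkm
  have hfix : ∀ x ∈ a.support, b x = x := by
    intro x hx
    rw [hk1 x hx, hak, Perm.one_apply]
  have hcompl : (a.supportᶜ).card ≤ 1 := by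
    rw [Finset.card_compl, hsup]
    omega
  ext x
  by_cases hx : x ∈ a.support
  · rw [hfix x hx, Perm.one_apply]
  · have h2 : b x ∉ a.support := fun h => hx ((hc' x).1 h)
    rw [Perm.one_apply]
    exact Finset.card_le_one.1 hcompl _ (Finset.mem_compl.2 h2) _ (Finset.mem_compl.2 hx)

theorem alt_not_comm {n : ℕ} (hn : 5 ≤ n) : ∃ a b : ↥(alternatingGroup (Fin n)), a * b ≠ b * a := by
  by_contra h
  push Not at h
  have h1 : center ↥(alternatingGroup (Fin n)) = ⊥ := alternatingGroup.center_eq_bot (by simpa only [_root_.Nat.card_eq_fintype_card, _root_.Fintype.card_fin] using (by omega : 4 ≤ n))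
  have h2 : ∀ a : ↥(alternatingGroup (Fin n)), a = 1 := by
    intro a
    have h3 : a ∈ center ↥(alternatingGroup (Fin n)) := mem_center_iff.2 fun g => h g a
    rw [h1, mem_bot] at h3
    exact h3
  have hs : IsSimpleGroup ↥(alternatingGroup (Fin n)) := alternatingGroup.isSimpleGroup (by simpa only [_root_.Nat.card_eq_fintype_card, _root_.Fintype.card_fin] using hn)
  obtain ⟨a, b, hab⟩ := exists_pair_ne ↥(alternatingGroup (Fin n))
  exact hab ((h2 a).trans (h2 b).symm)

/-- the alternating group of degree at least 5 has no nontrivial nilpotent normal subgroup -/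
theorem alt_normal_not_nilpotent {n : ℕ} (hn : 5 ≤ n) (N : Subgroup ↥(alternatingGroup (Fin n))) (hN : N.Normal)
    (h1 : N ≠ ⊥) : ¬ Group.IsNilpotent ↥N := by
  intro h
  have hs : IsSimpleGroup ↥(alternatingGroup (Fin n)) := alternatingGroup.isSimpleGroup (by simpa only [_root_.Nat.card_eq_fintype_card, _root_.Fintype.card_fin] using hn)
  rcases hs.eq_bot_or_eq_top_of_normal N hN with h2 | h2
  · exact h1 h2
  · subst h2
    have h3 : Group.IsNilpotent ↥(alternatingGroup (Fin n)) :=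
      Group.nilpotent_of_mulEquiv (_h := h) (Subgroup.topEquiv)
    obtain ⟨a, b, hab⟩ := alt_not_comm hn
    exact hab (IsSimpleGroup.comm_iff_isSolvable.2 inferInstance a b)

/-- `C(z) ≅ C₂ × X` -/
theorem Kill.of_prod {S : Type*} [Group S] {z : S} (hz : orderOf z = 2) {X : Type*} [Group X] [Finite X]
    (e : ↥(centralizer ({z} : Set S)) ≃* Multiplicative (ZMod 2) × X)
    {q : ℕ} (hq : q.Prime) (hq2 : q ≠ 2) (hqX : q ∣ Nat.card X)
    (hC : ∀ a b : X, orderOf a = q → orderOf b = 2 → a * b ≠ b * a)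
    (hN : ∀ N : Subgroup X, N.Normal → N ≠ ⊥ → ¬ Group.IsNilpotent ↥N) : Kill S := by
  have hzX : center X = ⊥ := by
    by_contra h
    exact hN _ inferInstance h ((Group.isNilpotent_iff _).2 ⟨1, by
      rw [Subgroup.upperCentralSeries_one, eq_top_iff]
      intro x _
      rw [mem_center_iff]
      intro g
      exact Subtype.ext (mem_center_iff.1 x.2 _)⟩)
  refine Kill.of_hom hz ((MonoidHom.snd (Multiplicative (ZMod 2)) X).comp e.toMonoidHom) ?_ ?_ hq hq2 hqX hC hN
  · intro x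
    exact ⟨e.symm (1, x), by simp only [_root_.MulEquiv.toMonoidHom_eq_coe, _root_.MonoidHom.coe_comp, _root_.MonoidHom.coe_snd, _root_.MonoidHom.coe_coe, _root_.Function.comp_apply, _root_.MulEquiv.apply_symm_apply]⟩
  · intro x hx
    have hx1 : (e x).2 = 1 := hx
    have hz0 : z ∈ centralizer ({z} : Set S) := mem_centralizer_singleton_iff.2 rfl
    obtain ⟨w, hw⟩ : ∃ w : ↥(centralizer ({z} : Set S)), w = ⟨z, hz0⟩ := ⟨_, rfl⟩
    have hwc : ∀ g, g * w = w * g := by
      intro g
      rw [hw]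
      exact Subtype.ext (mem_centralizer_singleton_iff.1 g.2)
    have hw2 : (e w).2 = 1 := by
      have h1 : (e w).2 ∈ center X := by
        rw [mem_center_iff]
        intro g
        have h2 := congrArg e (hwc (e.symm (1, g)))
        rw [map_mul, map_mul, MulEquiv.apply_symm_apply] at h2
        simpa only [_root_.Prod.snd_mul] using congrArg Prod.snd h2
      rwa [hzX, mem_bot] at h1
    have hw1 : (e w).1 ≠ 1 := by
      intro h1
      have h2 : e w = 1 := Prod.ext h1 hw2
      rw [MulEquiv.map_eq_one_iff] at h2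
      rw [hw] at h2
      have h3 : z = 1 := congrArg Subtype.val h2
      rw [h3, orderOf_one] at hz
      exact absurd hz (by norm_num)
    have hcl : ∀ a b : Multiplicative (ZMod 2), a ≠ 1 → b = 1 ∨ b = a := by decide
    rcases hcl (e w).1 (e x).1 hw1 with h1 | h1
    · left
      have h2 : e x = 1 := Prod.ext h1 hx1
      rw [MulEquiv.map_eq_one_iff] at h2
      rw [h2]
      rfl
    · right
      have h2 : e x = e w := Prod.ext h1 (hx1.trans hw2.symm)
      rw [e.injective h2, hw]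

/-- `C(z)` is a double cover of `X` -/
theorem Kill.of_cover {S : Type*} [Group S] {z : S} (hz : orderOf z = 2) {X : Type*} [Group X] [Finite X]
    (hcard : Nat.card ↥(center ↥(centralizer ({z} : Set S))) = 2)
    (e : ↥(centralizer ({z} : Set S)) ⧸ center ↥(centralizer ({z} : Set S)) ≃* X)
    {q : ℕ} (hq : q.Prime) (hq2 : q ≠ 2) (hqX : q ∣ Nat.card X)
    (hC : ∀ a b : X, orderOf a = q → orderOf b = 2 → a * b ≠ b * a)
    (hN : ∀ N : Subgroup X, N.Normal → N ≠ ⊥ → ¬ Group.IsNilpotent ↥N) : Kill S := by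
  classical
  refine Kill.of_hom hz (e.toMonoidHom.comp (QuotientGroup.mk' _)) ?_ ?_ hq hq2 hqX hC hN
  · exact e.surjective.comp (QuotientGroup.mk'_surjective _)
  · intro x hx
    have hx1 : e (QuotientGroup.mk' (center ↥(centralizer ({z} : Set S))) x) = 1 := hx
    rw [MulEquiv.map_eq_one_iff] at hx1
    have hx2 : x ∈ center ↥(centralizer ({z} : Set S)) := (QuotientGroup.eq_one_iff x).1 hx1
    have hz0 : z ∈ centralizer ({z} : Set S) := mem_centralizer_singleton_iff.2 rfl
    have hzc : (⟨z, hz0⟩ : ↥(centralizer ({z} : Set S))) ∈ center ↥(centralizer ({z} : Set S)) := by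
      rw [mem_center_iff]
      intro g
      exact Subtype.ext (mem_centralizer_singleton_iff.1 g.2)
    have hz1 : (⟨z, hz0⟩ : ↥(centralizer ({z} : Set S))) ≠ 1 := by
      intro h1
      have h3 : z = 1 := congrArg Subtype.val h1
      rw [h3, orderOf_one] at hz
      exact absurd hz (by norm_num)
    by_contra h
    push Not at h
    have hfin : Finite ↥(center ↥(centralizer ({z} : Set S))) := Nat.finite_of_card_ne_zero (by rw [hcard]; norm_num)
    have h3 : ({1, ⟨_, hzc⟩, ⟨x, hx2⟩} : Finset ↥(center ↥(centralizer ({z} : Set S)))).card ≤ 2 := by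
      have := Fintype.ofFinite ↥(center ↥(centralizer ({z} : Set S)))
      rw [← hcard, Nat.card_eq_fintype_card]
      exact Finset.card_le_univ _
    rw [Finset.card_eq_three.2 ⟨_, _, _, ?_, ?_, ?_, rfl⟩] at h3
    · omega
    · intro h4
      exact hz1 (congrArg Subtype.val h4).symm
    · intro h4
      exact h.1 (congrArg Subtype.val (congrArg Subtype.val h4)).symm
    · intro h4
      exact h.2 (congrArg Subtype.val (congrArg Subtype.val h4)).symm

/-- elements of order `p` and `2` of the alternating group of degree `n ≤ p + 1` do not commute -/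
theorem alt_not_comm_two {n p : ℕ} (hp : p.Prime) (hp2 : 3 ≤ p) (hn : n ≤ p + 1) (a b : ↥(alternatingGroup (Fin n)))
    (ha : orderOf a = p) (hb : orderOf b = 2) : a * b ≠ b * a := by
  intro hab
  have h1 : ((b : Perm (Fin n))) = 1 := by
    refine eq_one_of_comm_cycle (a := (a : Perm (Fin n))) (m := 2) hp (by rw [orderOf_coe]; exact ha)
      (by simpa only [_root_.Fintype.card_fin] using hn) hp2 ?_ ?_ (congrArg Subtype.val hab)
    · have h2 : b ^ 2 = 1 := by rw [← hb, pow_orderOf_eq_one]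
      exact congrArg Subtype.val h2
    · exact (Nat.coprime_primes Nat.prime_two hp).2 (by omega)
  have h2 : b = 1 := Subtype.ext h1
  rw [h2, orderOf_one] at hb
  exact absurd hb (by norm_num)

/-- noncommuting elements of coprime orders -/
theorem not_nil_of_coprime_pow {G : Type*} [Group G] {X : Subgroup G} {a b : G} (ha : a ∈ X) (hb : b ∈ X)
    {m n : ℕ} (hmn : m.Coprime n) (ham : a ^ m = 1) (hbn : b ^ n = 1) (hab : a * b ≠ b * a) :
    ¬ Group.IsNilpotent ↥X := by
  intro h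
  apply hab
  have h1 : Commute (⟨a, ha⟩ : ↥X) ⟨b, hb⟩ :=
    Lib.NilpotentCoprime.commute_of_pow_eq_one hmn (Subtype.ext (by simpa only [_root_.SubmonoidClass.mk_pow, _root_.OneMemClass.coe_one] using ham)) (Subtype.ext (by simpa only [_root_.SubmonoidClass.mk_pow, _root_.OneMemClass.coe_one] using hbn))
  exact congrArg Subtype.val h1.eq

/-- a prime dividing the order once, two noncommuting elements of coprime orders in the centralizer -/
theorem Kill.of_noncomm {S : Type*} [Group S] [Finite S] {r : ℕ} (hr : r.Prime) (h2 : ¬ r ^ 2 ∣ Nat.card S) {z : S}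
    (hz : orderOf z = r) {a b : S} (haz : a * z = z * a) (hbz : b * z = z * b) {m n : ℕ} (hmn : m.Coprime n)
    (ham : a ^ m = 1) (hbn : b ^ n = 1) (hab : a * b ≠ b * a) : Kill S :=
  Kill.of_nonnil hr h2 hz (not_nil_of_coprime_pow (mem_centralizer_singleton_iff.2 haz)
    (mem_centralizer_singleton_iff.2 hbz) hmn ham hbn hab)

/-- `C(z) ≅ C_r × X` -/
theorem Kill.of_prod' {S : Type*} [Group S] [Finite S] {r : ℕ} (hr : r.Prime) {z : S} (hz : orderOf z = r)
    {X : Type*} [Group X] (e : ↥(centralizer ({z} : Set S)) ≃* Multiplicative (ZMod r) × X)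
    {σ : X} (hσ : (orderOf σ).Coprime r) (hC : ∀ y : X, y ^ r = 1 → y * σ = σ * y → y = 1)
    (hN : ∀ N : Subgroup X, N.Normal → N ≠ ⊥ → ¬ Group.IsNilpotent ↥N) (hσ1 : σ ≠ 1) : Kill S := by
  have hfr : Fact r.Prime := ⟨hr⟩
  have hzX : center X = ⊥ := by
    by_contra h
    exact hN _ inferInstance h ((Group.isNilpotent_iff _).2 ⟨1, by
      rw [Subgroup.upperCentralSeries_one, eq_top_iff]
      intro x _
      rw [mem_center_iff]
      intro g
      exact Subtype.ext (mem_center_iff.1 x.2 _)⟩)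
  have hz0 : z ∈ centralizer ({z} : Set S) := mem_centralizer_singleton_iff.2 rfl
  obtain ⟨w, hw⟩ : ∃ w : ↥(centralizer ({z} : Set S)), w = ⟨z, hz0⟩ := ⟨_, rfl⟩
  have hwc : ∀ g, g * w = w * g := by
    intro g
    rw [hw]
    exact Subtype.ext (mem_centralizer_singleton_iff.1 g.2)
  have hw2 : (e w).2 = 1 := by
    have h1 : (e w).2 ∈ center X := by
      rw [mem_center_iff]
      intro g
      have h2 := congrArg e (hwc (e.symm (1, g)))
      rw [map_mul, map_mul, MulEquiv.apply_symm_apply] at h2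
      simpa only [_root_.Prod.snd_mul] using congrArg Prod.snd h2
    rwa [hzX, mem_bot] at h1
  have hw1 : (e w).1 ≠ 1 := by
    intro h1
    have h2 : e w = 1 := Prod.ext h1 hw2
    rw [MulEquiv.map_eq_one_iff] at h2
    rw [hw] at h2
    have h3 : z = 1 := congrArg Subtype.val h2
    rw [h3, orderOf_one] at hz
    exact hr.one_lt.ne hz
  refine Kill.of_quot hr hz ((MonoidHom.snd (Multiplicative (ZMod r)) X).comp e.toMonoidHom) ?_ (σ := σ) ?_ hσ hC ?_
  · intro x hx
    have hx1 : (e x).2 = 1 := hx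
    have h3 : (e x).1 ∈ zpowers (e w).1 := by
      have h4 : zpowers (e w).1 = ⊤ := by
        have h5 : Nat.card (Multiplicative (ZMod r)) = r := by
          rw [Nat.card_congr Multiplicative.toAdd, Nat.card_zmod]
        rw [← card_eq_iff_eq_top, h5]
        have h6 : Nat.card ↥(zpowers (e w).1) ∣ r := (card_subgroup_dvd_card _).trans (dvd_of_eq h5)
        rcases (Nat.dvd_prime hr).1 h6 with h7 | h7
        · exfalso
          apply hw1
          rw [card_eq_one, zpowers_eq_bot] at h7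
          exact h7
        · exact h7
      rw [h4]
      exact mem_top _
    obtain ⟨i, hi⟩ := mem_zpowers_iff.1 h3
    refine mem_zpowers_iff.2 ⟨i, ?_⟩
    have h5 : w ^ i = x := by
      apply e.injective
      rw [map_zpow]
      exact Prod.ext hi (by rw [Prod.pow_snd, hw2, one_zpow, hx1])
    rw [← h5, hw]
    rfl
  · exact ⟨e.symm (1, σ), by simp only [_root_.MulEquiv.toMonoidHom_eq_coe, _root_.MonoidHom.coe_comp, _root_.MonoidHom.coe_snd, _root_.MonoidHom.coe_coe, _root_.Function.comp_apply, _root_.MulEquiv.apply_symm_apply]⟩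
  · have hr1 : ((MonoidHom.snd (Multiplicative (ZMod r)) X).comp e.toMonoidHom).range = ⊤ := by
      rw [MonoidHom.range_eq_top]
      intro y
      exact ⟨e.symm (1, y), by simp only [_root_.MulEquiv.toMonoidHom_eq_coe, _root_.MonoidHom.coe_comp, _root_.MonoidHom.coe_snd, _root_.MonoidHom.coe_coe, _root_.Function.comp_apply, _root_.MulEquiv.apply_symm_apply]⟩
    rw [hr1]
    refine hN _ ⟨?_⟩ ?_
    · intro a ha g
      have h1 : _root_.Subgroup.closure (cjs (⊤ : Subgroup X) σ) ≤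
          (closure (cjs (⊤ : Subgroup X) σ)).comap (MulAut.conj g).toMonoidHom := by
        rw [closure_le]
        rintro _ ⟨m, -, rfl⟩
        exact _root_.Subgroup.subset_closure ⟨g * m, mem_top _, by simp only [MulAut.conj_apply, mul_assoc, _root_.MulEquiv.toMonoidHom_eq_coe, _root_.MonoidHom.coe_coe, _root_.mul_inv_rev]⟩
      exact h1 ha
    · intro h1
      apply hσ1
      rw [← mem_bot, ← h1]
      exact _root_.Subgroup.subset_closure (mem_cjs_self _ σ)

theorem dvd_card_alt {n p : ℕ} (hp : p.Prime) (hp2 : 3 ≤ p) (hn : p ≤ n) : p ∣ Nat.card ↥(alternatingGroup (Fin n)) := by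
  have hnt : Nontrivial (Fin n) := Fin.nontrivial_iff_two_le.2 (by omega)
  have h1 : 2 * Nat.card ↥(alternatingGroup (Fin n)) = n.factorial := by
    rw [two_mul_nat_card_alternatingGroup, Nat.card_perm, Nat.card_fin]
  have h2 : p ∣ 2 * Nat.card ↥(alternatingGroup (Fin n)) := by
    rw [h1]
    exact hp.dvd_factorial.2 hn
  rcases hp.dvd_mul.1 h2 with h3 | h3
  · have := Nat.le_of_dvd (by norm_num) h3
    omega
  · exact h3

end Cfsg.Agent.H480
end

-- part: H480/RowRee
section
set_option linter.all false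
open scoped Cfsg.Agent.FastGrp

/-!
# Nilpotent minimal covers: the small Ree groups (helper480, S3925, S3926)
-/

set_option autoImplicit false

namespace Cfsg.Agent.H480

open Subgroup Cfsg.Agent.LieRecognition

universe u v

/-- simple nonabelian groups have no nontrivial nilpotent normal subgroups -/
theorem not_nilpotent_of_simple {X : Type*} [Group X] [IsSimpleGroup X] (h : ∃ a b : X, a * b ≠ b * a)
    (N : Subgroup X) (hN : N.Normal) (h1 : N ≠ ⊥) : ¬ Group.IsNilpotent ↥N := by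
  intro hn
  have h2 : N = ⊤ := (hN.eq_bot_or_eq_top).resolve_left h1
  subst h2
  have h3 : Group.IsNilpotent X := Group.nilpotent_of_mulEquiv (_h := hn) Subgroup.topEquiv
  obtain ⟨a, b, hab⟩ := h
  exact hab (IsSimpleGroup.comm_iff_isSolvable.2 inferInstance a b)

theorem kill_ree {K : Type*} [Field K] [Fintype K] {m : ℕ} (hm : 1 ≤ m) (hK : Fintype.card K = 3 ^ (2 * m + 1)) :
    Kill ↥(Cfsg.Lie.twistedG2 K (3 ^ m)) := by
  have hch : CharP K 3 := ReeAbs.charP_three hK
  have hf3 : Fact (Nat.Prime 3) := ⟨Nat.prime_three⟩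
  have D := ReeFinal.data hK
  obtain ⟨e⟩ := D.centralizer_iso hK
  have hz1 := D.inv_ne_one hK
  have hz2 := D.inv_sq
  have hz : orderOf (ReeData.h hK (-1)) = 2 := orderOf_eq_prime (by rw [pow_two]; exact hz2) hz1
  -- the field
  have hmod := ReeAbs.card_mod_four hK
  have h27 : 27 ≤ Fintype.card K := by
    rw [hK]
    calc 27 = 3 ^ 3 := by norm_num
      _ ≤ 3 ^ (2 * m + 1) := Nat.pow_le_pow_right (by norm_num) (by omega)
  obtain ⟨r, hr, hrd⟩ := Nat.exists_prime_and_dvd (n := (Fintype.card K - 1) / 2) (by omega)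
  have hro : r ≠ 2 := by
    rintro rfl
    omega
  have hfr : Fact r.Prime := ⟨hr⟩
  have hgcd : Nat.gcd 2 (Fintype.card K - 1) = 2 := Nat.gcd_eq_left (by omega)
  have hs := TwoFusion.SLTwoFacts.isSimpleGroup_psl (F := K) (by omega)
  obtain ⟨g0, hg0⟩ := H363.PSL2Spec.exists_split (F := K) rfl
  rw [hgcd] at hg0
  have hrX : r ∣ Nat.card (Matrix.ProjectiveSpecialLinearGroup (Fin 2) K) :=
    (hrd.trans (by rw [← hg0])).trans (orderOf_dvd_natCard g0)
  have hC : ∀ a b : Matrix.ProjectiveSpecialLinearGroup (Fin 2) K, orderOf a = r → orderOf b = 2 →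
      a * b ≠ b * a := by
    intro a b ha hb hab
    have h1 : orderOf (a * b) = r * 2 := by
      rw [(show Commute a b from hab).orderOf_mul_eq_mul_orderOf_of_coprime, ha, hb]
      rw [ha, hb]
      exact (Nat.coprime_primes hr Nat.prime_two).2 hro
    rcases H363.PSL2Spec.orderOf_cases (F := K) rfl 3 (a * b) with h2 | h2 | h2
    · rw [h1, hgcd] at h2
      have h3 : r ∣ (Fintype.card K + 1) := by
        have h4 : r ∣ (Fintype.card K + 1) / 2 := (Dvd.intro _ rfl).trans h2
        exact h4.trans (Nat.div_dvd_of_dvd (by omega))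
      have h4 : r ∣ Fintype.card K - 1 := hrd.trans (Nat.div_dvd_of_dvd (by omega))
      have h5 : r ∣ (Fintype.card K + 1) - (Fintype.card K - 1) := Nat.dvd_sub h3 h4
      have h6 : (Fintype.card K + 1) - (Fintype.card K - 1) = 2 := by omega
      rw [h6] at h5
      exact hro ((Nat.prime_dvd_prime_iff_eq hr Nat.prime_two).1 h5)
    · rw [h1, hgcd] at h2
      have h3 : 2 ∣ (Fintype.card K - 1) / 2 := (Dvd.intro_left _ rfl).trans h2
      omega
    · rw [h1] at h2
      have h3 : 2 ∣ 3 := (Dvd.intro_left _ rfl).trans h2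
      omega
  have hab : ∃ a b : Matrix.ProjectiveSpecialLinearGroup (Fin 2) K, a * b ≠ b * a := by
    obtain ⟨a, ha⟩ := exists_prime_orderOf_dvd_card' (G := Matrix.ProjectiveSpecialLinearGroup (Fin 2) K) r hrX
    by_contra hno
    push Not at hno
    -- an involution
    have h2 : 2 ∣ Nat.card (Matrix.ProjectiveSpecialLinearGroup (Fin 2) K) := by
      obtain ⟨g1, hg1⟩ := H363.PSL2Spec.exists_nonsplit (F := K) rfl
      rw [hgcd] at hg1
      refine Dvd.dvd.trans ?_ (orderOf_dvd_natCard g1)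
      rw [hg1]
      omega
    have hf2 : Fact (Nat.Prime 2) := ⟨Nat.prime_two⟩
    obtain ⟨b, hb⟩ := exists_prime_orderOf_dvd_card' (G := Matrix.ProjectiveSpecialLinearGroup (Fin 2) K) 2 h2
    exact hC a b ha hb (hno a b)
  have hcen : center (Matrix.ProjectiveSpecialLinearGroup (Fin 2) K) = ⊥ := by
    rcases (inferInstance : (center (Matrix.ProjectiveSpecialLinearGroup (Fin 2) K)).Normal).eq_bot_or_eq_top with
      h | h
    · exact h
    · exfalso
      obtain ⟨a, b, hab'⟩ := hab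
      apply hab'
      have h6 : b ∈ center (Matrix.ProjectiveSpecialLinearGroup (Fin 2) K) := by rw [h]; exact mem_top b
      exact mem_center_iff.1 h6 a
  let φ : ↥(centralizer ({ReeData.h hK (-1)} : Set ↥(Cfsg.Lie.twistedG2 K (3 ^ m)))) →*
      Matrix.ProjectiveSpecialLinearGroup (Fin 2) K := (MonoidHom.snd _ _).comp e.toMonoidHom
  refine Kill.of_hom hz φ ?_ ?_ hr hro hrX hC (fun N hN h1 => not_nilpotent_of_simple hab N hN h1)
  · intro y
    exact ⟨e.symm (1, y), by simp [φ]⟩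
  · intro x hx
    set zc : ↥(centralizer ({ReeData.h hK (-1)} : Set ↥(Cfsg.Lie.twistedG2 K (3 ^ m)))) :=
      ⟨ReeData.h hK (-1), D.inv_mem_centralizer⟩ with hzc
    have h1 : (e zc).2 = 1 := by
      have h2 : (e zc).2 ∈ center (Matrix.ProjectiveSpecialLinearGroup (Fin 2) K) := by
        rw [mem_center_iff]
        intro g
        have h3 : e.symm (1, g) * zc = zc * e.symm (1, g) := by
          apply Subtype.ext
          exact mem_centralizer_singleton_iff.1 (e.symm (1, g)).2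
        have h4 := congrArg (fun t => (e t).2) h3
        simpa using h4
      rw [hcen, mem_bot] at h2
      exact h2
    have hx2 : (e x).2 = 1 := hx
    have hzc1 : zc ≠ 1 := fun h => hz1 (congrArg Subtype.val h)
    have h5 : (e zc).1 ≠ 1 := by
      intro h
      apply hzc1
      apply e.injective
      rw [map_one]
      exact Prod.ext h h1
    by_cases h6 : (e x).1 = 1
    · left
      have h7 : x = 1 := by
        apply e.injective
        rw [map_one]
        exact Prod.ext h6 hx2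
      rw [h7]
      rfl
    · right
      have h7 : (e x).1 = (e zc).1 := by
        have h8 : ∀ i j : Multiplicative (ZMod 2), i ≠ 1 → j ≠ 1 → i = j := by decide
        exact h8 _ _ h6 h5
      have h8 : x = zc := e.injective (Prod.ext h7 (hx2.trans h1.symm))
      rw [h8]

theorem row_ree {S : Type v} [Group S] (h : Cfsg.Lie.IsoRee S) : Row.{u} S := by
  obtain ⟨K, i1, i2, m, hm, hK, ⟨e⟩⟩ := h
  exact Row.of_kill ((kill_ree hm hK).congr e.symm)

end Cfsg.Agent.H480
end
end

-- part: H480/SporHe_mg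
section
set_option linter.all false
open scoped Cfsg.Agent.FastGrp

-- part: H480/SporIso
section
/-!
# Nilpotent minimal covers: `M11` (helper480, S3925, S3926)
-/

set_option autoImplicit false

namespace Cfsg.Agent.H480

open Subgroup
open scoped Pointwise

/-- the centralizer of `z` is isomorphic to `H` -/
theorem Kill.of_cent_iso {S H : Type*} [Group S] [Group H] {r : ℕ} (hr : r.Prime) {z : S} (hz : orderOf z = r)
    (e : ↥(centralizer ({z} : Set S)) ≃* H)
    (hH : ∀ w : H, orderOf w = r → (∀ g, g * w = w * g) → ∃ d : H, (orderOf d).Coprime r ∧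
      (∀ x : H, orderOf x = r → x * d = d * x → x ∈ zpowers w) ∧
      ∃ q : H, (orderOf (q * d * q⁻¹ * d⁻¹)).Coprime (orderOf d) ∧
        (q * d * q⁻¹ * d⁻¹) * d ≠ d * (q * d * q⁻¹ * d⁻¹)) : Kill S := by
  have hz0 : z ∈ centralizer ({z} : Set S) := mem_centralizer_singleton_iff.2 rfl
  obtain ⟨w, hw⟩ : ∃ w : ↥(centralizer ({z} : Set S)), w = ⟨z, hz0⟩ := ⟨_, rfl⟩
  have hwo : orderOf (e w) = r := by
    rw [MulEquiv.orderOf_eq, ← orderOf_coe, hw]
    exact hz
  obtain ⟨d, hd, hx, q, hq1, hq2⟩ := hH (e w) hwo (fun g => by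
    apply e.symm.injective
    rw [map_mul, map_mul, MulEquiv.symm_apply_apply, hw]
    exact Subtype.ext (mem_centralizer_singleton_iff.1 (e.symm g).2))
  refine ⟨r, z, (e.symm d : ↥(centralizer ({z} : Set S))), hr, hz, ?_, ?_, ?_, ?_⟩
  · rw [orderOf_coe, MulEquiv.orderOf_eq]
    exact hd
  · exact (mem_centralizer_singleton_iff.1 (e.symm d).2).symm
  · intro x hxr hxz hxd
    have hxC : x ∈ centralizer ({z} : Set S) := mem_centralizer_singleton_iff.2 hxz
    have h1 := hx (e ⟨x, hxC⟩) (by rw [MulEquiv.orderOf_eq, ← orderOf_coe]; exact hxr) (by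
      apply e.symm.injective
      rw [map_mul, map_mul, MulEquiv.symm_apply_apply]
      exact Subtype.ext hxd)
    obtain ⟨i, hi⟩ := mem_zpowers_iff.1 h1
    refine mem_zpowers_iff.2 ⟨i, ?_⟩
    rw [← map_zpow] at hi
    have h2 := congrArg Subtype.val (e.injective hi)
    rw [hw] at h2
    exact h2
  · refine not_nilpotent_of_commutator (q := (e.symm q : ↥(centralizer ({z} : Set S)))) (e.symm q).2 ?_ ?_
    · have h1 : ((e.symm q : ↥(centralizer ({z} : Set S))) : S) * (e.symm d : ↥(centralizer ({z} : Set S))) *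
          ((e.symm q : ↥(centralizer ({z} : Set S))) : S)⁻¹ * ((e.symm d : ↥(centralizer ({z} : Set S))) : S)⁻¹ =
          ((e.symm (q * d * q⁻¹ * d⁻¹) : ↥(centralizer ({z} : Set S))) : S) := by
        rw [map_mul, map_mul, map_mul, map_inv, map_inv]
        rfl
      rw [h1, orderOf_coe, orderOf_coe, MulEquiv.orderOf_eq, MulEquiv.orderOf_eq]
      exact hq1
    · intro h
      apply hq2
      apply e.symm.injective
      simp only [map_mul, map_inv]
      exact Subtype.ext h

/-- the two descriptions of `M11` -/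
def equivM11 : ↥(MulAction.stabilizer Cfsg.M24 Cfsg.Spor.squareDodecad ⊓
    MulAction.stabilizer Cfsg.M24 (some 0 : Cfsg.GolayPt)) ≃* ↥Cfsg.Spor.M11 where
  toFun g := ⟨((g : Cfsg.M24) : Equiv.Perm Cfsg.GolayPt), ⟨(g : Cfsg.M24).2, g.2.1⟩, g.2.2⟩
  invFun g := ⟨⟨(g : Equiv.Perm Cfsg.GolayPt), g.2.1.1⟩, g.2.1.2, g.2.2⟩
  left_inv _ := rfl
  right_inv _ := rfl
  map_mul' _ _ := rfl

/-- matrices of order 3 and 4 of `GL₂(3)` -/
def glD : GL (Fin 2) (ZMod 3) := ⟨!![1, 1; 0, 1], !![1, 2; 0, 1], by decide, by decide⟩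
def glQ : GL (Fin 2) (ZMod 3) := ⟨!![0, 1; 2, 0], !![0, 2; 1, 0], by decide, by decide⟩

theorem gl_key : ∀ M : Matrix (Fin 2) (Fin 2) (ZMod 3), M * !![1, 1; 0, 1] = !![1, 1; 0, 1] * M → M * M = 1 →
    M = 1 ∨ M = !![2, 0; 0, 2] := by
  (set_option synthInstance.maxSize 20000 in open scoped Cfsg.Agent.Lib.MatDec in decide +kernel)

theorem gl_cases {w : GL (Fin 2) (ZMod 3)} (hw : orderOf w = 2) (hd : w * glD = glD * w) :
    (w : Matrix (Fin 2) (Fin 2) (ZMod 3)) = !![2, 0; 0, 2] := by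
  have h1 : w * w = 1 := by
    have h0 := pow_orderOf_eq_one w
    rw [hw, pow_two] at h0
    exact h0
  rcases gl_key w (congrArg Units.val hd) (congrArg Units.val h1) with h | h
  · exfalso
    have h2 : w = 1 := Units.ext h
    rw [h2, orderOf_one] at hw
    exact absurd hw (by norm_num)
  · exact h

theorem kill_m11 : Kill ↥Cfsg.Spor.M11 := by
  have hf2 : Fact (Nat.Prime 2) := ⟨Nat.prime_two⟩
  have hcard := Cfsg.Agent.S0387.result _ CoThreeStd.M12.dodecad_mem (some 0) (by decide +kernel)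
  have hfin : Finite ↥(MulAction.stabilizer Cfsg.M24 Cfsg.Spor.squareDodecad ⊓
    MulAction.stabilizer Cfsg.M24 (some 0 : Cfsg.GolayPt)) := inferInstance
  obtain ⟨x, hx⟩ := exists_prime_orderOf_dvd_card' (G := ↥(MulAction.stabilizer Cfsg.M24 Cfsg.Spor.squareDodecad ⊓
    MulAction.stabilizer Cfsg.M24 (some 0 : Cfsg.GolayPt))) 2 (by rw [hcard]; norm_num)
  obtain ⟨e⟩ := Cfsg.Agent.S1603.result _ CoThreeStd.M12.dodecad_mem (some 0) (by decide +kernel) x hx
  refine Kill.congr equivM11 (Kill.of_cent_iso Nat.prime_two hx e ?_)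
  intro w hw hwc
  have hD : orderOf glD = 3 := by
    have hf3 : Fact (Nat.Prime 3) := ⟨by norm_num⟩
    exact orderOf_eq_prime (Units.ext (by decide)) (fun h => absurd (congrArg Units.val h) (by decide))
  refine ⟨glD, by rw [hD]; norm_num, ?_, glQ, ?_, ?_⟩
  · intro y hy hyd
    have h1 : y = w := Units.ext ((gl_cases hy hyd).trans (gl_cases hw (hwc glD).symm).symm)
    rw [h1]
    exact mem_zpowers w
  · have h4 : orderOf (glQ * glD * glQ⁻¹ * glD⁻¹) = 2 ^ (1 + 1) := by
      refine orderOf_eq_prime_pow (p := 2) (n := 1) ?_ ?_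
      · intro h
        exact absurd (congrArg Units.val h) (by decide)
      · exact Units.ext (by decide)
    rw [h4, hD]
    norm_num
  · intro h
    exact absurd (congrArg Units.val h) (by decide)

end Cfsg.Agent.H480
end

-- part: H480/SporHe
section
/-!
# Nilpotent minimal covers: `He` (helper480, S3925, S3926)
-/

set_option autoImplicit false

namespace Cfsg.Agent.H480.HeRow

open Subgroup

abbrev M5 : Type := Matrix (Fin 5) (Fin 5) (ZMod 2)
abbrev SL5 : Type := Matrix.SpecialLinearGroup (Fin 5) (ZMod 2)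

def mD : M5 := !![1,0,0,0,0; 0,1,0,0,0; 0,0,0,0,1; 0,0,1,0,1; 0,0,0,1,0]
def mS : M5 := !![1,1,0,0,0; 0,1,0,0,0; 0,0,1,0,0; 0,0,0,1,0; 0,0,0,0,1]
def mQ : M5 := !![1,0,1,0,0; 0,1,0,0,0; 0,0,1,0,0; 0,0,0,1,0; 0,0,0,0,1]

theorem mS_eq : Matrix.transvection (0 : Fin 5) 1 (1 : ZMod 2) = mS := by decide +kernel

theorem key {M : M5} (h1 : M * mD = mD * M) (h2 : M * mS = mS * M) (h3 : M * M = 1) : M = 1 ∨ M = mS := by
  have e : ∀ i j, (M * mD) i j = (mD * M) i j := fun i j => by rw [h1]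
  have f : ∀ i j, (M * mS) i j = (mS * M) i j := fun i j => by rw [h2]
  have g : ∀ i j, (M * M) i j = (1 : M5) i j := fun i j => by rw [h3]
  simp only [Matrix.mul_apply, Fin.sum_univ_five] at e f g
  have b0 := And.intro (e 0 2) (And.intro (e 0 3) (e 0 4))
  have b1 := And.intro (e 1 2) (And.intro (e 1 3) (e 1 4))
  have c0 := And.intro (e 2 0) (And.intro (e 3 0) (e 4 0))
  have c1 := And.intro (e 2 1) (And.intro (e 3 1) (e 4 1))
  have a0 := And.intro (f 0 0) (And.intro (f 0 1) (And.intro (f 1 0) (f 1 1)))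
  have e2 := And.intro (e 2 2) (And.intro (e 2 3) (e 2 4))
  have e3 := And.intro (e 3 2) (And.intro (e 3 3) (e 3 4))
  have e4 := And.intro (e 4 2) (And.intro (e 4 3) (e 4 4))
  simp [mD] at b0 b1 c0 c1 e2 e3 e4
  simp only [mS, _root_.Fin.isValue, _root_.Matrix.of_apply, _root_.Matrix.cons_val', _root_.Matrix.cons_val_zero, _root_.Matrix.cons_val_fin_one, _root_.mul_one, _root_.Matrix.cons_val_one, _root_.MulZeroClass.mul_zero, _root_.add_zero, _root_.Matrix.cons_val, _root_.one_mul, _root_.MulZeroClass.zero_mul, _root_.left_eq_add, _root_.zero_add, _root_.add_eq_right, _root_.true_and] at a0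
  have rk : ∀ a b c : ZMod 2, b = a → c = b → a + b = c → a = 0 ∧ b = 0 ∧ c = 0 := by decide
  have ck : ∀ a b c : ZMod 2, a = c → b = a + c → c = b → a = 0 ∧ b = 0 ∧ c = 0 := by decide
  obtain ⟨p02, p03, p04⟩ := rk _ _ _ b0.1 b0.2.1 b0.2.2
  obtain ⟨p12, p13, p14⟩ := rk _ _ _ b1.1 b1.2.1 b1.2.2
  obtain ⟨p20, p30, p40⟩ := ck _ _ _ c0.1 c0.2.1 c0.2.2
  obtain ⟨p21, p31, p41⟩ := ck _ _ _ c1.1 c1.2.1 c1.2.2
  have p10 := a0.1
  have g00 := g 0 0
  have g22 := g 2 2
  have g32 := g 3 2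
  have g42 := g 4 2
  have g11 := g 1 1
  obtain ⟨q23, q24, q44⟩ := e2
  obtain ⟨q33, q34, -⟩ := e3
  obtain ⟨q43, -, -⟩ := e4
  rw [p10, p20, p30, p40, mul_zero, mul_zero, mul_zero, mul_zero] at g00
  rw [p10, p21, p31, p41, mul_zero, mul_zero, mul_zero, zero_mul] at g11
  rw [p02, p12, mul_zero, mul_zero] at g22 g32 g42
  rw [q24, q43, q23] at g22
  rw [q34, q33, q43, q23] at g32
  rw [q43, ← q44, q23] at g42
  have k22 : (1 : M5) 2 2 = 1 := by decide
  have k32 : (1 : M5) 3 2 = 0 := by decide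
  have k42 : (1 : M5) 4 2 = 0 := by decide
  have k00 : (1 : M5) 0 0 = 1 := by decide
  have k11 : (1 : M5) 1 1 = 1 := by decide
  rw [k22] at g22
  rw [k32] at g32
  rw [k42] at g42
  rw [k00] at g00
  rw [k11] at g11
  have ek : ∀ x y w : ZMod 2, 0 + 0 + x * x + y * w + w * y = 1 → 0 + 0 + w * x + (x + y) * w + (y + w) * y = 0 →
      0 + 0 + y * x + w * w + (x + y) * y = 0 → x = 1 ∧ y = 0 ∧ w = 0 := by decide
  obtain ⟨r22, r42, r32⟩ := ek _ _ _ g22 g32 g42
  have ak : ∀ x : ZMod 2, x * x + 0 + 0 + 0 + 0 = 1 → x = 1 := by decide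
  have r00 := ak _ g00
  have ak' : ∀ x : ZMod 2, 0 + x * x + 0 + 0 + 0 = 1 → x = 1 := by decide
  have r11 := ak' _ g11
  clear e f g b0 b1 c0 c1 rk ck ek ak ak' h1 h2 h3 g00 g22 g32 g42 g11
  have s23 : M 2 3 = 0 := q23.trans r42
  have s43 : M 4 3 = 0 := q43.trans r32
  have s24 : M 2 4 = 0 := q24.trans s43
  have s44 : M 4 4 = 1 := by rw [← q44, r22, s23]; decide
  have s33 : M 3 3 = 1 := by rw [q33, r22, r42]; decide
  have s34 : M 3 4 = 0 := by rw [q34, s23, s43]; decide
  clear q23 q24 q44 q33 q34 q43 a0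
  have hM : ∀ c : ZMod 2, M 0 1 = c → M = !![1,c,0,0,0; 0,1,0,0,0; 0,0,1,0,0; 0,0,0,1,0; 0,0,0,0,1] := by
    intro c hc
    ext i j
    fin_cases i <;> fin_cases j <;>
      first
        | exact r00 | exact hc | exact p02 | exact p03 | exact p04
        | exact p10 | exact r11 | exact p12 | exact p13 | exact p14
        | exact p20 | exact p21 | exact r22 | exact s23 | exact s24
        | exact p30 | exact p31 | exact r32 | exact s33 | exact s34
        | exact p40 | exact p41 | exact r42 | exact s43 | exact s44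
  have hc : ∀ c : ZMod 2, c = 0 ∨ c = 1 := by decide
  rcases hc (M 0 1) with h | h
  · left
    rw [hM 0 h]
    decide +kernel
  · right
    exact hM 1 h

theorem det_D : mD.det = 1 := by
  rw [Matrix.det_apply]
  decide +kernel

theorem det_Q : mQ.det = 1 := by
  rw [Matrix.det_apply]
  decide +kernel

theorem det_S : mS.det = 1 := by
  rw [Matrix.det_apply]
  decide +kernel

def sD : SL5 := ⟨mD, det_D⟩
def sQ : SL5 := ⟨mQ, det_Q⟩
def sS : SL5 := ⟨mS, det_S⟩

theorem QS : sQ * sS = sS * sQ := Subtype.ext (by decide +kernel)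
theorem DS : sD * sS = sS * sD := Subtype.ext (by decide +kernel)
theorem QQ : sQ * sQ = 1 := Subtype.ext (by decide +kernel)
theorem D7 : sD * sD * sD * sD * sD * sD * sD = 1 := Subtype.ext (by (set_option synthInstance.maxSize 20000 in open scoped Cfsg.Agent.Lib.MatDec in decide +kernel))
theorem D_ne : sD ≠ 1 := fun h => absurd (congrArg Subtype.val h) (by decide)

def cD : ↥(centralizer ({sS} : Set SL5)) := ⟨sD, mem_centralizer_singleton_iff.2 DS⟩
def cQ : ↥(centralizer ({sS} : Set SL5)) := ⟨sQ, mem_centralizer_singleton_iff.2 QS⟩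

theorem cQ_inv : cQ⁻¹ = cQ := inv_eq_of_mul_eq_one_left (Subtype.ext QQ)

theorem cD_inv : cD⁻¹ = cD * cD * cD * cD * cD * cD :=
  inv_eq_of_mul_eq_one_left (Subtype.ext D7)

theorem cD_order : orderOf cD = 7 := by
  have hf7 : Fact (Nat.Prime 7) := ⟨by norm_num⟩
  refine orderOf_eq_prime ?_ (fun h => D_ne (congrArg Subtype.val h))
  have h1 : cD * cD * cD * cD * cD * cD * cD = 1 := Subtype.ext D7
  rw [← h1]
  simp only [pow_succ, pow_zero, one_mul]

theorem kill_he : Kill Cfsg.Spor.He := by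
  obtain ⟨z, hz, ⟨e⟩⟩ := Cfsg.Agent.S2134.result sS (mS_eq.symm)
  refine Kill.of_cent_iso Nat.prime_two hz e ?_
  intro w hw hwc
  have hcase : ∀ x : ↥(centralizer ({sS} : Set SL5)), orderOf x = 2 → x * cD = cD * x → x = ⟨sS, mem_centralizer_singleton_iff.2 rfl⟩ := by
    intro x hx hxd
    have hxx : x * x = 1 := by
      have h0 := pow_orderOf_eq_one x
      rw [hx, pow_two] at h0
      exact h0
    have k2 : (x : SL5) * sS = sS * x := mem_centralizer_singleton_iff.1 x.2
    have k1 : (x : SL5) * sD = sD * x := congrArg Subtype.val hxd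
    have k3 : (x : SL5) * x = 1 := congrArg Subtype.val hxx
    have h1 := key (M := ((x : SL5) : M5)) (congrArg Subtype.val k1) (congrArg Subtype.val k2)
      (congrArg Subtype.val k3)
    rcases h1 with h | h
    · exfalso
      have h2 : x = 1 := Subtype.ext (Subtype.ext h)
      rw [h2, orderOf_one] at hx
      exact absurd hx (by norm_num)
    · exact Subtype.ext (Subtype.ext h)
  refine ⟨cD, by rw [cD_order]; norm_num, ?_, cQ, ?_, ?_⟩
  · intro y hy hyd
    rw [hcase y hy hyd, ← hcase w hw (hwc cD).symm]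
    exact mem_zpowers w
  · have hf2 : Fact (Nat.Prime 2) := ⟨Nat.prime_two⟩
    have h2 : orderOf (cQ * cD * cQ⁻¹ * cD⁻¹) = 2 := by
      rw [cQ_inv, cD_inv]
      refine orderOf_eq_prime ?_ ?_
      · rw [pow_two]
        exact Subtype.ext (Subtype.ext (by (set_option synthInstance.maxSize 20000 in open scoped Cfsg.Agent.Lib.MatDec in decide +kernel)))
      · intro h
        have h' := congrArg Subtype.val (congrArg Subtype.val h)
        revert h'
        (delta Cfsg.Agent.H480.HeRow.cQ Cfsg.Agent.H480.HeRow.cD; set_option synthInstance.maxSize 20000 in open scoped Cfsg.Agent.Lib.MatDec in decide +kernel)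
    rw [h2, cD_order]
    norm_num
  · rw [cQ_inv, cD_inv]
    intro h
    have h' := congrArg Subtype.val (congrArg Subtype.val h)
    revert h'
    (set_option synthInstance.maxSize 20000 in open scoped Cfsg.Agent.Lib.MatDec in decide +kernel)

end Cfsg.Agent.H480.HeRow
end

-- part: H480/KillLarge
section
/-!
# Nilpotent minimal covers: involution centralizers with an extraspecial normal subgroup (helper480, S3925, S3926)
-/

set_option autoImplicit false

namespace Cfsg.Agent.H480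

open Subgroup Cfsg.Agent.Co2Type.Quad

variable {S : Type*} [Group S]

theorem card_cent_large [Finite S] {Q : Subgroup S} {z : S} (hL : Large Q z) {x : S} (hx : x ∈ Q) (hx1 : x ≠ 1)
    (hxz : x ≠ z) : Nat.card Q = Nat.card ↥(Q ⊓ centralizer ({x} : Set S)) * 2 := by
  obtain ⟨a, ha, hxa⟩ : ∃ a ∈ Q, x * a ≠ a * x := by
    by_contra hcon
    push Not at hcon
    rcases hL.cent x hx hcon with h | h
    · exact hx1 h
    · exact hxz h
  have hxa' : x * a = a * x * z := (hL.comm x hx a ha).resolve_left hxa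
  have hidx : ((Q ⊓ centralizer ({x} : Set S)).subgroupOf Q).index = 2 := by
    rw [Subgroup.index_eq_two_iff]
    refine ⟨⟨a, ha⟩, ?_⟩
    rintro ⟨b, hb⟩
    have e1 : ((⟨b, hb⟩ : ↥Q) * ⟨a, ha⟩ ∈ (Q ⊓ centralizer ({x} : Set S)).subgroupOf Q) ↔ (b * a) * x = x * (b * a) := by
      rw [mem_subgroupOf, mem_inf, mem_centralizer_singleton_iff]
      exact ⟨fun h => h.2, fun h => ⟨mul_mem hb ha, h⟩⟩
    have e2 : ((⟨b, hb⟩ : ↥Q) ∈ (Q ⊓ centralizer ({x} : Set S)).subgroupOf Q) ↔ b * x = x * b := by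
      rw [mem_subgroupOf, mem_inf, mem_centralizer_singleton_iff]
      exact ⟨fun h => h.2, fun h => ⟨hb, h⟩⟩
    rw [e1, e2]
    rcases hL.comm x hx b hb with h | h
    · refine Or.inr ⟨h.symm, ?_⟩
      intro h2
      apply hxa
      have h3 : b * (a * x) = b * (x * a) := by
        calc b * (a * x) = (b * a) * x := by group
          _ = x * (b * a) := h2
          _ = (x * b) * a := by group
          _ = b * (x * a) := by rw [h]; group
      exact (mul_left_cancel h3).symm
    · refine Or.inl ⟨?_, ?_⟩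
      · calc (b * a) * x = b * (a * x * z) * z := by
              rw [mul_assoc (b : S) (a * x * z) z, mul_assoc (a * x) z z, hL.z_sq]; group
          _ = b * (x * a) * z := by rw [hxa']
          _ = b * x * (a * z) := by group
          _ = b * x * (z * a) := by rw [hL.comm_z a ha]
          _ = (b * x * z) * a := by group
          _ = x * (b * a) := by rw [← h]; group
      · intro h2
        rw [← h2] at h
        have h3 : z = 1 := by
          have : b * x * z = b * x * 1 := by rw [← h, mul_one]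
          exact mul_left_cancel this
        exact hL.z_ne h3
  have h1 := Subgroup.card_mul_index ((Q ⊓ centralizer ({x} : Set S)).subgroupOf Q)
  rw [hidx, Nat.card_congr (Subgroup.subgroupOfEquivOfLe inf_le_left).toEquiv] at h1
  exact h1.symm

theorem odd_of_large [Finite S] {Q : Subgroup S} {z : S} (hL : Large Q z) {n p : ℕ} (hp : p.Prime) (hp2 : p ≠ 2)
    (hQ : Nat.card Q = 2 ^ n) {d : S} (hd : orderOf d = p) (hdz : d * z = z * d) {i : ℕ}
    (hi : Nat.card ↥(Q ⊓ centralizer ({d} : Set S)) = 2 ^ i) : Odd i := by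
  have hfp : Fact p.Prime := ⟨hp⟩
  set K := Q ⊓ centralizer ({d} : Set S) with hK
  have hcp : ∀ k : ℕ, ¬ p ∣ 2 ^ k := by
    intro k h
    have := hp.dvd_of_dvd_pow h
    exact hp2 ((Nat.prime_dvd_prime_iff_eq hp Nat.prime_two).1 this)
  have hcen : ∀ x ∈ K, (∀ y ∈ K, x * y = y * x) → x = 1 ∨ x = z := by
    intro x hx hc
    by_contra hcon
    rw [not_or] at hcon
    have h1 := card_cent_large hL hx.1 hcon.1 hcon.2
    have hxd : x * d = d * x := mem_centralizer_singleton_iff.1 hx.2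
    have h2 := BpSpor.Cen.card_fix (N := Q) hd (hL.conj_mem d hdz)
    have h3 := BpSpor.Cen.card_fix (N := Q ⊓ centralizer ({x} : Set S)) hd (by
      rintro y ⟨hy1, hy2'⟩
      have hy2 : y * x = x * y := mem_centralizer_singleton_iff.1 hy2'
      refine ⟨hL.conj_mem d hdz y hy1, mem_centralizer_singleton_iff.2 ?_⟩
      calc d * y * d⁻¹ * x = d * y * (d⁻¹ * x * d) * d⁻¹ := by group
        _ = d * y * x * d⁻¹ := by
          have : d⁻¹ * x * d = x := by rw [mul_assoc, hxd]; group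
          rw [this]
        _ = d * (x * y) * d⁻¹ := by rw [← hy2]; group
        _ = (d * x) * y * d⁻¹ := by group
        _ = x * (d * y * d⁻¹) := by rw [← hxd]; group)
    have h4 : (Q ⊓ centralizer ({x} : Set S)) ⊓ centralizer ({d} : Set S) = K := by
      apply le_antisymm
      · rintro y ⟨⟨h5, -⟩, h6⟩
        exact ⟨h5, h6⟩
      · rintro y hy
        exact ⟨⟨hy.1, mem_centralizer_singleton_iff.2 (hc y hy).symm⟩, hy.2⟩
    rw [h4] at h3
    have h5 := h2.trans h3.symm
    set m := Nat.card ↥(Q ⊓ centralizer ({x} : Set S)) with hm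
    rw [h1] at h5
    have h6 : p ∣ m := by
      have h7 := (Nat.modEq_iff_dvd' (by omega : m ≤ m * 2)).1 h5.symm
      have h8 : m * 2 - m = m := by omega
      rwa [h8] at h7
    have h7 : m ∣ 2 ^ n := by
      rw [← hQ, h1]
      exact Dvd.intro _ rfl
    exact hcp n (h6.trans h7)
  have hzK : z ∈ K := ⟨hL.z_mem, mem_centralizer_singleton_iff.2 hdz.symm⟩
  have hLK : Large (⊤ : Subgroup ↥K) ⟨z, hzK⟩ := by
    refine ⟨mem_top _, ?_, ?_, ?_, ?_, ?_, ?_, ?_, ?_⟩
    · intro h
      exact hL.z_ne (congrArg Subtype.val h)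
    · exact Subtype.ext hL.z_sq
    · intro x _
      exact Subtype.ext (hL.comm_z x x.2.1)
    · intro g _ x _
      exact mem_top _
    · intro x _
      exact (hL.sq x x.2.1).imp (fun h => Subtype.ext h) (fun h => Subtype.ext h)
    · intro x _ y _
      exact (hL.comm x x.2.1 y y.2.1).imp (fun h => Subtype.ext h) (fun h => Subtype.ext h)
    · intro x _ h
      exact (hcen x x.2 (fun y hy => congrArg Subtype.val (h ⟨y, hy⟩ (mem_top _)))).imp
        (fun h => Subtype.ext h) (fun h => Subtype.ext h)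
    · intro g _ _
      exact mem_top _
  have hcardK : Nat.card ↥(⊤ : Subgroup ↥K) = 2 ^ i := by
    rw [Nat.card_congr (Subgroup.topEquiv (G := ↥K)).toEquiv, hi]
  by_cases h2 : Nat.card ↥(⊤ : Subgroup ↥K) = 2
  · have h3 : i = 1 := by
      rw [hcardK] at h2
      exact Nat.pow_right_injective le_rfl (by simpa using h2)
    rw [h3]
    exact odd_one
  · have h3 := Cfsg.Agent.H823.isExtraspecial_of hLK h2
    have : Fact (Nat.Prime 2) := ⟨Nat.prime_two⟩
    obtain ⟨m, -, hm⟩ := Cfsg.Agent.S0095.result h3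
    rw [hcardK] at hm
    have h4 := Nat.pow_right_injective le_rfl hm
    exact ⟨m, h4⟩

/-- **An involution centralizer with an extraspecial normal subgroup.** -/
theorem Kill.of_large {L : Type*} [Group L] [Finite S] {Q : Subgroup S} {z : S} (hL : Large Q z)
    (π : ↥(centralizer ({z} : Set S)) →* L) (hker : ∀ c, π c = 1 ↔ (c : S) ∈ Q) {n p : ℕ} (hp : p.Prime)
    (hp2 : p ≠ 2) (hQ : Nat.card Q = 2 ^ n) {σ : L} (hσ : σ ∈ π.range) (hσp : orderOf σ = p)
    (hC : ∀ y : L, y ^ 2 = 1 → y * σ = σ * y → y = 1)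
    (hnum : ∀ i < n, Odd i → 2 ^ n ≡ 2 ^ i [MOD p] → i ≤ 1) : Kill S := by
  have hfp : Fact p.Prime := ⟨hp⟩
  have hz : orderOf z = 2 := by
    have : Fact (Nat.Prime 2) := ⟨Nat.prime_two⟩
    exact orderOf_eq_prime (by rw [pow_two]; exact hL.z_sq) hL.z_ne
  obtain ⟨d0, hd0⟩ := hσ
  have hQC : Q ≤ centralizer ({z} : Set S) := fun x hx => mem_centralizer_singleton_iff.2 (hL.comm_z x hx)
  have hQp : IsPGroup 2 Q := IsPGroup.of_card hQ
  -- an element of order `p` above `σ`
  have hcop : p.Coprime (2 ^ n) := (Nat.Coprime.pow_right n ((Nat.coprime_primes hp Nat.prime_two).2 hp2))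
  obtain ⟨k, hk1, hk2⟩ := Nat.chineseRemainder hcop 1 0
  have hkσ : π (d0 ^ k) = σ := by
    rw [map_pow, hd0]
    conv_rhs => rw [← pow_one σ]
    refine pow_eq_pow_iff_modEq.2 ?_
    rw [hσp]
    exact hk1
  obtain ⟨d, hd⟩ : ∃ d : ↥(centralizer ({z} : Set S)), d = d0 ^ k := ⟨_, rfl⟩
  rw [← hd] at hkσ
  have hdp : d ^ p = 1 := by
    have h1 : ((d0 ^ p : ↥(centralizer ({z} : Set S))) : S) ∈ Q := by
      rw [← hker, map_pow, hd0, ← hσp, pow_orderOf_eq_one]
    have h2 : (d0 ^ p) ^ 2 ^ n = 1 := by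
      have h3 := pow_card_eq_one' (G := ↥Q) (x := ⟨((d0 ^ p : ↥(centralizer ({z} : Set S))) : S), h1⟩)
      rw [hQ] at h3
      apply Subtype.ext
      simpa only [_root_.SubmonoidClass.coe_pow, _root_.OneMemClass.coe_one, _root_.SubmonoidClass.mk_pow] using congrArg Subtype.val h3
    obtain ⟨m, hm⟩ := (Nat.modEq_zero_iff_dvd).1 hk2
    rw [hd, ← pow_mul, hm]
    have h4 : 2 ^ n * m * p = p * 2 ^ n * m := by ring
    rw [h4, pow_mul, pow_mul, h2, one_pow]
  have hdo : orderOf d = p := by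
    have h1 : orderOf d ∣ p := orderOf_dvd_of_pow_eq_one hdp
    rcases (Nat.dvd_prime hp).1 h1 with h2 | h2
    · exfalso
      rw [orderOf_eq_one_iff] at h2
      rw [h2, map_one] at hkσ
      rw [← hkσ, orderOf_one] at hσp
      exact hp.one_lt.ne hσp
    · exact h2
  have hdS : orderOf (d : S) = p := by rw [orderOf_coe, hdo]
  have hdz : (d : S) * z = z * d := mem_centralizer_singleton_iff.1 d.2
  have hdN := hL.conj_mem d hdz
  have hodd : Odd (orderOf (d : S)) := by
    rw [hdS]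
    exact hp.odd_of_ne_two hp2
  have hnc : ¬ ∀ y ∈ Q, (d : S) * y = y * d := by
    intro hall
    have h1 : π d = 1 := (hker d).2 (hL.self d hdz hall)
    rw [hkσ] at h1
    rw [h1, orderOf_one] at hσp
    exact hp.one_lt.ne hσp
  obtain ⟨i, hi, hi2, hi3⟩ := BpSpor.Cen.exists_fix hQ hdS hdN hnc
  have hi1 : i ≤ 1 := hnum i hi (odd_of_large hL hp hp2 hQ hdS hdz hi2) hi3
  have hker2 : ∀ x : S, (hx : x ∈ centralizer ({z} : Set S)) → x ^ 2 = 1 → x * d = d * x → x ∈ Q := by
    intro x hx hx2 hxd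
    refine (hker ⟨x, hx⟩).1 ?_
    apply hC
    · rw [← map_pow]
      have h1 : (⟨x, hx⟩ : ↥(centralizer ({z} : Set S))) ^ 2 = 1 := Subtype.ext (by simpa only [_root_.SubmonoidClass.mk_pow, _root_.OneMemClass.coe_one] using hx2)
      rw [h1, map_one]
    · rw [← hkσ, ← map_mul, ← map_mul]
      exact congrArg π (Subtype.ext hxd)
  have hzN : z ∈ Q ⊓ centralizer ({(d : S)} : Set S) :=
    ⟨hL.z_mem, mem_centralizer_singleton_iff.2 hdz.symm⟩
  refine ⟨2, z, d, Nat.prime_two, hz, ?_, hdz.symm, ?_, ?_⟩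
  · exact hodd.coprime_two_right
  · intro x hx hxz hxd
    have hx2 : x ^ 2 = 1 := by rw [← hx, pow_orderOf_eq_one]
    have h1 : x ∈ Q ⊓ centralizer ({(d : S)} : Set S) :=
      ⟨hker2 x (mem_centralizer_singleton_iff.2 hxz) hx2 hxd, mem_centralizer_singleton_iff.2 hxd⟩
    have h2 : zpowers z = Q ⊓ centralizer ({(d : S)} : Set S) := by
      refine eq_of_le_of_card_ge (zpowers_le.2 hzN) ?_
      rw [hi2, Nat.card_zpowers, hz]
      exact (Nat.pow_le_pow_right (by norm_num) hi1).trans (by norm_num)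
    rw [h2]
    exact h1
  · intro hnl
    exact hnc fun y hy => (comm_of_nilpotent_cjs hQC hQp hdN hodd hnl hy).symm

end Cfsg.Agent.H480
end

-- part: H480/SporB
section
/-!
# Nilpotent minimal covers: the Baby Monster (helper480, S3925, S3926)
-/

set_option autoImplicit false

namespace Cfsg.Agent.H480

open Subgroup Equiv
open scoped Pointwise

namespace CoTwoRow

open Cfsg Cfsg.Agent.Leech.FrameAux Cfsg.Agent.MonsterX.KSide Cfsg.Agent.MonsterX.Lat
  Cfsg.Agent.MonsterP.LeechMu Cfsg.Agent.MonsterP.LeechTriple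

/-- no involution of the stabilizer commutes with `x` -/
theorem eq_one_of_comm {σ : Perm GolayPt} (hσo : orderOf σ = 23) (hσ0 : σ none = none) {x : Co0} (hx : IsP x σ)
    {c : Co0} (hcu : c • w3 none = w3 none) (hcx : c * x = x * c) (hcc : c * c = 1) : c = 1 := by
  have hce := fix_of_comm hσo hσ0 hx hcu hcx
  obtain ⟨τ, s, hs, hτ0, hs0, -, hact⟩ := Cfsg.Agent.Leech.FrameStab.exists_signed_perm c none hce
  have hsne : ∀ i, s i ≠ 0 := by
    intro i h
    rcases hs i with h1 | h1 <;> rw [h] at h1 <;> norm_num at h1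
  -- `τ` commutes with `σ`
  have hcomm : ∀ i, τ (σ i) = σ (τ i) ∧ s (σ i) = s i := by
    intro i
    obtain ⟨j, hj⟩ : ∃ j, τ j = σ.symm (τ (σ i)) := ⟨τ.symm _, τ.apply_symm_apply _⟩
    have h1 : ∀ u : leechLattice, s (σ i) * (u : GolayPt → ℤ) i = s j * (u : GolayPt → ℤ) j := by
      intro u
      have e1 := hact (x • u) (σ i)
      rw [hx, Equiv.symm_apply_apply] at e1
      have e2 := hx (c • u) (τ (σ i))
      rw [← hj, hact] at e2
      rw [← e1, ← e2, ← mul_smul, ← mul_smul, hcx]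
    have h2 := h1 (e8 i)
    rw [e8_val, e8_val, if_pos rfl] at h2
    have h3 : j = i := by
      by_contra hne
      rw [if_neg hne, mul_zero] at h2
      have := hsne (σ i)
      omega
    rw [h3] at hj h2
    rw [if_pos rfl] at h2
    refine ⟨?_, by omega⟩
    rw [hj, Equiv.apply_symm_apply]
  -- `τ` is an involution
  have hττ : ∀ i, τ (τ i) = i := by
    intro i
    by_contra hne
    have h1 := hact (c • e8 i) (τ i)
    rw [← mul_smul, hcc, one_smul, hact, e8_val, e8_val, if_neg hne, if_pos rfl] at h1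
    have h2 := hsne i
    have h3 := hsne (τ i)
    have h4 : s (τ i) * (s i * 8) ≠ 0 := mul_ne_zero h3 (mul_ne_zero h2 (by norm_num))
    exact h4 h1.symm
  have hτz : ∀ (k : ℤ) i, τ ((σ ^ k) i) = (σ ^ k) (τ i) := by
    have hc : τ * σ = σ * τ := Equiv.ext fun i => (hcomm i).1
    intro k i
    have h1 : Commute τ (σ ^ k) := (show Commute τ σ from hc).zpow_right k
    exact congrArg (fun g : Perm GolayPt => g i) h1.eq
  have hτne : ∀ i, i ≠ none → τ i ≠ none := by
    intro i hi h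
    exact hi (τ.injective (h.trans hτ0.symm))
  have h0 : τ (some 0) = some 0 := by
    obtain ⟨k, hk⟩ := exists_zpow hσo hσ0 (Option.some_ne_none 0) (hτne _ (Option.some_ne_none 0))
    have h1 : (σ ^ (k + k)) (some 0) = some 0 := by
      rw [zpow_add, Perm.mul_apply, hk, ← hτz, hk, hττ]
    have h2 : σ ^ k = (σ ^ (k + k)) ^ 12 := by
      have h3 : σ ^ 23 = 1 := orderOf_dvd_iff_pow_eq_one.1 (dvd_of_eq hσo)
      rw [← zpow_natCast, ← zpow_mul]
      have e : (k + k) * ((12 : ℕ) : ℤ) = k + ((23 : ℕ) : ℤ) * k := by push_cast; ring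
      rw [e, zpow_add, zpow_mul, zpow_natCast, h3, one_zpow, mul_one]
    have h3 : ∀ n : ℕ, ((σ ^ (k + k)) ^ n) (some 0) = some 0 := by
      intro n
      induction n with
      | zero => rfl
      | succ n ih => rw [pow_succ, Perm.mul_apply, h1, ih]
    rw [← hk, h2]
    exact h3 12
  have hτ1 : ∀ i, τ i = i := by
    intro i
    by_cases hi : i = none
    · rw [hi, hτ0]
    · obtain ⟨k, hk⟩ := exists_zpow hσo hσ0 (Option.some_ne_none 0) hi
      rw [← hk, hτz, h0]
  have hsc : ∀ i, i ≠ none → s i = s (some 0) := fun i hi => const_of_inv hσo hσ0 (fun i => (hcomm i).2) hi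
  have hs1 : s (some 0) = 1 := by
    have h1 := hact (w3 none) (some 0)
    rw [hτ1, hcu] at h1
    change (-1 : ℤ) = s (some 0) * (-1) at h1
    omega
  have hsall : ∀ i, s i = 1 := by
    intro i
    by_cases hi : i = none
    · rw [hi, hs0]
    · rw [hsc i hi, hs1]
  apply Subtype.ext
  apply Equiv.ext
  intro u
  apply Subtype.ext
  funext i
  have h1 := hact u i
  rw [hτ1, hsall, one_mul] at h1
  exact h1

theorem exists_order : ∃ σ : ↥(MulAction.stabilizer Co0 (w3 none)), orderOf σ = 23 ∧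
    ∀ y : ↥(MulAction.stabilizer Co0 (w3 none)), y ^ 2 = 1 → y * σ = σ * y → y = 1 := by
  have hcard : Nat.card Cfsg.Spor.M23 = 10200960 := Cfsg.Agent.SporadicA.MathieuRecog.card_M23
  have hfin23 : Finite ↥Cfsg.Spor.M23 := Nat.finite_of_card_ne_zero (by rw [hcard]; norm_num)
  have hf23 : Fact (Nat.Prime 23) := ⟨by norm_num⟩
  obtain ⟨σ', hσ'⟩ := exists_prime_orderOf_dvd_card' (G := ↥Cfsg.Spor.M23) 23 (by rw [hcard]; norm_num)
  obtain ⟨σ, hσ⟩ : ∃ σ : Perm GolayPt, σ = σ' := ⟨_, rfl⟩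
  have hσo : orderOf σ = 23 := by rw [hσ, orderOf_coe]; exact hσ'
  have hσM : σ ∈ Cfsg.Spor.M23 := by rw [hσ]; exact σ'.2
  have hσ0 : σ none = none := ((mem23 _).1 hσM).2
  obtain ⟨x, hx⟩ : ∃ x : Co0, IsP x σ := exists_co0_of_perm σ ((mem23 _).1 hσM).1
  have hxS : x ∈ MulAction.stabilizer Co0 (w3 none) := hx.smul_w3 hσ0
  refine ⟨⟨x, hxS⟩, ?_, ?_⟩
  · rw [← orderOf_coe]
    refine orderOf_eq_prime ?_ ?_
    · have h1 := hx.pow 23
      have h2 : σ ^ 23 = 1 := orderOf_dvd_iff_pow_eq_one.1 (dvd_of_eq hσo)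
      rw [h2] at h1
      exact h1.eq IsP.one
    · intro h1
      change x = 1 at h1
      rw [h1] at hx
      have h2 := hx.inj IsP.one
      rw [h2, orderOf_one] at hσo
      norm_num at hσo
  · intro y hy hyx
    apply Subtype.ext
    refine eq_one_of_comm hσo hσ0 hx (c := (y : Co0)) y.2 (congrArg Subtype.val hyx) ?_
    have h1 := congrArg Subtype.val hy
    rw [pow_two] at h1
    exact h1

end CoTwoRow

open Cfsg.Agent.KFacts.Baby.Inst in
/-- **The Baby Monster** -/
theorem kill_b : Kill Cfsg.Spor.BabyMonster := by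
  refine Kill.congr Cfsg.Agent.BM.KHAll.iso.symm ?_
  have A := Cfsg.Agent.BabyM.Instance.all
  have hL := large A
  obtain ⟨π, hπs, hπ⟩ := quot A
  have hfin := A.finite_G
  obtain ⟨e1⟩ := Cfsg.Agent.Schreier.CoTwoStab.exists_equiv (Cfsg.Agent.MonsterP.LeechMu.w3 none) (by
      rw [← Cfsg.Agent.SporadicStructure.Co2RankThree.norm_eq]
      exact Cfsg.Agent.MonsterP.LeechMu.nrm_w3 none)
  obtain ⟨e2⟩ := Cfsg.Agent.Schreier.CoTwoStab.exists_equiv _ Cfsg.Agent.BabyM.GroupInst.dt_l₀
  obtain ⟨σ, hσ, hy⟩ := CoTwoRow.exists_order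
  refine Kill.of_large hL π hπ (n := 23) (p := 23) (by norm_num) (by norm_num) ?_ (σ := e2.symm (e1 σ)) (hπs _) ?_ ?_ ?_
  · have h1 : Nat.card Cfsg.Agent.BabyM.Inst.M.Q = 2 ^ 23 := A.grp.Q_card
    rw [← h1]
    exact Nat.card_congr (Subgroup.subgroupOfEquivOfLe (A.grp.Q_le.trans A.C_le_G)).toEquiv
  · rw [MulEquiv.orderOf_eq, MulEquiv.orderOf_eq, hσ]
  · intro y hy2 hyσ
    have h1 := hy (e1.symm (e2 y)) (by rw [← map_pow, ← map_pow, hy2, map_one, map_one]) (by
      apply e1.injective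
      rw [map_mul, map_mul, e1.apply_symm_apply]
      apply e2.symm.injective
      rw [map_mul, map_mul, e2.symm_apply_apply, hyσ])
    have h2 := congrArg (fun t => e2.symm (e1 t)) h1
    simpa only [_root_.MulEquiv.apply_symm_apply, _root_.MulEquiv.symm_apply_apply, _root_.map_one] using h2
  · decide

end Cfsg.Agent.H480
end

-- part: H480/SporFi
section
/-!
# Nilpotent minimal covers: `Fi22`, `Fi23` (helper480, S3925, S3926)

`S_7` commutes with `S_3`, and `49` does not divide the order.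
-/

set_option autoImplicit false

namespace Cfsg.Agent.H480

open Subgroup Cfsg.Spor Cfsg.Agent.H517 Cfsg.Agent.H517.SporCox

theorem Kill.of_path {S : Type*} [Group S] [Finite S] (t : Fin 6 → S) (h2 : ∀ i, t i * t i = 1)
    (h3 : ∀ i j : Fin 6, i.val + 1 = j.val → t i * t j * t i = t j * t i * t j)
    (hc : ∀ i j : Fin 6, i.val + 1 < j.val → t i * t j = t j * t i) (hne : t 0 ≠ t 1)
    (h7 : ¬ 7 ^ 2 ∣ Nat.card S) {a b : S} (ha : a * a = 1) (hb : b * b = 1) (hab : a * b * a = b * a * b)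
    (hne' : a ≠ b) (hat : ∀ i, a * t i = t i * a) (hbt : ∀ i, b * t i = t i * b) : Kill S := by
  obtain ⟨f, hf, hr, hinj⟩ := H838.Sym.exists_equiv (n := 6) (by norm_num) t h2 h3 hc hne
  set c : Equiv.Perm (Fin 7) := finRotate 7 with hcdef
  have hc7 : orderOf c = 7 := by
    have : Fact (Nat.Prime 7) := ⟨by norm_num⟩
    exact orderOf_eq_prime (by decide +kernel) (by decide)
  have hz : orderOf (f c) = 7 := by rw [orderOf_injective f hinj, hc7]
  have hzr : f c ∈ _root_.Subgroup.closure (Set.range t) := by rw [← hr]; exact ⟨c, rfl⟩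
  have hcomm : ∀ x : S, (∀ i, x * t i = t i * x) → f c * x = x * f c := by
    intro x hx
    have h1 : closure (Set.range t) ≤ centralizer ({x} : Set S) := by
      rw [closure_le]
      rintro _ ⟨i, rfl⟩
      exact mem_centralizer_singleton_iff.2 (hx i).symm
    exact mem_centralizer_singleton_iff.1 (h1 hzr)
  have hza := hcomm a hat
  have hzb := hcomm b hbt
  have hai : a⁻¹ = a := inv_eq_of_mul_eq_one_right ha
  have hbi : b⁻¹ = b := inv_eq_of_mul_eq_one_right hb
  refine Kill.of_dihedral (r := 7) (by norm_num) (by norm_num) h7 (z := f c) (a := a * b) (b := b) hz ?_ hzb hb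
    ?_ ?_ ?_
  · rw [← mul_assoc, hza, mul_assoc, hzb, mul_assoc]
  · rw [mul_inv_rev, hai, hbi]
    calc b * (a * b) * b = b * a * (b * b) := by group
      _ = b * a := by rw [hb, mul_one]
  · have h4 : (a * b) ^ 3 = 1 := by
      calc (a * b) ^ 3 = (a * b * a) * (b * a * b) := by rw [pow_succ, pow_two]; group
        _ = (b * a * b) * (b * a * b) := by rw [hab]
        _ = b * a * (b * b) * a * b := by group
        _ = b * (a * a) * b := by rw [hb]; group
        _ = 1 := by rw [ha, mul_one, hb]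
    exact Odd.of_dvd_nat (by decide : Odd 3) (orderOf_dvd_of_pow_eq_one h4)
  · intro h4
    exact hne' (eq_of_mul_eq_one hb h4)

theorem not_comm_of_simple {S : Type*} [Group S] (hs : IsSimpleGroup S) (hc : ¬ (Nat.card S).Prime) :
    ¬ ∀ x y : S, x * y = y * x := by
  intro h
  apply hc
  let _ : CommGroup S := { mul_comm := h }
  have : IsSimpleGroup S := hs
  exact IsSimpleGroup.prime_card

theorem finite_of_card {S : Type*} {n : ℕ} (h : Nat.card S = n) (hn : n ≠ 0) : Finite S :=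
  Nat.finite_of_card_ne_zero (by rw [h]; exact hn)

theorem kill_fi22 : Kill Spor.Fi22 := by
  have h := S1696.result
  have hfin : Finite Spor.Fi22 := finite_of_card h.2 (by norm_num)
  have hna := not_comm_of_simple h.1 (by rw [h.2]; norm_num)
  have hne : ∀ x₀ x₁ : Fi22.Gen, ∀ l : List (Fi22.Gen × Fi22.Gen × Fi22.Gen),
      (∀ x : Fi22.Gen, x ∈ run Fi22.edges [x₀, x₁] l) →
      (PresentedGroup.of x₁ : Spor.Fi22) ≠ PresentedGroup.of x₀ := fun x₀ x₁ l hl h => hna (comm_of_eq l hl h)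
  have hm : ∀ i, ((![.g, .f, .e, .d, .h, .i] : Fin 6 → Fi22.Gen) i) ∈ coxNodes Fi22.edges := by decide
  refine Kill.of_path (S := Spor.Fi22)
    (fun i => PresentedGroup.of ((![.g, .f, .e, .d, .h, .i] : Fin 6 → Fi22.Gen) i)) ?_ ?_ ?_ ?_ ?_
    (a := PresentedGroup.of .a) (b := PresentedGroup.of .b) ?_ ?_ ?_ ?_ ?_ ?_
  · intro i
    exact cox_sq (hm i)
  · intro i j hij
    exact cox_braid (hm i) (hm j) (by revert i j; decide)
  · intro i j hij
    exact cox_comm (hm i) (hm j) (by revert i j; decide)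
  · exact (hne .g .f [(.e, .f, .g), (.d, .e, .f), (.h, .d, .e), (.c, .d, .e), (.b, .c, .d), (.a, .b, .c),
      (.i, .h, .d)] (by intro x; cases x <;> decide +kernel)).symm
  · rw [h.2]; norm_num
  · exact cox_sq (by decide)
  · exact cox_sq (by decide)
  · exact cox_braid (by decide) (by decide) (by decide)
  · exact (hne .a .b [(.c, .b, .a), (.d, .c, .b), (.e, .d, .c), (.h, .d, .c), (.f, .e, .d), (.g, .f, .e),
      (.i, .h, .d)] (by intro x; cases x <;> decide +kernel)).symm
  · intro i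
    exact cox_comm (by decide) (hm i) (by revert i; decide)
  · intro i
    exact cox_comm (by decide) (hm i) (by revert i; decide)

theorem kill_fi23 : Kill Spor.Fi23 := by
  have h := S1697.result
  have hfin : Finite Spor.Fi23 := finite_of_card h.2 (by norm_num)
  have hna := not_comm_of_simple h.1 (by rw [h.2]; norm_num)
  have hne : ∀ x₀ x₁ : Fi23.Gen, ∀ l : List (Fi23.Gen × Fi23.Gen × Fi23.Gen),
      (∀ x : Fi23.Gen, x ∈ run Fi23.edges [x₀, x₁] l) →
      (PresentedGroup.of x₁ : Spor.Fi23) ≠ PresentedGroup.of x₀ := fun x₀ x₁ l hl h => hna (comm_of_eq l hl h)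
  have hm : ∀ i, ((![.g, .f, .e, .d, .h, .i] : Fin 6 → Fi23.Gen) i) ∈ coxNodes Fi23.edges := by decide
  refine Kill.of_path (S := Spor.Fi23)
    (fun i => PresentedGroup.of ((![.g, .f, .e, .d, .h, .i] : Fin 6 → Fi23.Gen) i)) ?_ ?_ ?_ ?_ ?_
    (a := PresentedGroup.of .a) (b := PresentedGroup.of .b) ?_ ?_ ?_ ?_ ?_ ?_
  · intro i
    exact cox_sq (hm i)
  · intro i j hij
    exact cox_braid (hm i) (hm j) (by revert i j; decide)
  · intro i j hij
    exact cox_comm (hm i) (hm j) (by revert i j; decide)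
  · exact (hne .g .f [(.e, .f, .g), (.j, .g, .f), (.d, .e, .f), (.h, .d, .e), (.c, .d, .e), (.b, .c, .d), (.a, .b, .c),
      (.i, .h, .d)] (by intro x; cases x <;> decide +kernel)).symm
  · rw [h.2]; norm_num
  · exact cox_sq (by decide)
  · exact cox_sq (by decide)
  · exact cox_braid (by decide) (by decide) (by decide)
  · exact (hne .a .b [(.c, .b, .a), (.d, .c, .b), (.e, .d, .c), (.h, .d, .c), (.f, .e, .d), (.g, .f, .e), (.j, .g, .f),
      (.i, .h, .d)] (by intro x; cases x <;> decide +kernel)).symm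
  · intro i
    exact cox_comm (by decide) (hm i) (by revert i; decide)
  · intro i
    exact cox_comm (by decide) (hm i) (by revert i; decide)

end Cfsg.Agent.H480
end

-- part: H480/SporFiT
section
/-!
# Nilpotent minimal covers: `Fi24'` (helper480, S3925, S3926)
-/

set_option autoImplicit false

namespace Cfsg.Agent.H480

open Subgroup Cfsg.Spor Cfsg.Agent.H517 Cfsg.Agent.H517.SporCox
open Cfsg.Agent.R08.FiTwentyFour

theorem kill_fi24 : Kill Spor.Fi24' := by
  have hfin24 : Finite Spor.Fi24 := finite_Fi24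
  have hfin : Finite Spor.Fi24' := inferInstance
  have hna : ¬ ∀ x y : Spor.Fi24, x * y = y * x := by
    intro h
    have h1 := card_commutator
    have h2 : commutator Spor.Fi24 = ⊥ := by
      rw [commutator_def, commutator_eq_bot_iff_le_centralizer]
      intro x _
      rw [mem_centralizer_iff]
      intro y _
      exact h y x
    rw [h2, card_bot] at h1
    norm_num at h1
  have hm : ∀ i, ((![.h, .d, .e, .f, .g, .j] : Fin 6 → Fi24.Gen) i) ∈ coxNodes Fi24.edges := by decide
  set t : Fin 6 → Spor.Fi24 := fun i => PresentedGroup.of ((![.h, .d, .e, .f, .g, .j] : Fin 6 → Fi24.Gen) i) with ht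
  have hne : ∀ x₀ x₁ : Fi24.Gen, ∀ l : List (Fi24.Gen × Fi24.Gen × Fi24.Gen),
      (∀ x : Fi24.Gen, x ∈ run Fi24.edges [x₀, x₁] l) →
      (PresentedGroup.of x₁ : Spor.Fi24) ≠ PresentedGroup.of x₀ := fun x₀ x₁ l hl h => hna (comm_of_eq l hl h)
  have hne01 : t 0 ≠ t 1 := by
    exact (hne .h .d [(.i, .h, .d), (.c, .d, .h), (.e, .d, .h), (.b, .c, .d), (.a, .b, .c), (.k, .a, .b), (.l, .k, .a),
      (.f, .e, .d), (.g, .f, .e), (.j, .g, .f)] (by intro x; cases x <;> decide +kernel)).symm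
  obtain ⟨f, hf, hr, hinj⟩ := H838.Sym.exists_equiv (n := 6) (by norm_num) t
    (fun i => cox_sq (hm i)) (fun i j hij => cox_braid (hm i) (hm j) (by revert i j; decide))
    (fun i j hij => cox_comm (hm i) (hm j) (by revert i j; decide)) hne01
  set c : Equiv.Perm (Fin 7) := finRotate 7 with hcdef
  have hc7 : orderOf c = 7 := by
    have : Fact (Nat.Prime 7) := ⟨by norm_num⟩
    exact orderOf_eq_prime (by decide +kernel) (by decide)
  have hz : orderOf (f c) = 7 := by rw [orderOf_injective f hinj, hc7]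
  have hzr : f c ∈ _root_.Subgroup.closure (Set.range t) := by rw [← hr]; exact ⟨c, rfl⟩
  have hcomm : ∀ x : Spor.Fi24, (∀ i, x * t i = t i * x) → f c * x = x * f c := by
    intro x hx
    have h1 : closure (Set.range t) ≤ centralizer ({x} : Set Spor.Fi24) := by
      rw [closure_le]
      rintro _ ⟨i, rfl⟩
      exact mem_centralizer_singleton_iff.2 (hx i).symm
    exact mem_centralizer_singleton_iff.1 (h1 hzr)
  have hzC : f c ∈ commutator Spor.Fi24 := by
    have h1 : f c = (f c ^ 4) ^ 2 := by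
      have h2 := pow_orderOf_eq_one (f c)
      rw [hz] at h2
      rw [← pow_mul, show 4 * 2 = 7 + 1 from rfl, pow_succ, h2, one_mul]
    rw [h1]
    exact Subgroup.sq_mem_of_index_two index_commutator _
  set a : Spor.Fi24 := PresentedGroup.of .a with hadef
  set b : Spor.Fi24 := PresentedGroup.of .b with hbdef
  set l : Spor.Fi24 := PresentedGroup.of .l with hldef
  have hza : f c * a = a * f c := hcomm a (fun i => cox_comm (by decide) (hm i) (by revert i; decide))
  have hzb : f c * b = b * f c := hcomm b (fun i => cox_comm (by decide) (hm i) (by revert i; decide))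
  have hzl : f c * l = l * f c := hcomm l (fun i => cox_comm (by decide) (hm i) (by revert i; decide))
  have hla : l * a = a * l := cox_comm (by decide) (by decide) (by decide)
  have hlb : l * b = b * l := cox_comm (by decide) (by decide) (by decide)
  have haa : a * a = 1 := cox_sq (by decide)
  have hbb : b * b = 1 := cox_sq (by decide)
  have hll : l * l = 1 := cox_sq (by decide)
  have hab : a * b * a = b * a * b := cox_braid (by decide) (by decide) (by decide)
  have hneab : a ≠ b := (hne .a .b [(.k, .a, .b), (.l, .k, .a), (.c, .b, .a), (.d, .c, .b), (.e, .d, .c), (.h, .d, .c),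
      (.f, .e, .d), (.g, .f, .e), (.j, .g, .f), (.i, .h, .d)] (by intro x; cases x <;> decide +kernel)).symm
  have hai : a⁻¹ = a := inv_eq_of_mul_eq_one_right haa
  have hbi : b⁻¹ = b := inv_eq_of_mul_eq_one_right hbb
  have hli : l⁻¹ = l := inv_eq_of_mul_eq_one_right hll
  have hnela : l ≠ a := by
    intro h
    apply hneab
    have h1 : a * b = b * a := by rw [← h]; exact hlb
    have h2 : a * b * a = b := by rw [h1, mul_assoc, haa, mul_one]
    have h3 : b * a * b = a := by rw [← h1, mul_assoc, hbb, mul_one]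
    rw [← h3, ← hab, h2]
  have haL : a ∈ L := gen_mem_L .a
  have hbL : b ∈ L := gen_mem_L .b
  have hlL : l ∈ L := gen_mem_L .l
  obtain ⟨P⟩ := Cfsg.Agent.R08.TetFi24A.exists_at hlL haL hnela hla
  -- the elements
  let z' : Spor.Fi24' := ⟨f c, hzC⟩
  let d' : Spor.Fi24' := ⟨l * a, even hlL haL⟩
  let q' : Spor.Fi24' := ⟨a * b, even haL hbL⟩
  have hd2 : orderOf d' = 2 := by
    apply orderOf_eq_prime (p := 2)
    · apply Subtype.ext
      show (l * a) ^ 2 = 1
      rw [pow_two]
      calc l * a * (l * a) = l * (a * l) * a := by group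
        _ = l * (l * a) * a := by rw [hla]
        _ = (l * l) * (a * a) := by group
        _ = 1 := by rw [hll, haa, one_mul]
    · intro h
      have h1 : l * a = 1 := congrArg Subtype.val h
      exact hnela ((eq_inv_of_mul_eq_one_left h1).trans hai)
  have hq : q' * d' * q'⁻¹ * d'⁻¹ = ⟨b * a, even hbL haL⟩ := by
    apply Subtype.ext
    show (a * b) * (l * a) * (a * b)⁻¹ * (l * a)⁻¹ = b * a
    rw [mul_inv_rev, mul_inv_rev, hai, hbi, hli]
    calc (a * b) * (l * a) * (b * a) * (a * l) = a * (b * l) * a * b * (a * a) * l := by group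
      _ = a * (l * b) * a * b * l := by rw [haa, mul_one, hlb]
      _ = (a * l) * b * a * b * l := by group
      _ = (l * a) * b * a * b * l := by rw [hla]
      _ = l * (a * b * a) * b * l := by group
      _ = l * (b * a * b) * b * l := by rw [hab]
      _ = l * b * a * (b * b) * l := by group
      _ = l * b * (a * l) := by rw [hbb]; group
      _ = l * (b * l) * a := by rw [← hla]; group
      _ = l * (l * b) * a := by rw [hlb]
      _ = (l * l) * b * a := by group
      _ = b * a := by rw [hll, one_mul]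
  have h3 : (b * a) ^ 3 = 1 := by
    calc (b * a) ^ 3 = (b * a * b) * (a * b * a) := by rw [pow_succ, pow_two]; group
      _ = (b * a * b) * (b * a * b) := by rw [hab]
      _ = b * a * (b * b) * a * b := by group
      _ = b * (a * a) * b := by rw [hbb]; group
      _ = 1 := by rw [haa, mul_one, hbb]
  refine Kill.of_inf (r := 7) (by norm_num) (z := z') (d := d') (q := q') ?_ (by rw [hd2]; norm_num) ?_ ?_ ?_ ?_ ?_
  · rw [← orderOf_coe]
    exact hz
  · apply Subtype.ext
    show f c * (l * a) = l * a * f c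
    rw [← mul_assoc, hzl, mul_assoc, hza, mul_assoc]
  · intro h
    have h5 : Nat.card ↥(centralizer ({z'} : Set Spor.Fi24') ⊓ centralizer ({d'} : Set Spor.Fi24')) ∣
        Nat.card ↥(centralizer ({d'} : Set Spor.Fi24')) := Subgroup.card_dvd_of_le inf_le_right
    have h6 := Cfsg.Agent.H237.EvenFi.relIndex_dvd P (t := d') rfl
    have h7 : (Cfsg.Agent.CTwoTab.FiTF.N l a).relIndex (centralizer ({d'} : Set Spor.Fi24')) *
        Nat.card ↥(Cfsg.Agent.CTwoTab.FiTF.N l a) = Nat.card ↥(centralizer ({d'} : Set Spor.Fi24')) := by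
      rw [mul_comm, ← Subgroup.relIndex_bot_left, ← Subgroup.relIndex_bot_left]
      exact Subgroup.relIndex_mul_relIndex _ _ _ bot_le (Cfsg.Agent.CTwoTab.FiTF.N_le (t := d') rfl)
    have h8 : Nat.card ↥(Cfsg.Agent.CTwoTab.FiTF.N l a) = 2 * 64561751654400 := by
      rw [Nat.card_congr (Cfsg.Agent.CTwoTab.FiTF.eN l a).toEquiv]
      exact Cfsg.Agent.OddHalf.D4.Spor.FiTF.card_Cab P
    rw [h8] at h7
    have h9 : Nat.card ↥(centralizer ({d'} : Set Spor.Fi24')) ∣ 2 * (2 * 64561751654400) := by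
      rw [← h7]
      exact mul_dvd_mul_right h6 _
    exact absurd ((h.trans h5).trans h9) (by norm_num)
  · apply Subtype.ext
    show a * b * f c = f c * (a * b)
    rw [← mul_assoc, hza, mul_assoc, ← hzb, mul_assoc]
  · rw [hq, hd2]
    have h4 : (⟨b * a, even hbL haL⟩ : Spor.Fi24') ^ 3 = 1 := Subtype.ext h3
    exact Nat.Coprime.coprime_dvd_left (orderOf_dvd_of_pow_eq_one h4) (by norm_num)
  · rw [hq]
    intro h
    have h1 : b * a * (l * a) = l * a * (b * a) := congrArg Subtype.val h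
    apply hneab
    have h2 : b * a * (l * a) = l * b := by
      calc b * a * (l * a) = b * (a * l) * a := by group
        _ = b * (l * a) * a := by rw [hla]
        _ = (b * l) * (a * a) := by group
        _ = l * b := by rw [haa, mul_one, hlb]
    have h4 : l * b = l * (a * b * a) := by rw [← h2, h1]; group
    have h5 : b = b * a * b := by rw [← hab]; exact mul_left_cancel h4
    have h6 : a * b = 1 := by
      have : b * (a * b) = b * 1 := by rw [mul_one, ← mul_assoc]; exact h5.symm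
      exact mul_left_cancel this
    exact (eq_inv_of_mul_eq_one_left h6).trans hbi

end Cfsg.Agent.H480
end

private theorem dce_cad55ac77676 : _root_.True := by
  try have : _root_.True := by simp only [_root_.Cfsg.Agent.H480.HeRow.mS.eq_1]
  try have : _root_.True := by simp only [_root_.Cfsg.Agent.H480.HeRow.mD.eq_1]
  exact _root_.True.intro
end

section
prune_inst 0xfcbcf88fb82ddfffff7e7ffedddffcfdb17fffefdff943ffe861ff0fdf6b0ac9e56b850feb50fe0ed6601410f87bd3fd7eeeffe26bdc7ffffd5ff45ffbff8ffdf6bd0851d68c340fbc6fffe3f07f8e7f000000000000000000000000000000004200000000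

-- part: H480/RowLie
section
prune_inst 0x1000030004000000000000000000000020000000002000000000000000000100000001000010100000c8220040000000000000800000000000000000000000000000000080080000000000000000000000000000000000000000000000000000000000000
set_option linter.all false
open scoped Cfsg.Agent.FastGrp

-- part: H480/RowPslThree
section
/-!
# Nilpotent minimal covers: `PSL₃(q)` (helper480, S3925, S3926)
-/

set_option autoImplicit false

namespace Cfsg.Agent.H480.PslThree

open Subgroup Matrix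
open Cfsg.Agent.ClassicalGeometry.AutPSL.Root Cfsg.Agent.ClassicalGeometry.AutPSL.Auto
  Cfsg.Agent.ClassicalGeometry.AutPSL.Main

universe u v

variable {F : Type v} [Field F]

/-- block matrices -/
def bl (Z : Matrix (Fin 2) (Fin 2) F) : Matrix (Fin 3) (Fin 3) F := !![Z 0 0, Z 0 1, 0; Z 1 0, Z 1 1, 0; 0, 0, 1]

theorem bl_mul (Z W : Matrix (Fin 2) (Fin 2) F) : bl Z * bl W = bl (Z * W) := by
  ext i j
  (revert i j; simp only [bl, Matrix.mul_apply, Fin.sum_univ_three, Fin.sum_univ_two, _root_.Fin.forall_fin_succ, Fin.isValue, _root_.Matrix.of_apply, _root_.Matrix.cons_val', _root_.Matrix.cons_val_fin_one, _root_.Matrix.cons_val_zero, _root_.Matrix.cons_val_one, _root_.Matrix.cons_val, _root_.MulZeroClass.mul_zero, _root_.add_zero, _root_.Matrix.cons_val_succ, _root_.mul_one, _root_.zero_add, _root_.implies_true, _root_.and_true, _root_.and_self, _root_.MulZeroClass.zero_mul])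

theorem bl_one : bl (1 : Matrix (Fin 2) (Fin 2) F) = 1 := by
  ext i j
  (revert i j; simp only [bl, _root_.Fin.forall_fin_succ, _root_.Matrix.one_apply_eq, Fin.isValue, _root_.ne_eq, _root_.zero_ne_one, _root_.not_false_eq_true, _root_.Matrix.one_apply_ne, _root_.one_ne_zero, _root_.Matrix.of_apply, _root_.Matrix.cons_val', _root_.Matrix.cons_val_fin_one, _root_.Matrix.cons_val_zero, _root_.Matrix.cons_val_succ, _root_.IsEmpty.forall_iff, _root_.and_true, Nat.reduceAdd, _root_.Fin.succ_zero_eq_one, _root_.Fin.succ_one_eq_two, Fin.reduceEq, _root_.and_self, _root_.Fin.succ_ne_zero, _root_.true_and])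

theorem det_bl (Z : Matrix (Fin 2) (Fin 2) F) : (bl Z).det = Z.det := by
  rw [det_fin_three, det_fin_two]
  simp [bl]

/-- the block embedding -/
def blh : Matrix.SpecialLinearGroup (Fin 2) F →* Matrix.SpecialLinearGroup (Fin 3) F where
  toFun Z := ⟨bl Z.1, by rw [det_bl]; exact Z.2⟩
  map_one' := Subtype.ext bl_one
  map_mul' Z W := Subtype.ext (bl_mul Z.1 W.1).symm

theorem blh_coe (Z : Matrix.SpecialLinearGroup (Fin 2) F) : (blh Z).1 = bl Z.1 := rfl

/-- matrices intertwining block matrices are block matrices -/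
theorem block_of_comm {A : Matrix (Fin 3) (Fin 3) F} {X X' : Matrix (Fin 2) (Fin 2) F}
    (hX : (X 0 0 - 1) * (X 1 1 - 1) - X 0 1 * X 1 0 ≠ 0) (hX' : (X' 0 0 - 1) * (X' 1 1 - 1) - X' 0 1 * X' 1 0 ≠ 0)
    (h : A * bl X' = bl X * A) : A 0 2 = 0 ∧ A 1 2 = 0 ∧ A 2 0 = 0 ∧ A 2 1 = 0 := by
  have h' := fun i j => congrFun (congrFun h i) j
  simp only [bl, Matrix.mul_apply, Fin.sum_univ_three] at h'
  have h02 := h' 0 2
  have h12 := h' 1 2
  have h20 := h' 2 0
  have h21 := h' 2 1
  simp only [_root_.Fin.isValue, _root_.Matrix.of_apply, _root_.Matrix.cons_val', _root_.Matrix.cons_val, _root_.Matrix.cons_val_fin_one, _root_.Matrix.cons_val_zero, _root_.MulZeroClass.mul_zero, _root_.Matrix.cons_val_one, _root_.add_zero, _root_.mul_one, _root_.zero_add, _root_.MulZeroClass.zero_mul, _root_.one_mul] at h02 h12 h20 h21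
  refine ⟨?_, ?_, ?_, ?_⟩
  · refine (mul_eq_zero.1 (?_ : ((X 0 0 - 1) * (X 1 1 - 1) - X 0 1 * X 1 0) * A 0 2 = 0)).resolve_left hX
    linear_combination -(X 1 1 - 1) * h02 + X 0 1 * h12
  · refine (mul_eq_zero.1 (?_ : ((X 0 0 - 1) * (X 1 1 - 1) - X 0 1 * X 1 0) * A 1 2 = 0)).resolve_left hX
    linear_combination -(X 0 0 - 1) * h12 + X 1 0 * h02
  · refine (mul_eq_zero.1 (?_ : ((X' 0 0 - 1) * (X' 1 1 - 1) - X' 0 1 * X' 1 0) * A 2 0 = 0)).resolve_left hX'
    linear_combination (X' 1 1 - 1) * h20 - X' 1 0 * h21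
  · refine (mul_eq_zero.1 (?_ : ((X' 0 0 - 1) * (X' 1 1 - 1) - X' 0 1 * X' 1 0) * A 2 1 = 0)).resolve_left hX'
    linear_combination (X' 0 0 - 1) * h21 - X' 0 1 * h20

/-- conjugates of block matrices -/
theorem mem_range_of_block {A : GL (Fin 3) F} {Z : Matrix.SpecialLinearGroup (Fin 2) F}
    (h : A 0 2 = 0 ∧ A 1 2 = 0 ∧ A 2 0 = 0 ∧ A 2 1 = 0) : cj A (blh Z) ∈ (blh (F := F)).range := by
  obtain ⟨h02, h12, h20, h21⟩ := h
  have hdet : (A : Matrix (Fin 3) (Fin 3) F).det ≠ 0 := ((Matrix.isUnit_iff_isUnit_det _).1 A.isUnit).ne_zero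
  rw [det_fin_three] at hdet
  have h22 : A 2 2 ≠ 0 := by
    intro h
    apply hdet
    rw [h, h20, h21]
    ring
  set W := cj A (blh Z) with hW
  have h1 : W.1 * (A : Matrix (Fin 3) (Fin 3) F) = (A : Matrix (Fin 3) (Fin 3) F) * bl Z.1 := by
    have h2 : W.1 = (A : Matrix (Fin 3) (Fin 3) F) * bl Z.1 * ((A⁻¹ : GL (Fin 3) F) : Matrix (Fin 3) (Fin 3) F) := rfl
    rw [h2, mul_assoc _ _ (A : Matrix (Fin 3) (Fin 3) F), ← Units.val_mul, inv_mul_cancel, Units.val_one, mul_one]
  have h' := fun i j => congrFun (congrFun h1 i) j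
  simp only [bl, Matrix.mul_apply, Fin.sum_univ_three] at h'
  have k02 := h' 0 2
  have k12 := h' 1 2
  have k22 := h' 2 2
  have k20 := h' 2 0
  have k21 := h' 2 1
  simp only [h02, h12, h20, h21, _root_.Fin.isValue, _root_.MulZeroClass.mul_zero, _root_.add_zero, _root_.zero_add, _root_.Matrix.of_apply, _root_.Matrix.cons_val', _root_.Matrix.cons_val, _root_.Matrix.cons_val_fin_one, _root_.Matrix.cons_val_zero, _root_.Matrix.cons_val_one, _root_.mul_one, _root_.mul_eq_zero, _root_.MulZeroClass.zero_mul] at k02 k12 k22 k20 k21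
  have w02 : W.1 0 2 = 0 := k02.resolve_right h22
  have w12 : W.1 1 2 = 0 := k12.resolve_right h22
  have w22 : W.1 2 2 = 1 := by
    have : (W.1 2 2 - 1) * A 2 2 = 0 := by linear_combination k22
    exact sub_eq_zero.1 ((mul_eq_zero.1 this).resolve_right h22)
  have hd : A 0 0 * A 1 1 - A 0 1 * A 1 0 ≠ 0 := by
    intro h
    apply hdet
    rw [h02, h12, h20, h21]
    linear_combination A 2 2 * h
  have w20 : W.1 2 0 = 0 := by
    have : (A 0 0 * A 1 1 - A 0 1 * A 1 0) * W.1 2 0 = 0 := by linear_combination A 1 1 * k20 - A 1 0 * k21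
    exact (mul_eq_zero.1 this).resolve_left hd
  have w21 : W.1 2 1 = 0 := by
    have : (A 0 0 * A 1 1 - A 0 1 * A 1 0) * W.1 2 1 = 0 := by linear_combination A 0 0 * k21 - A 0 1 * k20
    exact (mul_eq_zero.1 this).resolve_left hd
  have hb : W.1 = bl !![W.1 0 0, W.1 0 1; W.1 1 0, W.1 1 1] := by
    ext i j
    (revert i j; simp only [bl, w02, w12, w20, w21, w22, _root_.Fin.forall_fin_succ, Fin.isValue, _root_.Matrix.of_apply, _root_.Matrix.cons_val', _root_.Matrix.cons_val_zero, _root_.Matrix.cons_val_fin_one, _root_.Matrix.cons_val_one, _root_.Matrix.cons_val_succ, _root_.Fin.succ_zero_eq_one, _root_.Fin.succ_one_eq_two, _root_.IsEmpty.forall_iff, _root_.and_true, _root_.and_self])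
  refine ⟨⟨!![W.1 0 0, W.1 0 1; W.1 1 0, W.1 1 1], ?_⟩, Subtype.ext hb.symm⟩
  rw [← det_bl, ← hb]
  exact W.2

/-- automorphisms fixing an element of order five in the block subgroup leave the block subgroup invariant -/
theorem aut_inv [Fintype F] {X : Matrix.SpecialLinearGroup (Fin 2) F} (hX5 : X ^ 5 = 1)
    (hX : X 0 0 + X 1 1 ≠ 2) (α : MulAut (Matrix.ProjectiveSpecialLinearGroup (Fin 3) F))
    (hα : α (pr (blh X)) = pr (blh X)) : ∀ y ∈ (pr.comp (blh (F := F))).range, α y ∈ (pr.comp (blh (F := F))).range := by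
  obtain ⟨p, hp⟩ := CharP.exists F
  have hpf : Fact p.Prime := ⟨CharP.char_is_prime F p⟩
  -- the common argument
  have key : ∀ (A : GL (Fin 3) F) (τ : MulAut (Matrix.SpecialLinearGroup (Fin 2) F)),
      (∀ Z, (τ Z) 0 0 + (τ Z) 1 1 ≠ 2 ↔ Z 0 0 + Z 1 1 ≠ 2) → pr (cj A (blh (τ X))) = pr (blh X) →
      ∀ Z, pr (cj A (blh (τ Z))) ∈ (pr.comp (blh (F := F))).range := by
    intro A τ hτ h Z
    obtain ⟨c, hc⟩ := exists_smul_of_pr_eq h
    have hc3 : c ^ 3 = 1 := by
      have h2 := (blh X).2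
      rw [hc, det_smul, (cj A (blh (τ X))).2, Fintype.card_fin, mul_one] at h2
      exact h2
    have hc5 : c ^ 5 = 1 := by
      have h1 : (blh X) ^ 5 = 1 := by rw [← map_pow, hX5, map_one]
      have h2 : (cj A (blh (τ X))) ^ 5 = 1 := by
        rw [← map_pow, ← map_pow, ← map_pow, hX5, map_one, map_one, map_one]
      have h3 : (blh X).1 ^ 5 = 1 := by
        rw [← Matrix.SpecialLinearGroup.coe_pow (blh X) 5, h1]
        rfl
      have h4 : (cj A (blh (τ X))).1 ^ 5 = 1 := by
        rw [← Matrix.SpecialLinearGroup.coe_pow (cj A (blh (τ X))) 5, h2]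
        rfl
      rw [hc, smul_pow, h4] at h3
      have h5 := congrFun (congrFun h3 0) 0
      simpa using h5
    have hc1 : c = 1 := by
      have h6 : c ^ 6 = 1 := by rw [show 6 = 3 * 2 from rfl, pow_mul, hc3, one_pow]
      rw [pow_succ, hc5, one_mul] at h6
      exact h6
    rw [hc1, one_smul] at hc
    have h1 : (A : Matrix (Fin 3) (Fin 3) F) * bl (τ X).1 = bl X.1 * (A : Matrix (Fin 3) (Fin 3) F) := by
      have h2 : (cj A (blh (τ X))).1 = (A : Matrix (Fin 3) (Fin 3) F) * bl (τ X).1 *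
        ((A⁻¹ : GL (Fin 3) F) : Matrix (Fin 3) (Fin 3) F) := rfl
      have h3 : (blh X).1 = bl X.1 := rfl
      rw [← h3, hc, h2, mul_assoc _ _ (A : Matrix (Fin 3) (Fin 3) F), ← Units.val_mul, inv_mul_cancel,
        Units.val_one, mul_one]
    have hdet : ∀ Z : Matrix.SpecialLinearGroup (Fin 2) F, Z 0 0 + Z 1 1 ≠ 2 →
        (Z.1 0 0 - 1) * (Z.1 1 1 - 1) - Z.1 0 1 * Z.1 1 0 ≠ 0 := by
      intro Z hZ h
      apply hZ
      have h2 := PslTwo.det2 Z
      linear_combination h2 - h
    obtain ⟨W, hW⟩ := mem_range_of_block (Z := τ Z) (block_of_comm (hdet X hX) (hdet (τ X) ((hτ X).2 hX)) h1)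
    exact ⟨W, by rw [MonoidHom.comp_apply, hW]⟩
  rintro _ ⟨Z, rfl⟩
  rw [MonoidHom.comp_apply]
  have hfld : ∀ (σ : F ≃+* F) (Z : Matrix.SpecialLinearGroup (Fin 2) F), fld σ (blh Z) = blh (fld σ Z) := by
    intro σ Z
    ext i j
    change σ (bl Z.1 i j) = bl (fld σ Z).1 i j
    have h1 : ∀ i j, (fld σ Z).1 i j = σ (Z.1 i j) := fun i j => rfl
    (revert i j; simp only [bl, h1, _root_.Fin.forall_fin_succ, Fin.isValue, _root_.Matrix.of_apply, _root_.Matrix.cons_val', _root_.Matrix.cons_val_fin_one, _root_.Matrix.cons_val_zero, _root_.Matrix.cons_val_succ, _root_.forall_const, _root_.map_zero, _root_.and_self, _root_.map_one, _root_.implies_true])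
  have hitr : ∀ (Z : Matrix.SpecialLinearGroup (Fin 2) F), itr (blh Z) = blh (itr Z) := by
    intro Z
    apply Subtype.ext
    rw [coe_itr, ← map_inv]
    ext i j
    change bl (Z⁻¹).1 j i = bl (itr Z).1 i j
    have h1 : ∀ i j, (itr Z).1 i j = (Z⁻¹).1 j i := fun i j => rfl
    (revert i j; simp only [bl, h1, _root_.Fin.forall_fin_succ, Fin.isValue, _root_.Matrix.SpecialLinearGroup.coe_inv, _root_.Matrix.of_apply, _root_.Matrix.cons_val', _root_.Matrix.cons_val_fin_one, _root_.Matrix.cons_val_zero, _root_.Matrix.cons_val_succ, _root_.forall_const, _root_.and_self, _root_.implies_true])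
  rcases surj_three p le_rfl α with ⟨A, σ, rfl⟩ | ⟨A, σ, rfl⟩
  · rw [lift_pr, MulAut.mul_apply, hfld] at hα ⊢
    refine key A (fld σ) ?_ hα Z
    intro Z
    rw [coe_fld_apply, coe_fld_apply, ← map_add, Ne, Ne, not_iff_not]
    constructor
    · intro h
      apply σ.injective
      rw [h, map_ofNat]
    · intro h
      rw [h, map_ofNat]
  · rw [lift_pr, MulAut.mul_apply, MulAut.mul_apply, hitr, hfld] at hα ⊢
    obtain ⟨τ, hτ⟩ : ∃ τ : MulAut (Matrix.SpecialLinearGroup (Fin 2) F), ∀ Z, τ Z = fld σ (itr Z) :=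
      ⟨fld σ * itr, fun Z => rfl⟩
    rw [← hτ] at hα ⊢
    refine key A τ ?_ hα Z
    intro Z
    rw [hτ, coe_fld_apply, coe_fld_apply, ← map_add, Ne, Ne, not_iff_not, coe_itr]
    have h1 : (Z⁻¹ : Matrix.SpecialLinearGroup (Fin 2) F).1ᵀ 0 0 + (Z⁻¹ : Matrix.SpecialLinearGroup (Fin 2) F).1ᵀ 1 1 =
        Z 0 0 + Z 1 1 := by
      rw [transpose_apply, transpose_apply]
      have h2 := PslTwo.inv00 Z
      have h3 := PslTwo.inv11 Z
      rw [h2, h3, add_comm]
    rw [h1]
    constructor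
    · intro h
      apply σ.injective
      rw [h, map_ofNat]
    · intro h
      rw [h, map_ofNat]

theorem row_four [Fintype F] (hF : Fintype.card F = 4) : Row.{u} (Matrix.ProjectiveSpecialLinearGroup (Fin 3) F) := by
  intro G _ _ K hK hs hna hc hcyc f 𝓐 hA
  have hf2 : Fact (Nat.Prime 2) := ⟨Nat.prime_two⟩
  have hch : CharP F 2 := by
    obtain ⟨p, hp⟩ := CharP.exists F
    have hpf : p.Prime := CharP.char_is_prime F p
    obtain ⟨n, -, hn⟩ := FiniteField.card F p
    have h1 : p ∣ 4 := by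
      rw [← hF, hn]
      exact dvd_pow_self p n.pos.ne'
    have h2 : p = 2 := (Nat.prime_dvd_prime_iff_eq hpf Nat.prime_two).1 (hpf.dvd_of_dvd_pow (show p ∣ 2 ^ 2 from h1))
    rw [← h2]
    exact hp
  have h2 : (2 : F) = 0 := CharTwo.two_eq_zero
  have hneg : (-1 : F) = 1 := by linear_combination -h2
  -- a cube root of unity
  obtain ⟨w, hw⟩ : ∃ w : F, w ^ 2 = w + 1 := by
    obtain ⟨w, hw⟩ := exists_prime_orderOf_dvd_card' (G := Fˣ) 3 (by
      rw [Nat.card_units, Nat.card_eq_fintype_card, hF])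
    have h3 : (w : F) ^ 3 = 1 := by
      rw [← Units.val_pow_eq_pow_val, ← hw, pow_orderOf_eq_one, Units.val_one]
    have h1 : (w : F) ≠ 1 := by
      intro h
      have hw1 : w = 1 := Units.ext h
      rw [hw1, orderOf_one] at hw
      omega
    refine ⟨w, ?_⟩
    have h4 : ((w : F) - 1) * ((w : F) ^ 2 + w + 1) = 0 := by linear_combination h3
    have h5 := (mul_eq_zero.1 h4).resolve_left (sub_ne_zero.2 h1)
    linear_combination h5 - (w + 1) * h2
  have hw0 : w ≠ 0 := by
    rintro rfl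
    apply one_ne_zero (α := F)
    linear_combination -hw
  have hw1 : w ≠ 1 := by
    rintro rfl
    apply one_ne_zero (α := F)
    linear_combination -hw
  obtain ⟨X, hX⟩ : ∃ X : Matrix.SpecialLinearGroup (Fin 2) F, X.1 = !![0, 1; 1, w] :=
    ⟨⟨!![0, 1; 1, w], by rw [det_fin_two]; simp [hneg]⟩, rfl⟩
  have hX2 : (X ^ 2).1 = !![1, w; w, w] := by
    have h3 : (X ^ 2).1 = X.1 * X.1 := by rw [pow_two]; rfl
    rw [h3, hX]
    ext i j
    (revert i j; simp only [Matrix.mul_apply, Fin.sum_univ_two, _root_.Fin.forall_fin_succ, _root_.Matrix.of_apply, _root_.Matrix.cons_val', _root_.Matrix.cons_val_fin_one, Fin.isValue, _root_.Matrix.cons_val_zero, _root_.Matrix.cons_val_one, _root_.MulZeroClass.mul_zero, _root_.mul_one, _root_.zero_add, _root_.Matrix.cons_val_succ, _root_.forall_const, _root_.one_mul, _root_.and_true, _root_.true_and]) <;> (repeat' with_reducible apply And.intro)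
    linear_combination hw + h2
  have hX3 : (X ^ 3).1 = !![w, w; w, 1] := by
    have h3 : (X ^ 3).1 = (X ^ 2).1 * X.1 := by rw [pow_succ]; rfl
    rw [h3, hX2, hX]
    ext i j
    (revert i j; simp only [Matrix.mul_apply, Fin.sum_univ_two, _root_.Fin.forall_fin_succ, _root_.Matrix.of_apply, _root_.Matrix.cons_val', _root_.Matrix.cons_val_fin_one, Fin.isValue, _root_.Matrix.cons_val_zero, _root_.Matrix.cons_val_one, _root_.MulZeroClass.mul_zero, _root_.mul_one, _root_.zero_add, _root_.Matrix.cons_val_succ, _root_.forall_const, _root_.and_true, _root_.true_and]) <;> (repeat' with_reducible apply And.intro)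
    · linear_combination hw + h2
    · linear_combination hw + w * h2
  have hX4 : (X ^ 4).1 = !![w, 1; 1, 0] := by
    have h3 : (X ^ 4).1 = (X ^ 3).1 * X.1 := by rw [pow_succ]; rfl
    rw [h3, hX3, hX]
    ext i j
    (revert i j; simp only [Matrix.mul_apply, Fin.sum_univ_two, _root_.Fin.forall_fin_succ, _root_.Matrix.of_apply, _root_.Matrix.cons_val', _root_.Matrix.cons_val_fin_one, Fin.isValue, _root_.Matrix.cons_val_zero, _root_.Matrix.cons_val_one, _root_.MulZeroClass.mul_zero, _root_.mul_one, _root_.zero_add, _root_.Matrix.cons_val_succ, _root_.forall_const, _root_.one_mul, _root_.and_true, _root_.true_and]) <;> (repeat' with_reducible apply And.intro)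
    · linear_combination hw + w * h2
    · linear_combination w * h2
  have hX5 : X ^ 5 = 1 := by
    apply Subtype.ext
    have h3 : (X ^ 5).1 = (X ^ 4).1 * X.1 := by rw [pow_succ]; rfl
    rw [h3, hX4, hX]
    ext i j
    (revert i j; simp only [Matrix.mul_apply, Fin.sum_univ_two, _root_.Fin.forall_fin_succ, _root_.Matrix.of_apply, _root_.Matrix.cons_val', _root_.Matrix.cons_val_fin_one, Fin.isValue, _root_.Matrix.cons_val_zero, _root_.Matrix.cons_val_one, _root_.Matrix.SpecialLinearGroup.coe_one, _root_.MulZeroClass.mul_zero, _root_.mul_one, _root_.zero_add, _root_.Matrix.cons_val_succ, _root_.IsEmpty.forall_iff, _root_.Matrix.one_apply_eq, _root_.one_mul, Nat.reduceAdd, _root_.Fin.succ_zero_eq_one, _root_.ne_eq, _root_.zero_ne_one, _root_.not_false_eq_true, _root_.Matrix.one_apply_ne, _root_.Fin.succ_ne_zero, _root_.MulZeroClass.zero_mul, _root_.add_zero, _root_.and_true, _root_.true_and]) <;> (repeat' with_reducible apply And.intro)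
    linear_combination w * h2
  set θ : Matrix.SpecialLinearGroup (Fin 2) F →* Matrix.ProjectiveSpecialLinearGroup (Fin 3) F := pr.comp blh with hθ
  have hθi : ∀ A B : Matrix.SpecialLinearGroup (Fin 2) F, θ A = θ B → A.1 = B.1 := by
    intro A B h
    obtain ⟨c, hc⟩ := exists_smul_of_pr_eq h
    have h22 := congrFun (congrFun hc 2) 2
    rw [blh_coe, blh_coe] at hc
    have k22 := congrFun (congrFun hc 2) 2
    simp [bl] at k22
    rw [← k22, one_smul] at hc
    ext i j
    fin_cases i <;> fin_cases j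
    · simpa only [bl, _root_.Fin.zero_eta, _root_.Fin.isValue, _root_.Matrix.of_apply, _root_.Matrix.cons_val', _root_.Matrix.cons_val_zero, _root_.Matrix.cons_val_fin_one] using (congrFun (congrFun hc 0) 0).symm
    · simpa only [bl, _root_.Fin.zero_eta, _root_.Fin.isValue, _root_.Fin.mk_one, _root_.Matrix.of_apply, _root_.Matrix.cons_val', _root_.Matrix.cons_val_one, _root_.Matrix.cons_val_zero, _root_.Matrix.cons_val_fin_one] using (congrFun (congrFun hc 0) 1).symm
    · simpa only [bl, _root_.Fin.mk_one, _root_.Fin.isValue, _root_.Fin.zero_eta, _root_.Matrix.of_apply, _root_.Matrix.cons_val', _root_.Matrix.cons_val_zero, _root_.Matrix.cons_val_fin_one, _root_.Matrix.cons_val_one] using (congrFun (congrFun hc 1) 0).symm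
    · simpa only [bl, _root_.Fin.mk_one, _root_.Fin.isValue, _root_.Matrix.of_apply, _root_.Matrix.cons_val', _root_.Matrix.cons_val_one, _root_.Matrix.cons_val_zero, _root_.Matrix.cons_val_fin_one] using (congrFun (congrFun hc 1) 1).symm
  have hx : orderOf (θ X) = 5 := by
    have h5 : Nat.Prime 5 := by norm_num
    have : Fact (Nat.Prime 5) := ⟨h5⟩
    refine orderOf_eq_prime ?_ ?_
    · rw [← map_pow, hX5, map_one]
    · intro h
      have h3 := hθi X 1 (by rw [h, map_one])
      rw [hX] at h3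
      have h4 := congrFun (congrFun h3 0) 0
      simp at h4
  refine hA.not_of_prime_aut hs hc f (p := 5) (by norm_num) hx ?_ θ.range ?_ (fun α hα => aut_inv hX5 ?_ α hα)
    (m := θ (uu F)) ⟨_, rfl⟩ ?_
  · rw [card_three 2 le_rfl, Lib.FieldAutCard.card_ringAut (p := 2) (f := 2) (by norm_num) (by rw [hF]; norm_num)]
    have h3 := ClassicalGeometry.PSL2Basic.card_PGL_mul (Fin 3) F
    rw [Matrix.card_GL_field, hF, Fin.prod_univ_three] at h3
    norm_num only [_root_.Fin.coe_ofNat_eq_mod, _root_.pow_zero, _root_.Nat.add_one_sub_one, _root_.pow_one] at h3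
    have h4 : Nat.card (Matrix.ProjGenLinGroup (Fin 3) F) = 60480 := by omega
    rw [h4]
    norm_num
  · intro h
    obtain ⟨T, hT⟩ : ∃ T : Matrix.SpecialLinearGroup (Fin 3) F, T.1 = !![1, 0, 1; 0, 1, 0; 0, 0, 1] :=
      ⟨⟨!![1, 0, 1; 0, 1, 0; 0, 0, 1], by rw [det_fin_three]; simp⟩, rfl⟩
    have h3 : pr T ∈ θ.range := by rw [h]; exact mem_top _
    obtain ⟨Z, hZ⟩ := h3
    obtain ⟨c, hc⟩ := exists_smul_of_pr_eq hZ
    rw [hT, blh_coe] at hc
    have h4 := congrFun (congrFun hc 0) 2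
    simp [bl] at h4
  · have h3 : X 0 0 = 0 := by
      rw [hX]; simp
    have h4 : X 1 1 = w := by
      rw [hX]; simp
    rw [h3, h4, zero_add, h2]
    exact hw0
  · rw [← map_inv, ← map_mul, ← map_mul]
    intro h
    obtain ⟨k, hk⟩ := mem_powers_iff_mem_zpowers.2 h
    have hk' : θ (X ^ (k % 5)) = θ (uu F * X * (uu F)⁻¹) := by
      rw [← hk]
      have h3 : X ^ (k % 5) = X ^ k := by
        conv_rhs => rw [← Nat.div_add_mod k 5, pow_add, pow_mul, hX5, one_pow, one_mul]
      rw [h3, map_pow]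
    have h3 := hθi _ _ hk'
    have h4 : (uu F * X * (uu F)⁻¹).1 = !![1, w; 1, 1 + w] := by
      have h5 : (uu F * X * (uu F)⁻¹).1 = !![1, 1; 0, 1] * X.1 * (uu F)⁻¹.1 := rfl
      have h6 : (uu F)⁻¹.1 = !![1, -1; 0, 1] := by
        rw [Matrix.SpecialLinearGroup.coe_inv, uu_coe, adjugate_fin_two]
        simp
      rw [h5, hX, h6, hneg]
      ext i j
      (revert i j; simp only [Matrix.mul_apply, Fin.sum_univ_two, _root_.Fin.forall_fin_succ, _root_.Matrix.cons_mul, _root_.Nat.succ_eq_add_one, Nat.reduceAdd, _root_.Matrix.vecMul_cons, _root_.Matrix.head_cons, _root_.one_smul, _root_.Matrix.tail_cons, _root_.Matrix.empty_vecMul, _root_.add_zero, _root_.Matrix.add_cons, _root_.zero_add, _root_.Matrix.empty_add_empty, _root_.zero_smul, _root_.Matrix.empty_mul, _root_.Equiv.symm_apply_apply, _root_.Matrix.of_apply, _root_.Matrix.cons_val', _root_.Matrix.cons_val_fin_one, Fin.isValue, _root_.Matrix.cons_val_zero, _root_.Matrix.cons_val_one, _root_.mul_one, _root_.MulZeroClass.mul_zero,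 _root_.Matrix.cons_val_succ, _root_.forall_const, _root_.implies_true, _root_.and_true, _root_.true_and]) <;> (repeat' with_reducible apply And.intro)
      linear_combination h2
    rw [h4] at h3
    have h5 : k % 5 < 5 := Nat.mod_lt _ (by norm_num)
    interval_cases k % 5
    · rw [pow_zero] at h3
      have h6 := congrFun (congrFun h3 1) 0
      simp at h6
    · rw [pow_one, hX] at h3
      have h6 := congrFun (congrFun h3 0) 0
      simp at h6
    · rw [hX2] at h3
      have h6 := congrFun (congrFun h3 1) 0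
      simp at h6
      exact hw1 h6
    · rw [hX3] at h3
      have h6 := congrFun (congrFun h3 1) 0
      simp at h6
      exact hw1 h6
    · rw [hX4] at h3
      have h6 := congrFun (congrFun h3 0) 0
      simp at h6
      exact hw1 h6

theorem row_psl_three [Finite F] : Row.{u} (Matrix.ProjectiveSpecialLinearGroup (Fin 3) F) := by
  have := Fintype.ofFinite F
  obtain ⟨p, hp⟩ := CharP.exists F
  have hpf : Fact p.Prime := ⟨CharP.char_is_prime F p⟩
  have hFF : Nat.card F = Fintype.card F := Nat.card_eq_fintype_card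
  by_cases h : 1 < (Nat.card F - 1) / Nat.gcd (Nat.card F - 1) 3
  · exact Row.of_kill (Three.kill_PSL p h)
  · have h1 : 1 < Fintype.card F := Fintype.one_lt_card
    have h2 : Nat.gcd (Nat.card F - 1) 3 ∣ 3 := Nat.gcd_dvd_right _ _
    have h3 : Nat.card F = 2 ∨ Nat.card F = 4 := by
      rcases (Nat.dvd_prime Nat.prime_three).1 h2 with h4 | h4
      · rw [h4, Nat.div_one] at h
        omega
      · obtain ⟨c, hc⟩ : 3 ∣ Nat.card F - 1 := by
          rw [← h4]
          exact Nat.gcd_dvd_left _ _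
        rw [h4, hc, Nat.mul_div_cancel_left _ (by norm_num)] at h
        omega
    rcases h3 with h3 | h3
    · have h7 : Fact (Nat.Prime 7) := ⟨by norm_num⟩
      obtain ⟨e⟩ := S0255.result (F := ZMod 7) (K := F) (by simp [ZMod.card]) (by rw [← hFF, h3])
      exact Row.congr e (PslTwo.row_psl_two (by rw [Nat.card_zmod]; norm_num))
    · exact row_four (by rw [← hFF, h3])

end Cfsg.Agent.H480.PslThree
end

-- part: H480/LieHigh
section
/-!
# Nilpotent minimal covers: groups of Lie type of rank at least three (helper480, S3925, S3926)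
-/

set_option autoImplicit false
set_option linter.unusedSectionVars false

namespace Cfsg.Agent.H480.Fr

open Cfsg
open CoxeterSystem Cfsg.Agent.ChevalleyStructure.CoxeterGeom Cfsg.Agent.Tits.Roots Cfsg.Agent.Tits.Core
  Cfsg.Agent.Nodes.Comb Cfsg.Agent.Nodes.Reps Cfsg.Agent.Nodes.BNOf Cfsg.Agent.FixBN
  Cfsg.Agent.Nodes.RGDLib Cfsg.Agent.Nodes.RGDChev Cfsg.Agent.LieRecognition.BNCox
  Cfsg.Agent.TitsThree Cfsg.Agent.Omega.ML.Ex.Typ

universe u v

/-- the form used below -/
def High (p : ℕ) (S : Type v) [Group S] : Prop :=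
  ∃ (l : ℕ) (M : CoxeterMatrix (Fin l)) (i j : Fin l), Leaf M i ∧ ¬ Leaf M j ∧ HasRGDT p M S

theorem High.of_equiv {p : ℕ} {G H : Type*} [Group G] [Group H] (e : G ≃* H) (h : High p G) : High p H := by
  obtain ⟨l, M, i, j, hi, hj, hR⟩ := h
  exact ⟨l, M, i, j, hi, hj, hR.of_equiv e⟩

theorem High.row {p : ℕ} [Fact p.Prime] {S : Type v} [Group S] (h : High p S) : Row.{u} S := by
  obtain ⟨l, M, i, j, hi, hj, hR⟩ := h
  intro G _ _ K hK hs hna hc hcyc f 𝓐 hA
  exact not_nmc_of_hasRGDT hK (hR.of_equiv f) hi hj hA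

theorem not_leaf {I : Type*} {M : CoxeterMatrix I} {i a b : I} (hab : a ≠ b) (ha : a ≠ i) (hb : b ≠ i)
    (h1 : M i a ≠ 2) (h2 : M i b ≠ 2) : ¬ Leaf M i := by
  rintro ⟨j, hj⟩
  exact hab ((hj a ha h1).trans (hj b hb h2).symm)

/-! ### the diagrams -/

theorem leaf_A {n : ℕ} (hn : 3 ≤ n) : Leaf (cA n) ⟨0, by omega⟩ ∧ ¬ Leaf (cA n) ⟨1, by omega⟩ := by
  constructor
  · refine ⟨⟨1, by omega⟩, fun k hk hM => ?_⟩
    rw [cA_apply] at hM
    unfold LieRecognition.CoxClass.mA at hM
    simp only [Fin.ext_iff, ne_eq] at hk ⊢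
    simp only at hM
    by_contra h1
    apply hM
    rw [if_neg (by omega), if_neg (by omega)]
  · refine not_leaf (a := ⟨0, by omega⟩) (b := ⟨2, by omega⟩) ?_ ?_ ?_ ?_ ?_
    · simp [Fin.ext_iff]
    · simp [Fin.ext_iff]
    · simp [Fin.ext_iff]
    · rw [cA_apply]; simp [LieRecognition.CoxClass.mA]
    · rw [cA_apply]; simp [LieRecognition.CoxClass.mA]

theorem B_apply {n : ℕ} {i j : Fin n} (hij : i ≠ j) : CoxeterMatrix.B n i j =
    if (i : ℕ) = n - 1 ∧ (j : ℕ) = n - 2 ∨ (j : ℕ) = n - 1 ∧ (i : ℕ) = n - 2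
      then 4 else (if (j : ℕ) + 1 = i ∨ (i : ℕ) + 1 = j then 3 else 2) := by
  show (if i = j then 1 else _) = _
  rw [if_neg hij]

theorem leaf_B {n : ℕ} (hn : 3 ≤ n) :
    Leaf (CoxeterMatrix.B n) ⟨0, by omega⟩ ∧ ¬ Leaf (CoxeterMatrix.B n) ⟨1, by omega⟩ := by
  constructor
  · refine ⟨⟨1, by omega⟩, fun k hk hM => ?_⟩
    rw [B_apply (Ne.symm hk)] at hM
    simp only [Fin.ext_iff, ne_eq] at hk ⊢
    simp only at hM
    by_contra h1
    apply hM
    rw [if_neg (by omega), if_neg (by omega)]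
  · refine not_leaf (a := ⟨0, by omega⟩) (b := ⟨2, by omega⟩) ?_ ?_ ?_ ?_ ?_
    · simp [Fin.ext_iff]
    · simp [Fin.ext_iff]
    · simp [Fin.ext_iff]
    · rw [B_apply (by simp [Fin.ext_iff])]
      simp only
      rw [if_neg (by omega), if_pos (Or.inl trivial)]
      decide
    · rw [B_apply (by simp [Fin.ext_iff])]
      simp only
      by_cases h : n = 3
      · rw [if_pos (by omega)]; decide
      · rw [if_neg (by omega), if_pos (Or.inr trivial)]; decide

theorem leaf_D (n : ℕ) : Leaf (Nodes.TypeD.M (n + 2)) ⟨0, by omega⟩ ∧ ¬ Leaf (Nodes.TypeD.M (n + 2)) ⟨1, by omega⟩ := by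
  constructor
  · refine ⟨⟨1, by omega⟩, fun k hk hM => ?_⟩
    by_contra h1
    apply hM
    have hk' : (k : ℕ) ≠ 0 := fun h => hk (Fin.ext h)
    have h1' : (k : ℕ) ≠ 1 := fun h => h1 (Fin.ext h)
    rw [Nodes.TypeD.M_apply, if_neg (fun h => hk h.symm), if_neg (by simp only [Nodes.TypeD.Adj]; omega)]
  · refine not_leaf (a := ⟨0, by omega⟩) (b := ⟨2, by omega⟩) ?_ ?_ ?_ ?_ ?_
    · simp [Fin.ext_iff]
    · simp [Fin.ext_iff]
    · simp [Fin.ext_iff]
    · rw [Nodes.TypeD.M_apply, if_neg (by simp), if_pos (by unfold Nodes.TypeD.Adj; simp)]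
      decide
    · rw [Nodes.TypeD.M_apply, if_neg (by simp), if_pos (by unfold Nodes.TypeD.Adj; simp only [_root_.lt_add_iff_pos_left, _root_.Order.lt_add_one_iff, _root_.zero_le, _root_.Nat.reduceAdd, _root_.and_self, _root_.Nat.right_eq_add, _root_.Nat.add_eq_zero_iff, _root_.one_ne_zero, _root_.and_false, _root_.Nat.succ_ne_self, _root_.or_false, _root_.add_pos_iff, _root_.Order.lt_two_iff, _root_.or_true, _root_.OfNat.ofNat_ne_one, _root_.OfNat.ofNat_ne_zero, _root_.or_self])]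
      decide

set_option backward.isDefEq.respectTransparency false in
theorem leaf_F : Leaf CoxeterMatrix.F₄ 0 ∧ ¬ Leaf CoxeterMatrix.F₄ 1 :=
  ⟨⟨1, by decide +kernel⟩, not_leaf (a := 0) (b := 2) (by decide) (by decide) (by decide) (by decide +kernel)
    (by decide +kernel)⟩

set_option backward.isDefEq.respectTransparency false in
theorem leaf_E6 : Leaf CoxeterMatrix.E₆ 0 ∧ ¬ Leaf CoxeterMatrix.E₆ 2 :=
  ⟨⟨2, by decide +kernel⟩, not_leaf (a := 0) (b := 3) (by decide) (by decide) (by decide) (by decide +kernel)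
    (by decide +kernel)⟩

set_option backward.isDefEq.respectTransparency false in
theorem leaf_E7 : Leaf CoxeterMatrix.E₇ 0 ∧ ¬ Leaf CoxeterMatrix.E₇ 2 :=
  ⟨⟨2, by decide +kernel⟩, not_leaf (a := 0) (b := 3) (by decide) (by decide) (by decide) (by decide +kernel)
    (by decide +kernel)⟩

set_option backward.isDefEq.respectTransparency false in
theorem leaf_E8 : Leaf CoxeterMatrix.E₈ 0 ∧ ¬ Leaf CoxeterMatrix.E₈ 2 :=
  ⟨⟨2, by decide +kernel⟩, not_leaf (a := 0) (b := 3) (by decide) (by decide) (by decide) (by decide +kernel)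
    (by decide +kernel)⟩

theorem high_B {p m : ℕ} {S : Type*} [Group S] (hm : 3 ≤ m) (h : HasRGDT p (CoxeterMatrix.B m) S) : High p S :=
  ⟨m, _, _, _, (leaf_B hm).1, (leaf_B hm).2, h⟩

/-! ### orthogonal groups of odd dimension -/

section Orthogonal

open QuadraticMap
open Cfsg.Agent.LieClassical Cfsg.Agent.LieClassical.OrthCore Cfsg.Agent.LieClassical.OrthTrans
open Cfsg.Agent.LieClassical.OrthSimple Cfsg.Agent.LieClassical.OrthFinite
open Cfsg.Agent.LieClassical.OrthForms
open Cfsg.Agent.TitsThree.KSideO Cfsg.Agent.TitsThree.StdData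
open Cfsg.Agent.Nodes Cfsg.Agent.Nodes.WittAll Cfsg.Agent.Nodes.WittU Cfsg.Agent.Nodes.WittInst
  Cfsg.Agent.TitsThree.Siegel Cfsg.Agent.TitsThree.SiegelGen
  Cfsg.Agent.TitsThree.WittFrame Cfsg.Agent.TitsThree.WBridge Cfsg.Agent.TitsThree.WittWeyl
  Cfsg.Agent.TitsThree.FrameCN

theorem typ_PO_odd (F : Type*) [Field F] [Finite F] (h2 : (2 : F) ≠ 0) {m : ℕ} (hm : 2 ≤ m) {p : ℕ} [Fact p.Prime]
    [CharP F p] : HasRGDT p (CoxeterMatrix.B m) (Cfsg.POmega F (Cfsg.quadFormOdd m F)) := by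
  rw [← coe_oddForm]
  have hG : _root_.Cfsg.Agent.LieClassical.OrthTrans.Good (oddForm m F) := by
    apply good_of_finite (nondeg_oddForm m F h2)
    rw [Module.finrank_fintype_fun_eq_card, Fintype.card_sum, Fintype.card_sum, Fintype.card_fin,
      Fintype.card_unit]
    omega
  have hp : ((embOdd m F).ngt ⟨1, -1 ^ 2, rfl⟩).c ≠ 0 := by
    change (1 : F)⁻¹ * (-1 ^ 2) ≠ 0
    simp
  exact typ_C (model (wodd m F) hG ⟨_, hp⟩) (AmbT.of_amb (amb_O_of_two _ h2) p) hp (by omega)

end Orthogonal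

/-! ### the families -/

theorem high_PSL {F : Type} [Field F] [Finite F] {p : ℕ} [Fact p.Prime] [CharP F p] {n : ℕ} (hn : 4 ≤ n) :
    High p (Matrix.ProjectiveSpecialLinearGroup (Fin n) F) := by
  obtain ⟨n, rfl⟩ : ∃ k, n = k + 1 := ⟨n - 1, by omega⟩
  exact ⟨n, _, _, _, (leaf_A (by omega)).1, (leaf_A (by omega)).2, typ_PSL n⟩

theorem high_PSp {F : Type} [Field F] [Finite F] {p : ℕ} [Fact p.Prime] [CharP F p] {m : ℕ} (hm : 3 ≤ m) :
    High p (PSp m F) := high_B hm (typ_PSp (by omega))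

theorem high_PSU {F : Type} [Field F] [Fintype F] {p : ℕ} [Fact p.Prime] [CharP F p] {n q : ℕ}
    (hF : Fintype.card F = q ^ 2) (hn : 6 ≤ n) : High p (PSU n F q) := by
  obtain ⟨m, hm, h⟩ := typ_PSU (p := p) hF (show 3 ≤ n by omega)
  exact high_B (by omega) h

theorem high_POmegaOdd {p : ℕ} {G : Type*} [Group G] (h : IsPOmegaOddChar p G) : High p G := by
  obtain ⟨F, _, _, _, m, hm, hodd, ⟨e⟩⟩ := h
  have : Fact p.Prime := Nodes.RGDClass.fact_prime (F := F)
  have h2 : (2 : F) ≠ 0 := by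
    intro h0
    have h1 : p ∣ 2 := (CharP.cast_eq_zero_iff F p 2).1 (by exact_mod_cast h0)
    have h3 := (Nat.prime_dvd_prime_iff_eq Fact.out Nat.prime_two).1 h1
    subst h3
    obtain ⟨k, -, hk⟩ := FiniteField.card F 2
    rw [hk] at hodd
    exact absurd hodd (by
      rw [Nat.not_odd_iff_even]
      exact (even_two).pow_of_ne_zero k.ne_zero)
  exact high_B hm ((typ_PO_odd F h2 (by omega)).of_equiv e.symm)

theorem high_POmegaPlus {p : ℕ} {G : Type*} [Group G] (h : IsPOmegaPlusChar p G) : High p G := by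
  obtain ⟨F, _, _, _, m, hm, ⟨e⟩⟩ := h
  have : Fact p.Prime := Nodes.RGDClass.fact_prime (F := F)
  obtain ⟨n, rfl⟩ : ∃ n, m = (n + 1) + 3 := ⟨m - 4, by omega⟩
  exact ⟨_, _, _, _, (leaf_D n).1, (leaf_D n).2, (typ_PO_plus (n + 1)).of_equiv e.symm⟩

theorem high_POmegaMinus {p : ℕ} {G : Type*} [Group G] (h : IsPOmegaMinusChar p G) : High p G := by
  obtain ⟨F, _, _, _, m, a, b, hm, hab, ⟨e⟩⟩ := h
  have : Fact p.Prime := Nodes.RGDClass.fact_prime (F := F)
  exact high_B (by omega) ((typ_PO_minus hab (by omega)).of_equiv e.symm)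

theorem high_twE6 {K : Type*} [Field K] [Fintype K] {q : ℕ} (hq : IsPrimePow q) (hK : Fintype.card K = q ^ 2)
    (p : ℕ) [CharP K p] : High p ↥(Lie.twistedE6 K q) :=
  ⟨_, _, _, _, leaf_F.1, leaf_F.2, typ_twE6 hq hK p⟩

end Cfsg.Agent.H480.Fr
end

-- part: H480/UThree
section
/-!
# Nilpotent minimal covers: `PSU₃(q)` (helper480, S3925, S3926)
-/

set_option autoImplicit false
set_option linter.unusedSectionVars false
set_option linter.unusedSimpArgs false

namespace Cfsg.Agent.H480.Three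

open Subgroup Matrix Cfsg Cfsg.Agent.LieClassical.HermBasic

section gram

variable {F : Type*} [Field F] (σ : F →+* F)

/-- the change of basis -/
def mp (s t : F) : Matrix (Fin 3) (Fin 3) F := !![1, 0, 0; 0, 1, 1 + s; 0, t, s * t]
/-- the Gram matrix -/
def mg (F : Type*) [Field F] : Matrix (Fin 3) (Fin 3) F := !![1, 0, 0; 0, 0, 1; 0, 1, 0]

theorem gram {s t : F} (hs : s + σ s = -1) (ht : t * σ t = -1) : (mp s t)ᵀ * (mp s t).map σ = mg F := by
  ext i j
  (revert i j; simp only [mp, mg, Matrix.mul_apply, Fin.sum_univ_three, _root_.Fin.forall_fin_succ, _root_.Matrix.transpose_apply, _root_.Matrix.of_apply, _root_.Matrix.cons_val', _root_.Matrix.cons_val_fin_one, _root_.Matrix.map_apply, Fin.isValue, _root_.Matrix.cons_val_zero, _root_.Matrix.cons_val_one, _root_.Matrix.cons_val, _root_.map_one, _root_.mul_one, _root_.map_zero, _root_.MulZeroClass.mul_zero, _root_.add_zero, _root_.Matrix.cons_val_succ, _root_.zero_add, _root_.map_add, _root_.map_mul, _root_.forall_const,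 _root_.MulZeroClass.zero_mul, _root_.one_mul, _root_.and_true, _root_.true_and]) <;> (repeat' with_reducible apply And.intro)
  · linear_combination ht
  · linear_combination σ s * ht
  · linear_combination s * ht
  · linear_combination hs + s * σ s * ht

theorem det_mp (s t : F) : (mp s t).det = -t := by
  simp only [mp, det_fin_three, _root_.Fin.isValue, _root_.Matrix.of_apply, _root_.Matrix.cons_val', _root_.Matrix.cons_val_zero, _root_.Matrix.cons_val_fin_one, _root_.Matrix.cons_val_one, _root_.mul_one, _root_.Matrix.cons_val, _root_.one_mul, _root_.MulZeroClass.mul_zero, _root_.MulZeroClass.zero_mul, _root_.sub_zero, _root_.add_zero]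
  ring

theorem gram_md {e : F} (he : e + σ e = 0) : (md e)ᵀ * mg F * (md e).map σ = mg F := by
  ext i j
  (revert i j; simp only [md, mg, Matrix.mul_apply, Fin.sum_univ_three, _root_.Fin.forall_fin_succ, _root_.Matrix.transpose_apply, _root_.Matrix.of_apply, _root_.Matrix.cons_val', _root_.Matrix.cons_val_fin_one, Fin.isValue, _root_.Matrix.cons_val_zero, _root_.Matrix.cons_val_one, _root_.Matrix.cons_val, _root_.Matrix.map_apply, _root_.mul_one, _root_.MulZeroClass.mul_zero, _root_.add_zero, _root_.zero_add, _root_.map_one, _root_.map_zero, _root_.Matrix.cons_val_succ, _root_.forall_const, _root_.MulZeroClass.zero_mul, _root_.one_mul, _root_.and_true, _root_.true_and]) <;> (repeat' with_reducible apply And.intro)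
  linear_combination he

theorem gram_mw {e : F} (h0 : e ≠ 0) (he : e + σ e = 0) : (mw e)ᵀ * mg F * (mw e).map σ = mg F := by
  have h1 : σ e = -e := by linear_combination he
  ext i j
  (revert i j; simp only [mw, mg, Matrix.mul_apply, Fin.sum_univ_three, h1, h0, _root_.Fin.forall_fin_succ, _root_.Matrix.transpose_apply, _root_.Matrix.of_apply, _root_.Matrix.cons_val', _root_.Matrix.cons_val_fin_one, Fin.isValue, _root_.Matrix.cons_val_zero, _root_.Matrix.cons_val_one, _root_.Matrix.cons_val, _root_.Matrix.map_apply, _root_.mul_one, _root_.MulZeroClass.mul_zero, _root_.add_zero, _root_.zero_add, _root_.map_one, _root_.map_zero, _root_.Matrix.cons_val_succ, _root_.map_neg, _root_.map_inv₀, _root_.inv_neg, _root_.neg_neg, _root_.mul_neg, _root_.forall_const, _root_.MulZeroClass.zero_mul, _root_.neg_zero, _root_.and_self, _root_.neg_mul, _root_.ne_eq, _root_.not_false_eq_true, _root_.inv_mul_cancel₀, _root_.mul_inv_cancel₀, _root_.implies_true])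

theorem gram_mz {y : F} (h0 : y ≠ 0) (hy : y * σ y = 1) : (mz y)ᵀ * mg F * (mz y).map σ = mg F := by
  have h1 : σ y = y⁻¹ := eq_inv_of_mul_eq_one_right hy
  ext i j
  (revert i j; simp only [mz, mg, Matrix.mul_apply, Fin.sum_univ_three, h1, h0, _root_.Fin.forall_fin_succ, _root_.Matrix.transpose_apply, _root_.Matrix.of_apply, _root_.Matrix.cons_val', _root_.Matrix.cons_val_fin_one, Fin.isValue, _root_.Matrix.cons_val_zero, _root_.Matrix.cons_val_one, _root_.Matrix.cons_val, _root_.Matrix.map_apply, _root_.mul_one, _root_.MulZeroClass.mul_zero, _root_.add_zero, _root_.zero_add, _root_.map_inv₀, _root_.map_pow, _root_.inv_pow, _root_.inv_inv, _root_.map_zero, _root_.Matrix.cons_val_succ, _root_.forall_const, _root_.ne_eq, _root_.OfNat.ofNat_ne_zero, _root_.not_false_eq_true, _root_.pow_eq_zero_iff, _root_.inv_mul_cancel₀, _root_.MulZeroClass.zero_mul, _root_.and_self, _root_.mul_inv_cancel₀, _root_.implies_true])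

variable {σ} in
/-- conjugates of isometries of the Gram form -/
theorem conj_iso {P G M : Matrix (Fin 3) (Fin 3) F} (hP : IsUnit P.det) (hG : Pᵀ * P.map σ = G)
    (hM : Mᵀ * G * M.map σ = G) : (P * M * P⁻¹)ᵀ * (P * M * P⁻¹).map σ = 1 := by
  have h1 : P * P⁻¹ = 1 := Matrix.mul_nonsing_inv P hP
  have h2 : P⁻¹ᵀ * Pᵀ = 1 := by rw [← transpose_mul, h1, transpose_one]
  have h3 : P.map σ * P⁻¹.map σ = 1 := by
    rw [← Matrix.map_mul, h1, Matrix.map_one σ (map_zero σ) (map_one σ)]
  rw [transpose_mul, transpose_mul, Matrix.map_mul, Matrix.map_mul]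
  calc P⁻¹ᵀ * (Mᵀ * Pᵀ) * (P.map σ * M.map σ * P⁻¹.map σ)
      = P⁻¹ᵀ * (Mᵀ * (Pᵀ * P.map σ) * M.map σ) * P⁻¹.map σ := by simp only [mul_assoc]
    _ = P⁻¹ᵀ * (Pᵀ * P.map σ) * P⁻¹.map σ := by rw [hG, hM]
    _ = (P⁻¹ᵀ * Pᵀ) * (P.map σ * P⁻¹.map σ) := by simp only [mul_assoc]
    _ = 1 := by rw [h2, h3, mul_one]

end gram

variable {F : Type*} [Field F] [Fintype F] {q : ℕ}

/-- the representation in the new basis -/
noncomputable def rhoSU (q : ℕ) (P : Matrix (Fin 3) (Fin 3) F) (hP : IsUnit P.det) : SU 3 F q →* Matrix (Fin 3) (Fin 3) F where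
  toFun g := P⁻¹ * ((g : Matrix.SpecialLinearGroup (Fin 3) F) : Matrix (Fin 3) (Fin 3) F) * P
  map_one' := by
    simp only [Matrix.nonsing_inv_mul P hP, _root_.OneMemClass.coe_one, _root_.Matrix.SpecialLinearGroup.coe_one, _root_.mul_one]
  map_mul' g h := by
    simp only [Subgroup.coe_mul, Matrix.SpecialLinearGroup.coe_mul]
    have h1 : P * P⁻¹ = 1 := Matrix.mul_nonsing_inv P hP
    calc P⁻¹ * (((g : Matrix.SpecialLinearGroup (Fin 3) F) : Matrix (Fin 3) (Fin 3) F) *
          ((h : Matrix.SpecialLinearGroup (Fin 3) F) : Matrix (Fin 3) (Fin 3) F)) * P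
        = P⁻¹ * ((g : Matrix.SpecialLinearGroup (Fin 3) F) : Matrix (Fin 3) (Fin 3) F) * (P * P⁻¹) *
          ((h : Matrix.SpecialLinearGroup (Fin 3) F) : Matrix (Fin 3) (Fin 3) F) * P := by
            rw [h1, mul_one]; simp only [mul_assoc]
      _ = _ := by simp only [mul_assoc]

/-- the element of `SU₃` with a given matrix in the new basis -/
theorem exists_elt {σ : F →+* F} (hσ : ∀ x, σ x = x ^ q) {P M : Matrix (Fin 3) (Fin 3) F} (hP : IsUnit P.det)
    (hG : Pᵀ * P.map σ = mg F) (hM : Mᵀ * mg F * M.map σ = mg F) (hdet : M.det = 1) :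
    ∃ g : SU 3 F q, rhoSU q P hP g = M := by
  have h1 : P * P⁻¹ = 1 := Matrix.mul_nonsing_inv P hP
  have h1' : P⁻¹ * P = 1 := Matrix.nonsing_inv_mul P hP
  have hd : (P * M * P⁻¹).det = 1 := by
    rw [det_mul, det_mul, hdet, mul_one, ← det_mul, h1, det_one]
  refine ⟨⟨⟨P * M * P⁻¹, hd⟩, (H155.Unit.mem_SU_iff_matrix σ hσ _).2 (conj_iso hP hG hM)⟩, ?_⟩
  change P⁻¹ * (P * M * P⁻¹) * P = M
  calc P⁻¹ * (P * M * P⁻¹) * P = (P⁻¹ * P) * M * (P⁻¹ * P) := by simp only [mul_assoc]
    _ = M := by rw [h1', one_mul, mul_one]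

theorem kill_PSU (hF : Fintype.card F = q ^ 2) (h3 : 3 ≤ q) : Kill (PSU 3 F q) := by
  obtain ⟨p, k, hp, hch, hqp, hk⟩ := exists_prime_pow hF
  have hfp : Fact p.Prime := ⟨hp⟩
  set σ : F →+* F := (conj hF : F →+* F) with hσdef
  have hσ : ∀ x, σ x = x ^ q := fun x => conj_apply hF x
  -- the basis
  obtain ⟨s, hs⟩ := exists_trace_eq hF (c := -1) (by rw [neg_pow_q hF, one_pow])
  obtain ⟨t, ht⟩ := _root_.Cfsg.Agent.LieClassical.HermBasic.exists_norm_eq hF (c := -1) (by rw [neg_pow_q hF, one_pow])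
  rw [← hσ] at hs ht
  have ht0 : t ≠ 0 := by
    rintro rfl
    simp at ht
  have hG := gram σ hs ht
  have hP : IsUnit (mp s t).det := by
    rw [det_mp]
    exact (neg_ne_zero.2 ht0).isUnit
  obtain ⟨e, he0, he⟩ := exists_trace_zero_ne hF
  rw [← hσ] at he
  -- the root of unity
  have hcu := card_units_eq hF
  have hlt : 1 < (q + 1) / Nat.gcd (q + 1) 3 := by
    have h1 : Nat.gcd (q + 1) 3 ∣ 3 := Nat.gcd_dvd_right _ _
    have h2 : Nat.gcd (q + 1) 3 ∣ q + 1 := Nat.gcd_dvd_left _ _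
    rcases (Nat.dvd_prime Nat.prime_three).1 h1 with h | h
    · rw [h, Nat.div_one]; omega
    · rw [h] at h2 ⊢; omega
  obtain ⟨r, hr, hrm, y, hy1, hy⟩ := exists_root (F := F) (m := q + 1) (by rw [hcu]; exact dvd_mul_right _ _) hlt
  have hy0 : y ≠ 0 := by
    rintro rfl
    have := hy.pow_eq_one
    simp [hr.ne_zero] at this
  have hyσ : y * σ y = 1 := by
    rw [hσ, ← hy1, pow_succ, mul_comm]
  have hrp : r ≠ p := by
    rintro rfl
    have h1 : r ∣ q := by rw [hqp]; exact dvd_pow_self r hk.ne'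
    exact hr.one_lt.ne' (Nat.dvd_one.1 ((Nat.dvd_add_right h1).1 hrm))
  obtain ⟨z, hz⟩ := exists_elt hσ hP hG (gram_mz σ hy0 hyσ) (det_mz hy0)
  obtain ⟨d, hd⟩ := exists_elt hσ hP hG (gram_md σ he) (det_md e)
  obtain ⟨w, hw⟩ := exists_elt hσ hP hG (gram_mw σ he0 he) (det_mw he0)
  refine kill_three (rhoSU q (mp s t) hP) ?_ ?_ ?_ hr hrp hy he0 hz hd hw
  · intro g h hgh
    have h1 : mp s t * (mp s t)⁻¹ = 1 := Matrix.mul_nonsing_inv _ hP
    change (mp s t)⁻¹ * ((g : Matrix.SpecialLinearGroup (Fin 3) F) : Matrix (Fin 3) (Fin 3) F) * mp s t =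
      (mp s t)⁻¹ * ((h : Matrix.SpecialLinearGroup (Fin 3) F) : Matrix (Fin 3) (Fin 3) F) * mp s t at hgh
    apply Subtype.ext
    apply Subtype.ext
    have h2 := congrArg (fun X => mp s t * X * (mp s t)⁻¹) hgh
    beta_reduce at h2
    have h3 : ∀ X : Matrix (Fin 3) (Fin 3) F, mp s t * ((mp s t)⁻¹ * X * mp s t) * (mp s t)⁻¹ = X := by
      intro X
      calc mp s t * ((mp s t)⁻¹ * X * mp s t) * (mp s t)⁻¹ = (mp s t * (mp s t)⁻¹) * X * (mp s t * (mp s t)⁻¹) := by
            simp only [mul_assoc]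
        _ = X := by rw [h1, one_mul, mul_one]
    rw [h3, h3] at h2
    exact h2
  · intro g
    change ((mp s t)⁻¹ * ((g : Matrix.SpecialLinearGroup (Fin 3) F) : Matrix (Fin 3) (Fin 3) F) * mp s t).det ≠ 0
    rw [det_mul, det_mul, mul_comm, ← mul_assoc, ← det_mul, Matrix.mul_nonsing_inv _ hP, det_one, one_mul, g.1.2]
    exact one_ne_zero
  · intro g hg
    obtain ⟨c, hcn, hcq, rfl⟩ := (LieClassical.SUBasic.mem_center_SU_iff hF le_rfl g).1 hg
    refine ⟨c, ?_⟩
    change (mp s t)⁻¹ * (((LieClassical.SUBasic.suScalar q c hcn hcq : SU 3 F q) :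
      Matrix.SpecialLinearGroup (Fin 3) F) : Matrix (Fin 3) (Fin 3) F) * mp s t = _
    rw [LieClassical.SUBasic.coe_suScalar]
    have h4 : (Matrix.diagonal fun _ => c : Matrix (Fin 3) (Fin 3) F) = c • 1 := by
      ext i j
      simp [Matrix.diagonal_apply, Matrix.one_apply]
    rw [h4, mul_smul_comm, smul_mul_assoc, mul_one, Matrix.nonsing_inv_mul _ hP]

end Cfsg.Agent.H480.Three
end

-- part: H480/TwF4
section
/-!
# Nilpotent minimal covers: `²F₄(q)`, `q ≥ 8` (helper480, S3925, S3926)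
-/

set_option autoImplicit false
set_option linter.unusedSectionVars false

namespace Cfsg.Agent.H480.Fr

open Cfsg.Lie Cfsg.Agent.ParSys.Fam.TwoFFour
open Cfsg.Agent.ChevalleyStructure.TwF4.Tables
open Cfsg.Agent.ChevalleyStructure.TwF4.Rel
open Cfsg.Agent.ChevalleyStructure.TwF4.Groups Cfsg.Agent.ChevalleyStructure.TwF4.RankOne
open Cfsg.Agent.ChevalleyStructure.TwF4.Twisted Cfsg.Agent.ChevalleyStructure.TwF4.TwistedFix
open Cfsg.Agent.ChevalleyStructure.TwF4.BN
open Cfsg.Agent.ChevalleyStructure.TwF4.Torus (T chi T_conj_X T_inr chi_def)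
open Cfsg.Agent.ChevalleyStructure.TwF4.TwGen (tc tc_mul chi_tc_24 chi_tc_25 chi_tc_33 chi_tc_27 chi28 chi30 pow_all
  n1_eq n2_eq n1_conj_T n2_conj_T)
open Cfsg.Agent.ChevalleyStructure.TwF4.TorusFix (mem_iff pow_unit T_rt rt)
open Cfsg.Agent.Schreier.TwFFour

universe u

theorem row_twistedF4 {K : Type} [Field K] [Fintype K] {m : ℕ} (hm : 1 ≤ m)
    (hK : Fintype.card K = 2 ^ (2 * m + 1)) : Row.{u} ↥(twistedF4 K (2 ^ m)) := by
  have : CharP K 2 := charP_two hK
  have : Fact (Nat.Prime 2) := ⟨Nat.prime_two⟩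
  obtain ⟨φ, hφ⟩ := exists_rln hK
  obtain ⟨P, hPB, hPN, -, hPS⟩ := Cfsg.Agent.ChevalleyStructure.TwF4.BNIrred.exists_bnPair_irreducible hφ
  have hB : P.B = B0 K (2 ^ m) := hPB
  have hdec := dec hK hφ
  have hUp := isPGroup_U0 hK
  set s1 : ↥(twistedF4 K (2 ^ m)) := ⟨n1 K, n1_mem⟩ with hs1
  set s2 : ↥(twistedF4 K (2 ^ m)) := ⟨n2 K, n2_mem hφ.pos⟩ with hs2
  have node_1 : Cfsg.Agent.Schreier.BNSch.Node P (U0 K (2 ^ m)) s1 (V1 K (2 ^ m)) := node1 hφ hB
  have node_2 : Cfsg.Agent.Schreier.BNSch.Node P (U0 K (2 ^ m)) s2 (V8 K (2 ^ m)) := node2 hφ hB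
  have hdB : ∀ b ∈ P.B, ∃ s t : Kˣ, ∃ u ∈ U0 K (2 ^ m), b = u * tt hdec s t := by
    intro b hb
    rw [hB] at hb
    obtain ⟨s, t, u, hu, hbu⟩ := hdec.1 b hb
    exact ⟨s, t, u, hu, Subtype.ext hbu⟩
  have httN : ∀ s t : Kˣ, tt hdec s t ∈ P.N := fun s t => by
    rw [hPN]
    exact Cfsg.Agent.ChevalleyStructure.TwF4.NStruct.T_mem_N _
  have hH : ∀ h ∈ P.B, h ∈ P.N → ∃ s t : Kˣ, h = tt hdec s t := by
    intro h hh hN
    rw [hPB, Subgroup.mem_subgroupOf] at hh
    rw [hPN, Subgroup.mem_subgroupOf] at hN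
    have h1 := borel_inf_N ⟨hh, hN⟩
    obtain ⟨s, t, hst⟩ := (mem_iff hK (h : GL chevF4.Idx K)).1 ⟨h1, h.2⟩
    exact ⟨s, t, Subtype.ext hst⟩
  have hUB : U0 K (2 ^ m) ≤ P.B := by rw [hB]; exact U0_le_B0
  have hnorm : ∀ b ∈ P.B, ∀ u ∈ U0 K (2 ^ m), b * u * b⁻¹ ∈ U0 K (2 ^ m) := fun b hb u hu => by
    rw [hB] at hb
    exact conj_U0 hb hu
  have hsplit : FixBN.Split P 2 (U0 K (2 ^ m)) :=
    { le := hUB
      norm := hnorm
      isP := hUp
      cover := fun b hb => by
        obtain ⟨s, t, u, hu, rfl⟩ := hdB b hb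
        refine ⟨u, hu, ?_⟩
        rw [inv_mul_cancel_left]
        exact httN s t
      tor := ⟨2 ^ (2 * m + 1) - 1, by
        have h1 : 2 ∣ 2 ^ (2 * m + 1) := dvd_pow_self 2 (by omega)
        have h2 : 0 < 2 ^ (2 * m + 1) := by positivity
        omega, fun h hh hN => by
        obtain ⟨s, t, rfl⟩ := hH h hh hN
        apply Subtype.ext
        show T (tc (2 ^ m) s t) ^ (2 ^ (2 * m + 1) - 1) = 1
        rw [← map_pow]
        have h2 : tc (2 ^ m) s t ^ (2 ^ (2 * m + 1) - 1) = 1 := by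
          have h3 : ∀ x : Kˣ, x ^ (2 ^ (2 * m + 1) - 1) = 1 := by
            intro x
            have h4 := pow_card_eq_one' (x := x)
            rwa [Nat.card_units, Nat.card_eq_fintype_card, hK] at h4
          funext l
          rw [Pi.pow_apply, h3]; rfl
        rw [h2, map_one]⟩
      node := by
        intro s hs
        rw [hPS] at hs
        rcases hs with rfl | hs
        · exact ⟨_, node_1⟩
        · rw [Set.mem_singleton_iff] at hs
          subst hs
          exact ⟨_, node_2⟩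
      core := by
        obtain ⟨hsimp, -⟩ := Cfsg.Agent.S1072.result hm hK
        rcases hsimp.eq_bot_or_eq_top_of_normal P.B.normalCore inferInstance with h | h
        · exact h
        · exfalso
          have h1 : P.B = ⊤ := by
            rw [eq_top_iff, ← h]
            exact Subgroup.normalCore_le _
          obtain ⟨u, hu, huV⟩ := node_1.ne
          exact huV (node_1.stab u hu (by rw [h1]; exact Subgroup.mem_top _)) }
  have hne : s1 ≠ s2 := by
    intro h
    have h1 := congrArg (fun x : ↥(twistedF4 K (2 ^ m)) => (x : GL chevF4.Idx K)) h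
    have h2 : n1 K = n2 K := h1
    apply n1_inv_mul_n2 (K := K)
    rw [h2, inv_mul_cancel]
    exact one_mem _
  refine row_of_split (s := s1) (t := s2) (r := 2 ^ (2 * m + 1)) (k := (2 * m + 1) * 12) hsplit hPS hne node_1 ?_ ?_ ?_
  · -- the index of `V1`
    rw [← hK, ← Nat.card_eq_fintype_card]
    rw [Subgroup.relIndex]
    have hxU : ∀ t : K, (⟨xa (2 ^ m) t, xa_mem t⟩ : ↥(twistedF4 K (2 ^ m))) ∈ U0 K (2 ^ m) := fun t =>
      Subgroup.mem_subgroupOf.2 (xa_U t)
    refine Nat.card_le_card_of_surjective (fun t : K => (QuotientGroup.mk (⟨⟨xa (2 ^ m) t, xa_mem t⟩, hxU t⟩ :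
      ↥(U0 K (2 ^ m))) : _ ⧸ (V1 K (2 ^ m)).subgroupOf (U0 K (2 ^ m)))) ?_
    intro q
    induction q using QuotientGroup.induction_on with
    | _ u =>
    obtain ⟨u, hu⟩ := u
    obtain ⟨v, hv, t, hut⟩ := decU_a hφ hu
    refine ⟨t, ?_⟩
    rw [QuotientGroup.eq, Subgroup.mem_subgroupOf]
    change (⟨xa (2 ^ m) t, xa_mem t⟩ : ↥(twistedF4 K (2 ^ m)))⁻¹ * u ∈ _
    rw [hut]
    have h1 := node_1.conj_B _ (hUB (inv_mem (hxU t))) v hv
    rw [inv_inv, mul_assoc] at h1
    exact h1
  · have h1 := Cfsg.Agent.S1090.result (K := K) (m := m) hK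
    rw [pow_mul, ← h1]
    have h2 : chevF4.posUnipotent K ⊓ twistedF4 K (2 ^ m) ≤ twistedF4 K (2 ^ m) := inf_le_right
    exact Subgroup.card_dvd_of_le h2
  · rw [pow_mul, ← pow_mul, ← pow_mul]
    exact Nat.pow_lt_pow_right (by norm_num) (by omega)

end Cfsg.Agent.H480.Fr
end

-- part: H480/RowSz
section
/-!
# Nilpotent minimal covers: the Suzuki groups (helper480, S3925, S3926)
-/

set_option autoImplicit false

namespace Cfsg.Agent.H480

open Subgroup Cfsg.Agent.ThreePrime

universe u v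

theorem pair_sz {J : Type v} [Group J] [Finite J] (h : Cfsg.Lie.IsoSuzuki J) :
    ∃ r : ℕ, r.Prime ∧ Pair 2 r J := by
  have hf2 : Fact (Nat.Prime 2) := ⟨Nat.prime_two⟩
  obtain ⟨P⟩ : Nonempty (Sylow 2 J) := inferInstance
  obtain ⟨F, _, _, R, h8, hT⟩ := H322.Tri.exists_rel_sylow h P
  have h2 : (2 : F) = 0 := R.two
  have hch : CharP F 2 := CharTwo.of_one_ne_zero_of_two_eq_zero one_ne_zero h2
  obtain ⟨n, -, hn⟩ := FiniteField.card F 2
  have hcu : Nat.card Fˣ = 2 ^ (n : ℕ) - 1 := by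
    rw [Nat.card_units, Nat.card_eq_fintype_card, hn]
  rw [Nat.card_eq_fintype_card, hn] at h8
  have hev : Even (2 ^ (n : ℕ)) := (Nat.even_pow.2 ⟨even_two, n.pos.ne'⟩)
  have hodd : Odd (Nat.card Fˣ) := by
    rw [hcu]
    exact Nat.Even.sub_odd (by omega) hev odd_one
  have h1 : Nat.card Fˣ ≠ 1 := by
    rw [hcu]
    omega
  obtain ⟨r, hr, hrd⟩ := Nat.exists_prime_and_dvd h1
  have hfr : Fact r.Prime := ⟨hr⟩
  have hro : Odd r := hodd.of_dvd_nat hrd
  have hr2 : r ≠ 2 := by
    rintro rfl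
    exact absurd hro (by decide)
  obtain ⟨k, hk⟩ := exists_prime_orderOf_dvd_card' r hrd
  have hk1 : k ≠ 1 := by
    rintro rfl
    rw [orderOf_one] at hk
    exact hr.one_lt.ne hk
  have hmemP : ∀ g : J, g ∈ (P : Subgroup J) ↔ ∃ a b : F, g = R.u a b := by
    intro g
    rw [← hT, R.mem_T]
  refine ⟨r, hr, pair_of_bn P R.D R.w (R.d k) ?_ ?_ ?_ ?_ ?_ ?_ ?_ hr2 hr2 (R.d_mem k) ?_ ?_ ?_ ?_⟩
  · rw [← hT]
    exact R.D_le
  · intro t ht htP
    obtain ⟨l, rfl⟩ := (R.mem_D t).1 ht
    obtain ⟨a, b, hab⟩ := (hmemP _).1 htP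
    have h3 : R.u 0 0 * R.d l = R.u a b * R.d 1 := by rw [R.u_zero, one_mul, R.d_one, mul_one, hab]
    rw [(R.ud_inj h3).2.2, R.d_one]
  · intro g
    rcases R.bruhat g with ⟨a, b, l, rfl⟩ | ⟨a, b, c, e, l, rfl⟩
    · exact Or.inl ⟨_, (hmemP _).2 ⟨a, b, rfl⟩, _, R.d_mem l, rfl⟩
    · exact Or.inr ⟨_, (hmemP _).2 ⟨a, b, rfl⟩, _, (hmemP _).2 ⟨c, e, rfl⟩, _, R.d_mem l, rfl⟩
  · intro a ha hN
    obtain ⟨b, c, rfl⟩ := (hmemP _).1 ha
    rw [← hT] at hN
    obtain ⟨b', c', l, h3⟩ := R.norm hN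
    rw [R.w_inv] at h3
    obtain ⟨rfl, rfl⟩ := R.inter _ _ _ _ _ h3
    exact R.u_zero
  · rw [R.w_inv, R.w_mul_d, mul_assoc, R.w_mul_w, mul_one]
    exact R.d_mem _
  · rw [← hT]
    exact R.w_not_mem_normalizer
  · refine orderOf_eq_prime ?_ ?_
    · have h3 : ∀ n : ℕ, R.d k ^ n = R.d (k ^ n) := by
        intro n
        induction n with
        | zero => simp [R.d_one]
        | succ n ih => rw [pow_succ, ih, R.d_mul, pow_succ]
      rw [h3, ← hk, pow_orderOf_eq_one, R.d_one]
    · intro h3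
      exact hk1 (R.d_inj (h3.trans R.d_one.symm))
  · intro t ht
    obtain ⟨l, rfl⟩ := (R.mem_D t).1 ht
    rw [R.d_mul, R.d_mul, mul_comm]
  · intro a ha hx
    obtain ⟨b, c, rfl⟩ := (hmemP _).1 ha
    rcases R.fpf (k := k) (a := b) (b := c) (by rw [hx, mul_inv_cancel_right]) with h3 | ⟨rfl, rfl⟩
    · exact absurd h3 hk1
    · exact R.u_zero
  · intro h3
    rw [R.w_inv, R.w_mul_d, mul_assoc, R.w_mul_w, mul_one] at h3
    have h4 := R.d_inj h3
    have h5 : k ^ 2 = 1 := by
      rw [pow_two]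
      nth_rw 1 [← h4]
      exact inv_mul_cancel k
    have h6 := orderOf_dvd_of_pow_eq_one h5
    rw [hk] at h6
    exact hr2 ((Nat.prime_dvd_prime_iff_eq hr Nat.prime_two).1 h6)
  · exact ⟨R.u 0 1, (hmemP _).2 ⟨0, 1, rfl⟩, R.u_ne_one one_ne_zero⟩

theorem row_sz {S : Type v} [Group S] [Finite S] (h : Cfsg.Lie.IsoSuzuki S) : Row.{u} S := by
  intro G _ _ K hK hs hna hc hcyc f 𝓐 hA
  have hf2 : Fact (Nat.Prime 2) := ⟨Nat.prime_two⟩
  obtain ⟨r, hr, hP⟩ := pair_sz h
  have hfr : Fact r.Prime := ⟨hr⟩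
  have hKS : Cfsg.Lie.IsoSuzuki ↥K := by
    obtain ⟨F, i1, i2, m, hm, hF, ⟨e⟩⟩ := h
    exact ⟨F, i1, i2, m, hm, hF, ⟨f.symm.trans e⟩⟩
  refine hP.not_nmc f ?_ hA
  intro g hg
  have h1 := OddCyclic.CaseESz.inner hKS (x := g) (by rw [normalizer_eq_top]; exact mem_top g) hg
  rw [hc, sup_bot_eq] at h1
  exact h1

end Cfsg.Agent.H480
end

-- part: H480/RowLie
section
/-!
# Nilpotent minimal covers: the groups of Lie type (helper480, S3925, S3926)
-/

set_option autoImplicit false

namespace Cfsg.Agent.H480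

open Cfsg
open Cfsg.Agent.H480.Fr
open Cfsg.Agent.Omega.ML.Ex.Typ Cfsg.Agent.Nodes.RGDChev

universe u v

theorem row_psl {p : ℕ} (hp : p.Prime) {S : Type v} [Group S] (h : IsPSLChar p S) : Row.{u} S := by
  obtain ⟨F, _, _, _, n, h2, h4, ⟨e⟩⟩ := h
  have hfp : Fact p.Prime := ⟨hp⟩
  rcases Nat.lt_or_ge n 4 with hn | hn
  · obtain rfl | rfl : n = 2 ∨ n = 3 := by omega
    · exact Row.congr e.symm (PslTwo.row_psl_two (by rw [Nat.card_eq_fintype_card]; exact h4 rfl))
    · exact Row.congr e.symm PslThree.row_psl_three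
  · exact High.row ((high_PSL (p := p) hn).of_equiv e.symm)

theorem row_psp {p : ℕ} (hp : p.Prime) {S : Type v} [Group S] (h : IsPSpChar p S) : Row.{u} S := by
  obtain ⟨F, _, _, _, m, h2, h3, ⟨e⟩⟩ := h
  have hfp : Fact p.Prime := ⟨hp⟩
  rcases Nat.lt_or_ge m 3 with hm | hm
  · obtain rfl : m = 2 := by omega
    exact Row.of_kill (Kill.congr e.symm (SpFour.kill p (h3 rfl)))
  · exact High.row ((high_PSp (p := p) hm).of_equiv e.symm)

theorem row_psu {p : ℕ} (hp : p.Prime) {S : Type v} [Group S] (h : IsPSUChar p S) : Row.{u} S := by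
  obtain ⟨F, _, _, _, n, q, hF, h3, hn3, ⟨e⟩⟩ := h
  have hfp : Fact p.Prime := ⟨hp⟩
  have hq2 : 2 ≤ q := by
    by_contra hlt
    have h1 : 1 < Fintype.card F := Fintype.one_lt_card
    have h4 : q ^ 2 ≤ 1 := by
      have : q ≤ 1 := by omega
      calc q ^ 2 ≤ 1 ^ 2 := Nat.pow_le_pow_left this 2
        _ = 1 := one_pow 2
    omega
  rcases Nat.lt_or_ge n 6 with hn | hn
  · obtain rfl | rfl | rfl : n = 3 ∨ n = 4 ∨ n = 5 := by omega
    · have hq3 : 3 ≤ q := by
        rcases Nat.lt_or_ge q 3 with h | h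
        · exact absurd ⟨rfl, by omega⟩ hn3
        · exact h
      exact Row.of_kill (Kill.congr e.symm (Three.kill_PSU hF hq3))
    · exact Row.congr e.symm (row_psu_four (p := p) hF)
    · exact Row.congr e.symm (row_psu_five (p := p) hF)
  · exact High.row ((high_PSU (p := p) hF hn).of_equiv e.symm)

theorem row_exc {p : ℕ} (hp : p.Prime) {S : Type v} [Group S] (h : IsExceptionalChevChar p S) : Row.{u} S := by
  have hfp : Fact p.Prime := ⟨hp⟩
  obtain ⟨F, _, _, _, ⟨-, ⟨e⟩⟩ | ⟨⟨e⟩⟩ | ⟨⟨e⟩⟩ | ⟨⟨e⟩⟩ | ⟨⟨e⟩⟩⟩ := h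
  · exact Row.congr e.symm (GTwo.row_g2 (p := p) F)
  · exact High.row (p := p) ⟨_, _, _, _, leaf_F.1, leaf_F.2, (typ_group (by simp [IsType, typeList]) F p).of_equiv e.symm⟩
  · exact High.row (p := p) ⟨_, _, _, _, leaf_E6.1, leaf_E6.2, (typ_group (by simp [IsType, typeList]) F p).of_equiv e.symm⟩
  · exact High.row (p := p) ⟨_, _, _, _, leaf_E7.1, leaf_E7.2, (typ_group (by simp [IsType, typeList]) F p).of_equiv e.symm⟩
  · exact High.row (p := p) ⟨_, _, _, _, leaf_E8.1, leaf_E8.2, (typ_group (by simp [IsType, typeList]) F p).of_equiv e.symm⟩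

theorem row_tw {p : ℕ} (hp : p.Prime) {S : Type v} [Group S] (h : IsTwistedE6D4Char p S) : Row.{u} S := by
  have hfp : Fact p.Prime := ⟨hp⟩
  obtain ⟨K, _, _, _, q, hq, ⟨hK, ⟨e⟩⟩ | ⟨hK, ⟨e⟩⟩⟩ := h
  · exact High.row ((high_twE6 hq hK p).of_equiv e.symm)
  · exact Row.congr e.symm (row_twD4 hq hK p)

/-- **groups of Lie type** -/
theorem row_lie {p : ℕ} (hp : p.Prime) {S : Type v} [Group S] [Finite S] (h : IsLieTypeChar p S) : Row.{u} S := by
  have hfp : Fact p.Prime := ⟨hp⟩
  rcases h with h | h | h | h | h | h | h | h | ⟨-, h⟩ | ⟨-, h⟩ | ⟨-, h⟩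
  · exact row_psl hp h
  · exact row_psp hp h
  · exact row_psu hp h
  · exact High.row (high_POmegaOdd h)
  · exact High.row (high_POmegaPlus h)
  · exact High.row (high_POmegaMinus h)
  · exact row_exc hp h
  · exact row_tw hp h
  · exact row_sz h
  · obtain ⟨K, _, _, m, hm, hK, ⟨e⟩⟩ := h
    exact Row.congr e.symm (row_twistedF4 hm hK)
  · exact row_ree h

end Cfsg.Agent.H480
end

private theorem dce_468c25a412b3 : _root_.True := by
  try have : _root_.True := by simp only [_root_.Cfsg.Agent.H480.Three.mg.eq_1]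
  try have : _root_.True := by simp only [_root_.Cfsg.Agent.H480.PslThree.bl.eq_1]
  try have : _root_.True := by simp only [_root_.Cfsg.Agent.H480.Three.mp.eq_1]
  try have : _root_.True := by simp only [_root_.Cfsg.Agent.Nodes.TypeD.Adj.eq_1]
  try have : _root_.True := by simp only [_root_.Matrix.ProjGenLinGroup.congr_simp]
  exact _root_.True.intro
end

-- part: H480/SporJTwo_mg
section
prune_inst 0x103604090000000000001200003004c8000002004b800059a00e00000652610902ae0048a00f12092080200000802811000019401000000000020040050020900242001300a104200001801002000000000000000000000000000000041000000000000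
set_option linter.all false
open scoped Cfsg.Agent.FastGrp

-- part: H480/SporJThree
section
/-!
# Nilpotent minimal covers: `J3` (helper480, S3925, S3926)
-/

set_option autoImplicit false

namespace Cfsg.Agent.H480

open Subgroup Equiv

/-- an element of order `p` of the alternating group -/
theorem alt_exists {n p : ℕ} (hp : p.Prime) (hp2 : 3 ≤ p) (hn : p ≤ n) :
    ∃ σ ∈ alternatingGroup (Fin n), orderOf σ = p := by
  have hf : Fact p.Prime := ⟨hp⟩
  obtain ⟨σ, hσ⟩ := exists_prime_orderOf_dvd_card' (G := ↥(alternatingGroup (Fin n))) p (dvd_card_alt hp hp2 hn)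
  exact ⟨σ, σ.2, by rw [orderOf_coe]; exact hσ⟩

/-- `C(z)` with normal 2-subgroup `Q`, quotient `A5` -/
theorem Kill.of_two_alt {S : Type*} [Group S] [Finite S] {z : S} (hz : orderOf z = 2)
    (π : ↥(centralizer ({z} : Set S)) →* Perm (Fin 5)) (hr : π.range = alternatingGroup (Fin 5)) {n : ℕ}
    (hker : Nat.card π.ker = 2 ^ n) (hnum : ∀ i < n, 2 ^ n ≡ 2 ^ i [MOD 5] → i ≤ 1)
    (hcen : ∀ c : ↥(centralizer ({z} : Set S)), (∀ k ∈ π.ker, c * k = k * c) → (c : S) = 1 ∨ (c : S) = z) :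
    Kill S := by
  obtain ⟨σ, hσ, hσ5⟩ := alt_exists (n := 5) (p := 5) (by norm_num) (by norm_num) le_rfl
  refine Kill.of_two_quot hz π (p := 5) (by norm_num) (by norm_num) hker (σ := σ) (by rw [hr]; exact hσ) hσ5 ?_
    hnum ?_
  · intro y hy hyσ
    exact eq_one_of_comm_cycle (a := σ) (p := 5) (m := 2) (by norm_num) hσ5 (by simp) (by norm_num) hy (by norm_num)
      hyσ.symm
  · intro c hc
    rcases hcen c hc with h | h
    · have h1 : c = 1 := Subtype.ext h
      rw [h1, map_one]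
    · -- `π z` is central in `A5`
      have h1 : ∀ g : ↥(centralizer ({z} : Set S)), c * g = g * c := by
        intro g
        apply Subtype.ext
        rw [Subgroup.coe_mul, Subgroup.coe_mul, h]
        exact (mem_centralizer_singleton_iff.1 g.2).symm
      have hcr : π c ∈ alternatingGroup (Fin 5) := by rw [← hr]; exact ⟨c, rfl⟩
      have h2 : (⟨π c, hcr⟩ : ↥(alternatingGroup (Fin 5))) ∈ center ↥(alternatingGroup (Fin 5)) := by
        rw [mem_center_iff]
        rintro ⟨g, hg⟩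
        rw [← hr] at hg
        obtain ⟨g, rfl⟩ := hg
        apply Subtype.ext
        change π g * π c = π c * π g
        rw [← map_mul, ← h1, map_mul]
      rw [alternatingGroup.center_eq_bot (by simp), mem_bot] at h2
      exact congrArg Subtype.val h2

theorem kill_j3 {K : Type*} [Group K] (h : Cfsg.Spor.IsoJ3 K) : Kill K := by
  obtain ⟨-, z, Q, v, ρ, n, u, F⟩ := Cfsg.Agent.KFacts.J3.exists_facts h
  have hfin : Finite K := Nat.finite_of_card_ne_zero (by rw [F.card_K]; norm_num)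
  have hf2 : Fact (Nat.Prime 2) := ⟨Nat.prime_two⟩
  obtain ⟨x, hx⟩ := exists_prime_orderOf_dvd_card' (G := K) 2 (by rw [F.card_K]; norm_num)
  obtain ⟨ψ, h1, h2, h3⟩ := Cfsg.Agent.H315.JThreeFact.exists_psi h x hx
  exact Kill.of_two_alt hx ψ h1 (n := 5) (by rw [h2]; norm_num) (by decide) h3

end Cfsg.Agent.H480
end

-- part: H480/SporJTwo
section
/-!
# Nilpotent minimal covers: `J2` (helper480, S3925, S3926)
-/

set_option autoImplicit false

namespace Cfsg.Agent.H480

open Subgroup Equiv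
open Cfsg.Agent.J2Type.Model Cfsg.Agent.J3Type.OneClass

theorem Kill.of_model {K : Type*} [Group K] [Finite K] {x : K} {Q : Subgroup (centralizer ({x} : Set K))}
    {v : Fin 5 → centralizer ({x} : Set K)} {ρ : centralizer ({x} : Set K) →* SP} (M : IsModel Q (zc x) v ρ)
    (hC : Nat.card (centralizer ({x} : Set K)) = 1920) : Kill K := by
  have hx2 : x * x = 1 := congrArg Subtype.val M.z_sq
  have hx1 : x ≠ 1 := fun h => M.z_ne (Subtype.ext h)
  have hran : (Cfsg.Agent.H315.JThreeFact.perm ρ).range = alternatingGroup (Fin 5) := by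
    ext σ
    rw [Equiv.Perm.mem_alternatingGroup]
    constructor
    · rintro ⟨c, rfl⟩
      exact ((M.range _).1 ⟨_, rfl⟩).1
    · intro hσ
      obtain ⟨c, hc⟩ := (M.range ⟨σ, fun _ => 0⟩).2 ⟨hσ, by simp⟩
      refine ⟨c, ?_⟩
      show (ρ c).σ = σ
      rw [hc]
  refine Kill.of_two_alt (orderOf_eq_prime (by rw [pow_two]; exact hx2) hx1)
    (Cfsg.Agent.H315.JThreeFact.perm ρ) hran (n := 5) ?_ (by decide) ?_
  · have h1 := Subgroup.card_mul_index (Cfsg.Agent.H315.JThreeFact.perm ρ).ker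
    rw [Subgroup.index_ker, hran, hC] at h1
    have h2 : Nat.card (alternatingGroup (Fin 5)) = 60 := by
      rw [Nat.card_eq_fintype_card]; rfl
    rw [h2] at h1
    omega
  · intro y hy
    have hv : ∀ i, y * v i = v i * y := by
      intro i
      have hk : v i ∈ (Cfsg.Agent.H315.JThreeFact.perm ρ).ker := by
        rw [MonoidHom.mem_ker]
        exact (M.mem_Q _).1 (M.v_mem i)
      exact hy _ hk
    have hρ : ρ y = 1 := by
      have h1 : ∀ i, (0 : ZMod 2) = (ρ y).s i ∧ i = (ρ y).σ i := by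
        intro i
        apply M.v_inj
        rw [zp_zero, one_mul, ← M.conj, hv i, mul_inv_cancel_right]
      apply SP.ext
      · apply Equiv.ext
        intro i
        exact (h1 i).2.symm
      · funext i
        exact (h1 i).1.symm
    rcases (M.ker _).1 hρ with h1 | h1
    · left; rw [h1]; rfl
    · right; rw [h1]

theorem kill_j2 : Kill Cfsg.Spor.J2 := by
  have hcard : Nat.card Cfsg.Spor.J2 = 604800 := Cfsg.Agent.J2Sylow.SporSylow.card_J2
  have hfin : Finite Cfsg.Spor.J2 := Nat.finite_of_card_ne_zero (by rw [hcard]; norm_num)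
  obtain ⟨t, u, Q, v, ρ, D⟩ := Cfsg.Agent.KFacts.J2.Facts.exists_dat_of (X := Cfsg.Spor.J2) ⟨MulEquiv.refl _⟩
  exact Kill.of_model D.M D.cardC

end Cfsg.Agent.H480
end

-- part: H480/SporON
section
/-!
# Nilpotent minimal covers: `O'N` (helper480, S3925, S3926)
-/

set_option autoImplicit false
set_option maxRecDepth 100000

namespace Cfsg.Agent.H480.ONRow

open Subgroup
open Cfsg.Spor (ON)
open Cfsg.Spor.ON (Gen)
open Cfsg.Agent.Lib.PackMat Cfsg.Agent.SporadicB.ON45Data Cfsg.Agent.SporadicB.ON45Rels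
  Cfsg.Agent.SporadicB.ON45Word Cfsg.Agent.SporadicB.ON45Core Cfsg.Agent.SporadicB.ONHom
open Cfsg.Agent.KFacts.MulSpor.ON (w w_append w_one mats okw rel iw w_iw eqw)

theorem ne_one_of_run {x : ON} {l : List ℕ} (hx : LW x l) (j : Fin 45) (hj : (0 : Fin 45) ≠ j)
    (h : ((dg C45.s (run C45 l (unitRow C45 1 0)) (C45.n - 1 - j.val) : ℕ) : ZMod 7) ≠ 0) : x ≠ 1 := by
  rintro rfl
  obtain ⟨hok, u, h2, h3⟩ := hx
  rw [map_one] at h3
  have hu : u ∈ Subgroup.center SL45 := (QuotientGroup.eq_one_iff u).1 h3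
  have h4 : (u : M45) 0 j = 0 := by
    rcases center_cases hu with h5 | h5 | h5 <;> rw [h5] <;> simp [Matrix.one_apply_ne hj]
  rw [h2] at h4
  have hG : Good C45 := good_of_check good
  have h5 := unitRow_ok hG (c := 1) (i := 0) (by decide) (by decide)
  have h6 := (run_spec hG l hok h5.1).2
  apply h
  have h7 : ((dg C45.s (run C45 l (unitRow C45 1 0)) (C45.n - 1 - j.val) : ℕ) : ZMod 7) =
      Matrix.vecMul (rowVec C45 (unitRow C45 1 0)) (List.map (mat C45) l).prod j := congrFun h6 j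
  have h8 : ((1 : ℕ) : ZMod C45.p) • (Pi.single (⟨0, by decide⟩ : Fin C45.n) (1 : ZMod C45.p) : Fin C45.n → ZMod C45.p) =
      Pi.single ⟨0, by decide⟩ 1 := by
    rw [Nat.cast_one, one_smul]
  rw [h7, h5.2, h8, Matrix.single_one_vecMul]
  exact h4

/-- the word of length 10 -/
def V : List Gen := [.a, .g, .b, .g, .c, .d, .g, .b, .c, .d]
def zw : List Gen := [.b, .c, .d, .g]

theorem z_five (hs : IsSimpleGroup ON) : w zw ^ 5 = 1 := by
  have h1 : w (zw ++ zw ++ zw ++ zw ++ zw) = 1 := rel hs _ (by decide +kernel)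
  rw [w_append, w_append, w_append, w_append] at h1
  rw [← h1]
  simp only [pow_succ, pow_zero, one_mul]

theorem z_ne : w zw ≠ 1 := by
  refine ne_one_of_run (LW.word zw) 1 (by decide) ?_
  decide +kernel

/-- the second involution -/
def tw : List Gen := V ++ ([.e] : List Cfsg.Spor.ON.Gen) ++ iw V

theorem ft_ne : w (([.f] : List Cfsg.Spor.ON.Gen) ++ tw) ≠ 1 := by
  refine ne_one_of_run (LW.word (([.f] : List Gen) ++ tw)) 1 (by decide) ?_
  decide +kernel

theorem kill_on : Kill ON := by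
  have h := Cfsg.Agent.S1699.result
  have hs : IsSimpleGroup ON := h.1
  have hcard : Nat.card ON = 460815505920 := h.2
  have hfin : Finite ON := Nat.finite_of_card_ne_zero (by rw [hcard]; norm_num)
  have hf5 : Fact (Nat.Prime 5) := ⟨by norm_num⟩
  have hff : w [.f] * w [.f] = 1 := by
    rw [← w_append]
    exact rel hs _ (by decide +kernel)
  have hft3 : w (([.f] : List Cfsg.Spor.ON.Gen) ++ tw) ^ 3 = 1 := by
    have h1 : w ((([.f] : List Cfsg.Spor.ON.Gen) ++ tw) ++ (([.f] : List Cfsg.Spor.ON.Gen) ++ tw) ++ (([.f] : List Cfsg.Spor.ON.Gen) ++ tw)) = 1 := rel hs _ (by decide +kernel)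
    rw [w_append, w_append] at h1
    rw [← h1]
    simp only [pow_succ, pow_zero, one_mul]
  have htt : w tw * w tw = 1 := by
    rw [← w_append]
    exact rel hs _ (by decide +kernel)
  have hfz : w [.f] * w zw = w zw * w [.f] := by
    rw [← w_append, ← w_append]
    exact eqw hs _ _ (by decide +kernel)
  have htz : w tw * w zw = w zw * w tw := by
    rw [← w_append, ← w_append]
    exact eqw hs _ _ (by decide +kernel)
  refine Kill.of_noncomm (r := 5) (by norm_num) (by rw [hcard]; norm_num) (z := w zw)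
    (orderOf_eq_prime (z_five hs) z_ne) (a := w (([.f] : List Cfsg.Spor.ON.Gen) ++ tw)) (b := w [.f]) ?_ hfz (m := 3) (n := 2) (by norm_num)
    hft3 (by rw [pow_two]; exact hff) ?_
  · rw [w_append, mul_assoc, htz, ← mul_assoc, hfz, mul_assoc]
  · intro hc
    apply ft_ne
    rw [w_append] at hc hft3 ⊢
    have h2 : w tw * w [.f] = w [.f] * w tw := by
      calc w tw * w [.f] = (w [.f] * w [.f]) * (w tw * w [.f]) := by rw [hff, one_mul]
        _ = w [.f] * (w [.f] * w tw * w [.f]) := by group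
        _ = w [.f] * (w [.f] * (w [.f] * w tw)) := by rw [hc]
        _ = (w [.f] * w [.f]) * (w [.f] * w tw) := by group
        _ = w [.f] * w tw := by rw [hff, one_mul]
    have h3 : (w [.f] * w tw) * (w [.f] * w tw) = 1 := by
      calc (w [.f] * w tw) * (w [.f] * w tw) = w [.f] * (w tw * w [.f]) * w tw := by group
        _ = (w [.f] * w [.f]) * (w tw * w tw) := by rw [h2]; group
        _ = 1 := by rw [hff, htt, one_mul]
    rw [pow_succ, pow_two, h3, one_mul] at hft3
    exact hft3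

end Cfsg.Agent.H480.ONRow
end

-- part: H480/SporMTwelve
section
/-!
# Nilpotent minimal covers: `M12`, `Co3` (helper480, S3925, S3926)
-/

set_option autoImplicit false

namespace Cfsg.Agent.H480

open Subgroup
open Cfsg.Agent.CoThreeStd.M12 Cfsg.Agent.CoThreeStd.M12.Out

theorem kill_g12 : Kill ↥G12 := by
  have hf5 : Fact (Nat.Prime 5) := ⟨by norm_num⟩
  have hn5 : orderOf n = 5 := orderOf_eq_prime n_pow n_ne
  have hy1 : y ≠ 1 := by
    intro h
    have h1 := y0
    rw [h] at h1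
    exact absurd h1 (by decide)
  have hc3 : orderOf (lt 1 * n * (lt 1)⁻¹ * n⁻¹) = 3 := by
    have hf3 : Fact (Nat.Prime 3) := ⟨by norm_num⟩
    have h1 : lt 1 * n * (lt 1)⁻¹ * n⁻¹ = el ([1] ++ wn ++ [1] ++ wn.reverse) := by
      rw [el_append, el_append, el_append, el_reverse, el_single, n,
        inv_eq_of_mul_eq_one_left (lt_sq 1)]
    rw [h1]
    refine orderOf_eq_prime ?_ ?_
    · rw [← el_pw, ← el_nil]
      exact el_eq (by decide +kernel)
    · rw [← el_nil, Ne, el_eq_iff]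
      decide +kernel
  refine Kill.of_inv (z := y) (d := n) (orderOf_eq_prime (by rw [pow_two]; exact y_sq) hy1) (by rw [hn5]; decide)
    y_n ?_ ?_
  · intro x hx _ hxn
    by_cases h1 : x = 1
    · exact Or.inl h1
    · exact Or.inr (eq_y hxn hx h1)
  · refine not_nilpotent_of_commutator (q := lt 1) ?_ ?_ ?_
    · rw [mem_centralizer_singleton_iff, y, ← el_single, ← el_single, ← el_append, ← el_append]
      exact el_eq (by decide +kernel)
    · rw [hc3, hn5]
      norm_num
    · have h1 : lt 1 * n * (lt 1)⁻¹ * n⁻¹ = el ([1] ++ wn ++ [1] ++ wn.reverse) := by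
        rw [el_append, el_append, el_append, el_reverse, el_single, n,
          inv_eq_of_mul_eq_one_left (lt_sq 1)]
      rw [h1, n, ← el_append, ← el_append, Ne, el_eq_iff]
      decide +kernel

theorem kill_m12 : Kill ↥Cfsg.Spor.M12 := Kill.congr CoThreeStd.M12.equiv.symm kill_g12

theorem m12_eleven {a b : ↥Cfsg.Spor.M12} (ha : orderOf a = 11) (hb : orderOf b = 2) : a * b ≠ b * a := by
  intro hab
  obtain ⟨m, hm⟩ := conj_of_order (x := CoThreeStd.M12.equiv a) (by rw [MulEquiv.orderOf_eq]; exact ha)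
  have hb' : orderOf (m * CoThreeStd.M12.equiv b * m⁻¹) = 2 := by
    rw [← MulAut.conj_apply, MulEquiv.orderOf_eq, MulEquiv.orderOf_eq]
    exact hb
  have hcomm : Commute (m * CoThreeStd.M12.equiv b * m⁻¹) (m * CoThreeStd.M12.equiv a * m⁻¹) := by
    have h1 : CoThreeStd.M12.equiv a * CoThreeStd.M12.equiv b = CoThreeStd.M12.equiv b * CoThreeStd.M12.equiv a := by
      rw [← map_mul, hab, map_mul]
    change _ * _ = _ * _
    calc m * CoThreeStd.M12.equiv b * m⁻¹ * (m * CoThreeStd.M12.equiv a * m⁻¹)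
        = m * (CoThreeStd.M12.equiv b * CoThreeStd.M12.equiv a) * m⁻¹ := by group
      _ = m * (CoThreeStd.M12.equiv a * CoThreeStd.M12.equiv b) * m⁻¹ := by rw [h1]
      _ = _ := by group
  have hg : (m * CoThreeStd.M12.equiv b * m⁻¹) * g = g * (m * CoThreeStd.M12.equiv b * m⁻¹) := by
    rcases hm with hm | hm
    · rw [hm] at hcomm
      exact hcomm.eq
    · rw [hm] at hcomm
      exact (Commute.inv_right_iff.1 hcomm).eq
  obtain ⟨k, hk⟩ := cent_g hg
  have h2 : (m * CoThreeStd.M12.equiv b * m⁻¹) ^ 11 = 1 := by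
    rw [hk, ← pow_mul, mul_comm, pow_mul, g_pow, one_pow]
  have h3 := orderOf_dvd_of_pow_eq_one h2
  rw [hb'] at h3
  exact absurd h3 (by norm_num)

open Cfsg.Agent.CTwoTab.Co3 in
theorem kill_co3 : Kill Cfsg.Spor.Co3 := by
  obtain ⟨w, D⟩ := exists_data
  have hfin := finite_G3
  have hcard := (Cfsg.Agent.SporRec.Co3.Chain.isCo3_G3).2
  obtain ⟨f, hf, hk⟩ := D.hom
  have hsU := D.simple
  have hna : ∃ a b : Cfsg.Spor.M12, a * b ≠ b * a := by
    by_contra h
    push Not at h
    have h1 : (Nat.card ↥Cfsg.Spor.M12).Prime := by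
      let _ : CommGroup ↥Cfsg.Spor.M12 := { mul_comm := h }
      exact IsSimpleGroup.prime_card
    rw [D.card] at h1
    exact absurd h1 (by norm_num)
  have hcU : center ↥Cfsg.Spor.M12 = ⊥ := by
    rcases hsU.eq_bot_or_eq_top_of_normal (center ↥Cfsg.Spor.M12) inferInstance with h | h
    · exact h
    · exfalso
      obtain ⟨a, b, hab⟩ := hna
      have h1 : b ∈ center ↥Cfsg.Spor.M12 := by rw [h]; exact mem_top b
      exact hab (mem_center_iff.1 h1 a)
  have hw0 : w ∈ centralizer ({w} : Set SporRec.Co3.Chain.G3) := mem_centralizer_singleton_iff.2 rfl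
  have hfw : f ⟨w, hw0⟩ = 1 := by
    have h1 : f ⟨w, hw0⟩ ∈ center ↥Cfsg.Spor.M12 := by
      rw [mem_center_iff]
      intro g
      obtain ⟨c, rfl⟩ := hf g
      rw [← map_mul, ← map_mul]
      exact congrArg f (Subtype.ext (mem_centralizer_singleton_iff.1 c.2))
    rwa [hcU, mem_bot] at h1
  have hw1 : w ≠ 1 := by
    intro hw
    have hinj : Function.Injective f := by
      rw [injective_iff_map_eq_one]
      intro x hx
      rcases hk x hx with h | h
      · exact h
      · exact Subtype.ext (h.trans hw)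
    have h1 := Nat.card_le_card_of_injective f hinj
    rw [D.card] at h1
    have h2 : centralizer ({w} : Set SporRec.Co3.Chain.G3) = ⊤ := by
      rw [eq_top_iff]
      intro x _
      rw [mem_centralizer_singleton_iff, hw, mul_one, one_mul]
    rw [h2, Nat.card_congr (Subgroup.topEquiv).toEquiv, hcard] at h1
    exact absurd h1 (by norm_num)
  have hw2 : w ^ 2 = 1 := by
    have h1 : f (⟨w, hw0⟩ * ⟨w, hw0⟩) = 1 := by rw [map_mul, hfw, one_mul]
    rcases hk _ h1 with h | h
    · rw [pow_two]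
      exact congrArg Subtype.val h
    · exfalso
      apply hw1
      have h2 : w * w = w := h
      exact mul_eq_left.1 h2
  have hkill : Kill SporRec.Co3.Chain.G3 := by
    refine Kill.of_hom (z := w) (orderOf_eq_prime hw2 hw1) f hf ?_ (q := 11) (by norm_num) (by norm_num)
      (by rw [D.card]; norm_num) (fun a b ha hb => m12_eleven ha hb) ?_
    · intro x hx
      rcases hk x hx with h | h
      · left
        rw [h]
        rfl
      · exact Or.inr h
    · intro N hN h1 hnil
      have h2 : N = ⊤ := (hsU.eq_bot_or_eq_top_of_normal N hN).resolve_left h1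
      subst h2
      have h3 : Group.IsNilpotent ↥Cfsg.Spor.M12 := Group.nilpotent_of_mulEquiv (_h := hnil) Subgroup.topEquiv
      obtain ⟨a, b, hab⟩ := hna
      exact hab (IsSimpleGroup.comm_iff_isSolvable.2 inferInstance a b)
  exact Kill.congr SporRec.Co3.Model.equivCo3 hkill

end Cfsg.Agent.H480
end

-- part: H480/SporM
section
/-!
# Nilpotent minimal covers: the Monster (helper480, S3925, S3926)
-/

set_option autoImplicit false

namespace Cfsg.Agent.H480

open Subgroup

theorem not_nilpotent_of_hom {S L : Type*} [Group S] [Group L] {C : Subgroup S} (π : ↥C →* L) (hs : IsSimpleGroup L)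
    (hna : ∃ a b : L, a * b ≠ b * a) (hsurj : Function.Surjective π) {d : S} (hd : d ∈ C) (hd1 : π ⟨d, hd⟩ ≠ 1) :
    ¬ Group.IsNilpotent ↥(closure (cjs C d)) := by
  intro hnil
  set D := closure (cjs C d) with hD
  have hDC : D ≤ C := by
    rw [hD, closure_le]
    rintro _ ⟨m, hm, rfl⟩
    exact mul_mem (mul_mem hm hd) (inv_mem hm)
  have hinv : ∀ c ∈ C, ∀ x ∈ D, c * x * c⁻¹ ∈ D := by
    intro c hc x hx
    rw [hD] at hx ⊢
    induction hx using closure_induction with
    | mem x hx =>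
      obtain ⟨m, hm, rfl⟩ := hx
      refine subset_closure ⟨c * m, mul_mem hc hm, ?_⟩
      group
    | one => rw [mul_one, mul_inv_cancel]; exact one_mem _
    | mul a b _ _ ha hb =>
      have e : c * (a * b) * c⁻¹ = c * a * c⁻¹ * (c * b * c⁻¹) := by group
      rw [e]
      exact mul_mem ha hb
    | inv a _ ha =>
      have e : c * a⁻¹ * c⁻¹ = (c * a * c⁻¹)⁻¹ := by group
      rw [e]
      exact inv_mem ha
  let g : ↥D →* L := π.comp (Subgroup.inclusion hDC)
  have hn : g.range.Normal := by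
    refine ⟨?_⟩
    rintro _ ⟨x, rfl⟩ l
    obtain ⟨c, rfl⟩ := hsurj l
    refine ⟨⟨c * x * c⁻¹, hinv c c.2 x x.2⟩, ?_⟩
    change π _ = π c * π _ * (π c)⁻¹
    rw [← map_inv, ← map_mul, ← map_mul]
    rfl
  have hnb : g.range ≠ ⊥ := by
    intro hb
    have h1 : g ⟨d, subset_closure (mem_cjs_self C d)⟩ ∈ g.range := ⟨_, rfl⟩
    rw [hb, mem_bot] at h1
    exact hd1 h1
  exact not_nilpotent_of_simple hna g.range hn hnb
    (Group.nilpotent_of_surjective (h := hnil) g.rangeRestrict g.rangeRestrict_surjective)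

/-- **A unique involution of `C(z) ∩ C(d)`.** -/
theorem Kill.of_two_hom {S L : Type*} [Group S] [Group L] {z d : S} (hz : orderOf z = 2)
    (π : ↥(centralizer ({z} : Set S)) →* L) (hs : IsSimpleGroup L)
    (hna : ∃ a b : L, a * b ≠ b * a) (hsurj : Function.Surjective π) (hd : d ∈ centralizer ({z} : Set S))
    (hd1 : π ⟨d, hd⟩ ≠ 1) (hodd : Odd (orderOf d))
    (hu : ∀ x : S, x * x = 1 → x ≠ 1 → x * z = z * x → x * d = d * x → x = z) : Kill S := by
  refine ⟨2, z, d, Nat.prime_two, hz, hodd.coprime_two_right, (mem_centralizer_singleton_iff.1 hd).symm, ?_,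
    not_nilpotent_of_hom π hs hna hsurj hd hd1⟩
  intro x hx hxz hxd
  have h1 : x * x = 1 := by
    have h0 := pow_orderOf_eq_one x
    rwa [hx, pow_two] at h0
  have h2 : x ≠ 1 := by
    rintro rfl
    rw [orderOf_one] at hx
    norm_num at hx
  rw [hu x h1 h2 hxz hxd]
  exact mem_zpowers z

open Cfsg Cfsg.Agent.MonsterX Cfsg.Agent.MonsterX.InstData Cfsg.Spor in
/-- **The Monster** -/
theorem kill_m : Kill Cfsg.Spor.Monster := by
  obtain ⟨f⟩ := Cfsg.Agent.MonsterP.Equiv.equiv
  refine Kill.congr f.symm ?_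
  have hfin := MFive.Row.finite_model
  have h := LThreeMB.KChart.chart KDone.lft MFive.Row.hc
  have hf13 : Fact (Nat.Prime 13) := ⟨by norm_num⟩
  have hco := Cfsg.Agent.MonsterU.CoFrameF.card_Co1
  have hs := Cfsg.Agent.KFacts.MonsterE.simple_Co1
  -- an element of order 13
  obtain ⟨x, hx⟩ := exists_prime_orderOf_dvd_card' (G := ↥(centralizer ({KDone.K.z} : Set ↥InstData.M.G))) 13 (by
    refine dvd_trans ?_ (Subgroup.card_dvd_of_surjective _ h.pi_surj)
    rw [hco]
    norm_num)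
  have hz2 : orderOf KDone.K.z = 2 := by
    have : Fact (Nat.Prime 2) := ⟨Nat.prime_two⟩
    exact orderOf_eq_prime (by rw [pow_two]; exact h.large.z_sq) h.large.z_ne
  refine Kill.of_two_hom hz2 (LThreeMB.KChart.pi MFive.Row.hc) hs ?_ h.pi_surj x.2 ?_ ?_ ?_
  · by_contra hcon
    push Not at hcon
    let _ : CommGroup Co1 := { (inferInstance : Group Co1) with mul_comm := hcon }
    have hfc : Finite Co1 := Nat.finite_of_card_ne_zero (by rw [hco]; norm_num)
    have h2 : (Nat.card Co1).Prime := IsSimpleGroup.prime_card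
    rw [hco] at h2
    revert h2
    norm_num
  · intro h1
    have h2 := MFive.orderOf_pi h (by norm_num) (by decide) hx
    rw [h1, orderOf_one] at h2
    norm_num at h2
  · rw [orderOf_coe, hx]
    decide
  · intro t htt ht1 htz htx
    exact BpMon.Thirteen.only_inv KDone.lft MFive.Row.hc (x := x) (t := ⟨t, mem_centralizer_singleton_iff.2 htz⟩) hx
      (Subtype.ext htt) (fun h1 => ht1 (congrArg Subtype.val h1)) (Subtype.ext htx.symm)

end Cfsg.Agent.H480
end

-- part: H480/SporTh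
section
/-!
# Nilpotent minimal covers: `Th` (helper480, S3925, S3926)
-/

set_option autoImplicit false

namespace Cfsg.Agent.H480

open Subgroup

section
variable {G : Type*} [Group G]

theorem comm_of_sq {x y : G} (hx : x ^ 2 = 1) (hy : y ^ 2 = 1) (h : (x * y) ^ 2 = 1) : x * y = y * x := by
  have hx' : x⁻¹ = x := inv_eq_of_mul_eq_one_left (by rw [← pow_two]; exact hx)
  have hy' : y⁻¹ = y := inv_eq_of_mul_eq_one_left (by rw [← pow_two]; exact hy)
  have h1 : (x * y)⁻¹ = x * y := inv_eq_of_mul_eq_one_left (by rw [← pow_two]; exact h)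
  rw [mul_inv_rev, hx', hy'] at h1
  exact h1.symm

/-- two involutions with product of order three -/
theorem sym3 {x y : G} (hx : x ^ 2 = 1) (hy : y ^ 2 = 1) (h : (x * y) ^ 3 = 1) (hne : x ≠ y) :
    (orderOf (y * x * y⁻¹ * x⁻¹)).Coprime 2 ∧ (y * x * y⁻¹ * x⁻¹) * x ≠ x * (y * x * y⁻¹ * x⁻¹) := by
  have hx' : x⁻¹ = x := inv_eq_of_mul_eq_one_left (by rw [← pow_two]; exact hx)
  have hy' : y⁻¹ = y := inv_eq_of_mul_eq_one_left (by rw [← pow_two]; exact hy)
  have hxx : x * x = 1 := by rw [← pow_two]; exact hx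
  have hyy : y * y = 1 := by rw [← pow_two]; exact hy
  have e : y * x * y⁻¹ * x⁻¹ = x * y := by
    rw [hx', hy']
    have h1 : x * y * (x * y) * (x * y) = 1 := by
      rw [← h, pow_succ, pow_two]
    have h2 : x * y * (x * y) = (x * y)⁻¹ := eq_inv_of_mul_eq_one_left h1
    have h3 : (x * y) = (x * y * (x * y))⁻¹ := by rw [h2, inv_inv]
    rw [h3]
    simp only [mul_inv_rev, hx', hy']
    group
  rw [e]
  constructor
  · exact Nat.Coprime.coprime_dvd_left (orderOf_dvd_of_pow_eq_one h) (by norm_num)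
  · intro h1
    apply hne
    have h2 : x * y * x = y := by
      rw [h1, ← mul_assoc, hxx, one_mul]
    have h3 : (x * y) ^ 3 = x * y := by
      calc (x * y) ^ 3 = (x * y * x) * y * (x * y) := by rw [pow_succ, pow_two]; group
        _ = x * y := by rw [h2, hyy, one_mul]
    rw [h] at h3
    exact (eq_inv_of_mul_eq_one_left h3.symm).trans hy'

end

theorem kill_th : Kill Cfsg.Spor.Th := by
  have hfin : Finite Cfsg.Spor.Th := Cfsg.Agent.Th.Main1700.final.1
  have hR := Cfsg.Agent.Th.IndexUpper.gTh_relK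
  have ha1 := Cfsg.Agent.Th.Main475.a_ne_one
  have hcard := Cfsg.Agent.MonsterX.ThOneClass.card_a
  have hord := Cfsg.Agent.MonsterX.ThOneClass.orderOf_a
  generalize Cfsg.Agent.Th.IndexUpper.gTh 1 = a at hR ha1 hcard hord
  generalize Cfsg.Agent.Th.IndexUpper.gTh 2 = b at hR
  generalize Cfsg.Agent.Th.IndexUpper.gTh 3 = c at hR
  generalize Cfsg.Agent.Th.IndexUpper.gTh 4 = d at hR
  generalize Cfsg.Agent.Th.IndexUpper.gTh 5 = e at hR
  generalize Cfsg.Agent.Th.IndexUpper.gTh 6 = s at hR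
  generalize Cfsg.Agent.Th.IndexUpper.gTh 8 = t at hR
  have hacd : a = (c * d) ^ 4 := mul_inv_eq_one.1 hR.acd
  -- `s ≠ 1`
  have hs1 : s ≠ 1 := by
    intro h
    have h1 := hR.es
    rw [h] at h1
    have he : e = 1 := by
      have h2 : (e⁻¹ * (1 : Cfsg.Spor.Th)⁻¹ * e * 1) * (((1 ^ 3)⁻¹ * e * (1 ^ 3))⁻¹) = e⁻¹ := by group
      rw [h2] at h1
      exact inv_eq_one.1 h1
    have hd : d = 1 := by
      have h3 := hR.de3
      rw [he, mul_one] at h3
      have h2 := hR.d2
      calc d = d ^ 3 := by rw [pow_succ, h2, one_mul]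
        _ = 1 := h3
    apply ha1
    rw [hacd, hd, mul_one, show (4 : ℕ) = 2 * 2 from rfl, pow_mul, hR.c2, one_pow]
  have hso : orderOf s = 7 := by
    have : Fact (Nat.Prime 7) := ⟨by norm_num⟩
    exact orderOf_eq_prime hR.s7 hs1
  -- `a ≠ b`
  have hab : a ≠ b := by
    rintro rfl
    have h1 : a * d = d * a := comm_of_sq hR.a2 hR.d2 hR.bd2
    have h2 : a * (c * d) = (c * d) * a := by
      have h0 : (c * d) ^ 4 * (c * d) = (c * d) * (c * d) ^ 4 := by rw [← pow_succ, ← pow_succ']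
      rw [← hacd] at h0
      exact h0
    have h3 : a * c = c * a := by
      have : a * c * d = c * a * d := by rw [mul_assoc, h2, mul_assoc, ← h1, mul_assoc]
      exact mul_right_cancel this
    have h4 : (a * c) ^ 3 = a * c := by
      have h5 : (a * c) ^ 2 = 1 := by
        have hc : Commute a c := h3
        rw [hc.mul_pow, hR.a2, hR.c2, one_mul]
      rw [pow_succ, h5, one_mul]
    have h5 : a * c = 1 := by rw [← h4]; exact hR.bc3
    have hc' : c⁻¹ = c := inv_eq_of_mul_eq_one_left (by rw [← pow_two]; exact hR.c2)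
    have h6 : a = c := (eq_inv_of_mul_eq_one_left h5).trans hc'
    apply ha1
    rw [hacd, ← h6, show (4 : ℕ) = 2 * 2 from rfl, pow_mul, hR.bd2, one_pow]
  have hsa : s * a = a * s := by
    have h := hR.sa
    have h1 : s * a = a * s * (s⁻¹ * a⁻¹ * s * a) := by group
    rw [h1, h, mul_one]
  have hsb : s * b = b * s := by
    have h := hR.sb
    have h1 : s * b = b * s * (s⁻¹ * b⁻¹ * s * b) := by group
    rw [h1, h, mul_one]
  obtain ⟨h3, h4⟩ := sym3 hR.a2 hR.b2 hR.ab3 hab
  refine Kill.of_inf (r := 7) (by norm_num) (z := s) (d := a) (q := b) hso (by rw [hord]; norm_num) hsa ?_ hsb.symm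
    (by rw [hord]; exact h3) h4
  intro h
  have h5 : Nat.card ↥(centralizer ({s} : Set Cfsg.Spor.Th) ⊓ centralizer ({a} : Set Cfsg.Spor.Th)) ∣ 92897280 := by
    rw [← hcard]
    exact Subgroup.card_dvd_of_le inf_le_right
  exact absurd (h.trans h5) (by norm_num)

end Cfsg.Agent.H480
end
end

-- part: H480/SporHN
section
set_option linter.all false
open scoped Cfsg.Agent.FastGrp

/-!
# Nilpotent minimal covers: `HN` (helper480, S3925, S3926)
-/

set_option autoImplicit false

namespace Cfsg.Agent.H480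

open Subgroup Equiv

/-- an alternating subgroup of degree `n ≥ p + 4`, `p` dividing the order once -/
theorem Kill.of_alt {S : Type*} [Group S] [Finite S] {n : ℕ} (f : ↥(alternatingGroup (Fin n)) →* S)
    (hf : Function.Injective f) {p : ℕ} (hp : p.Prime) (h2 : ¬ p ^ 2 ∣ Nat.card S) {σ a b : Perm (Fin n)}
    (hσ : σ ∈ alternatingGroup (Fin n)) (ha : a ∈ alternatingGroup (Fin n)) (hb : b ∈ alternatingGroup (Fin n))
    (hσp : orderOf σ = p) (haσ : a * σ = σ * a) (hbσ : b * σ = σ * b) {k l : ℕ} (hkl : k.Coprime l)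
    (hak : a ^ k = 1) (hbl : b ^ l = 1) (hab : a * b ≠ b * a) : Kill S := by
  refine Kill.of_noncomm hp h2 (z := f ⟨σ, hσ⟩) (a := f ⟨a, ha⟩) (b := f ⟨b, hb⟩) ?_ ?_ ?_ hkl ?_ ?_ ?_
  · rw [orderOf_injective f hf, ← orderOf_coe]
    exact hσp
  · rw [← map_mul, ← map_mul]
    exact congrArg f (Subtype.ext haσ)
  · rw [← map_mul, ← map_mul]
    exact congrArg f (Subtype.ext hbσ)
  · rw [← map_pow, ← map_one f]
    exact congrArg f (Subtype.ext hak)
  · rw [← map_pow, ← map_one f]
    exact congrArg f (Subtype.ext hbl)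
  · intro h
    rw [← map_mul, ← map_mul] at h
    exact hab (congrArg Subtype.val (hf h))

theorem kill_hn : Kill Cfsg.Spor.HN := by
  have h := Cfsg.Agent.S1701.result
  have hs : IsSimpleGroup Cfsg.Spor.HN := h.1
  have hcard : Nat.card Cfsg.Spor.HN = 273030912000000 := h.2
  have hf7 : Fact (Nat.Prime 7) := ⟨by norm_num⟩
  have hfin : Finite Cfsg.Spor.HN := Nat.finite_of_card_ne_zero (by rw [hcard]; norm_num)
  obtain ⟨K, ⟨e⟩⟩ := HN.A12Group.exists_alternating
  have hsg : ∀ a b c : Fin 12, a ≠ b → b ≠ c → swap a b * swap b c ∈ alternatingGroup (Fin 12) := by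
    intro a b c h1 h2
    rw [Equiv.Perm.mem_alternatingGroup, Equiv.Perm.sign_mul, Equiv.Perm.sign_swap h1, Equiv.Perm.sign_swap h2]
    rfl
  refine Kill.of_alt (n := 12) ((Subgroup.subtype K).comp e.symm.toMonoidHom)
    (fun a b hab => e.symm.injective (Subtype.ext hab)) (p := 7) (by norm_num) (by rw [hcard]; norm_num)
    (σ := (swap (0 : Fin 12) 1 * swap (1 : Fin 12) 2) * (swap (2 : Fin 12) 3 * swap (3 : Fin 12) 4) * (swap (4 : Fin 12) 5 * swap (5 : Fin 12) 6))
    (a := swap (7 : Fin 12) 8 * swap (8 : Fin 12) 9) (b := swap (7 : Fin 12) 8 * swap (10 : Fin 12) 11)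
    (mul_mem (mul_mem (hsg _ _ _ (by decide) (by decide)) (hsg _ _ _ (by decide) (by decide)))
      (hsg _ _ _ (by decide) (by decide)))
    (hsg _ _ _ (by decide) (by decide))
    (by
      rw [Equiv.Perm.mem_alternatingGroup, Equiv.Perm.sign_mul, Equiv.Perm.sign_swap (by decide),
        Equiv.Perm.sign_swap (by decide)]
      rfl)
    (orderOf_eq_prime (by decide +kernel) (by decide +kernel)) (by decide +kernel) (by decide +kernel)
    (k := 3) (l := 2) (by norm_num) (by decide +kernel) (by decide +kernel) (by decide +kernel)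

end Cfsg.Agent.H480
end

-- part: H480/SporAll
section
set_option linter.all false
open scoped Cfsg.Agent.FastGrp

-- part: H480/SporMJ
section
/-!
# Nilpotent minimal covers: `M24`, `J4` (helper480, S3925, S3926)
-/

set_option autoImplicit false

namespace Cfsg.Agent.H480

open Subgroup

theorem m24_seven : ∃ z : ↥Cfsg.M24, orderOf z = 7 ∧ ¬ Group.IsNilpotent ↥(centralizer ({z} : Set ↥Cfsg.M24)) := by
  have hcard := Cfsg.Agent.S0364.result
  have hfin : Finite ↥Cfsg.M24 := inferInstance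
  have hf7 : Fact (Nat.Prime 7) := ⟨by norm_num⟩
  obtain ⟨z, hz⟩ := exists_prime_orderOf_dvd_card' (G := ↥Cfsg.M24) 7 (by rw [hcard]; norm_num)
  obtain ⟨-, h42, ⟨x, hx, y, hy, hxy⟩, -⟩ := Cfsg.Agent.S5604.result (zpowers z) (by rw [Nat.card_zpowers, hz])
  have hC : centralizer ({z} : Set ↥Cfsg.M24) = centralizer ((zpowers z : Subgroup ↥Cfsg.M24) : Set ↥Cfsg.M24) := by
    rw [← centralizer_closure, zpowers_eq_closure]
  refine ⟨z, hz, ?_⟩
  rw [hC]
  refine not_nilpotent_of_squarefree ?_ ⟨⟨x, hx⟩, ⟨y, hy⟩, fun h => hxy (congrArg Subtype.val h)⟩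
  rw [h42, show 42 = 2 * 3 * 7 by norm_num, Nat.squarefree_mul (by norm_num), Nat.squarefree_mul (by norm_num)]
  exact ⟨⟨Nat.prime_two.squarefree, Nat.prime_three.squarefree⟩, (by norm_num : Nat.Prime 7).squarefree⟩

theorem kill_m24 : Kill ↥Cfsg.M24 := by
  obtain ⟨z, hz, h⟩ := m24_seven
  refine Kill.of_nonnil (r := 7) (by norm_num) ?_ hz h
  rw [Cfsg.Agent.S0364.result]
  norm_num

theorem kill_j4 : Kill Cfsg.Spor.J4 := by
  obtain ⟨e⟩ := Cfsg.Agent.S1711.result
  obtain ⟨z, hz, h⟩ := m24_seven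
  have hcard : Nat.card Cfsg.Spor.J4 = 86775571046077562880 := Cfsg.Agent.S1703.result.2
  have hfin : Finite Cfsg.Spor.J4 := Nat.finite_of_card_ne_zero (by rw [hcard]; norm_num)
  refine Kill.of_emb ((Subgroup.subtype _).comp e.symm.toMonoidHom)
    (fun a b hab => e.symm.injective (Subtype.ext hab)) (r := 7) (by norm_num) ?_ hz h
  rw [hcard]
  norm_num

end Cfsg.Agent.H480
end

-- part: H480/SporJOne
section
/-!
# Nilpotent minimal covers: `J1`, `McL` (helper480, S3925, S3926)
-/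

set_option autoImplicit false

namespace Cfsg.Agent.H480

open Subgroup

theorem kill_j1 : Kill ↥Cfsg.Spor.J1 := by
  obtain ⟨t, ht, ⟨e⟩⟩ := Cfsg.Agent.S2131.result
  exact Kill.of_prod ht e (q := 5) (by norm_num) (by norm_num) (dvd_card_alt (by norm_num) (by norm_num) le_rfl)
    (fun a b ha hb => alt_not_comm_two (p := 5) (by norm_num) (by norm_num) (by norm_num) a b ha hb)
    (alt_normal_not_nilpotent le_rfl)

theorem kill_mcl : Kill ↥Cfsg.Spor.McL := by
  obtain ⟨-, t, ht, h2, ⟨e⟩, -⟩ := Cfsg.Agent.S2132.result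
  exact Kill.of_cover ht h2 e (q := 7) (by norm_num) (by norm_num)
    (dvd_card_alt (by norm_num) (by norm_num) (by norm_num))
    (fun a b ha hb => alt_not_comm_two (p := 7) (by norm_num) (by norm_num) (by norm_num) a b ha hb)
    (alt_normal_not_nilpotent (by norm_num))

end Cfsg.Agent.H480
end

-- part: H480/SporLy
section
/-!
# Nilpotent minimal covers: `Ly` (helper480, S3925, S3926)
-/

set_option autoImplicit false

namespace Cfsg.Agent.H480

open Subgroup

theorem Kill.of_mt {n : ℕ} {S : Type*} [Group S] (L : Cfsg.Agent.TypeM.Two.MT n S) (hn : 5 ≤ n) {p : ℕ} (hp : p.Prime)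
    (hp3 : 3 ≤ p) (hpn : p ≤ n) (hnp : n ≤ p + 1) : Kill S := by
  refine Kill.of_hom (z := L.t) L.orderOf_t
    (L.K.π.codRestrict (alternatingGroup (Fin n)) fun x => L.K.mem_alternating x) ?_ ?_ hp (by omega)
    (dvd_card_alt hp hp3 hpn) (alt_not_comm_two hp hp3 hnp) (alt_normal_not_nilpotent hn)
  · rintro ⟨σ, hσ⟩
    obtain ⟨g, hg⟩ := L.K.exists_lift hσ
    exact ⟨g, Subtype.ext hg⟩
  · intro x hx
    have h1 : L.K.π x = 1 := congrArg Subtype.val hx
    rcases (L.K.ker x).1 h1 with h | h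
    · left; rw [h]; rfl
    · right; rw [h, L.hz]

theorem kill_ly : Kill Cfsg.Spor.Ly := by
  obtain ⟨L⟩ := Cfsg.Agent.TypeM.FactsLy.exists_mt_ly
  exact Kill.of_mt L (by norm_num) (p := 11) (by norm_num) (by norm_num) le_rfl (by norm_num)

end Cfsg.Agent.H480
end

-- part: H480/SporSuz
section
/-!
# Nilpotent minimal covers: `Suz` (helper480, S3925, S3926)
-/

set_option autoImplicit false

namespace Cfsg.Agent.H480

open Subgroup KFacts.SuzLFour

theorem kill_suz : Kill Cfsg.Spor.Suz := by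
  have hcard : Nat.card Cfsg.Spor.Suz = 448345497600 := Cfsg.Agent.SporadicRecognition.SuzOrder.card_Suz
  have hfin : Finite Cfsg.Spor.Suz := Nat.finite_of_card_ne_zero (by rw [hcard]; norm_num)
  have hf7 : Fact (Nat.Prime 7) := ⟨by norm_num⟩
  obtain ⟨z, hz⟩ := exists_prime_orderOf_dvd_card' (G := ↥L) 7 (by
    rw [Cfsg.Agent.KFacts.SuzTwoB.card_L]; norm_num)
  refine Kill.of_noncomm (r := 7) (by norm_num) (by rw [hcard]; norm_num) (z := (z : Cfsg.Spor.Suz))
    (by rw [orderOf_coe]; exact hz) (a := x0) (b := e0) (x0_comm z z.2) (e0_comm z z.2) (m := 3) (n := 2)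
    (by norm_num) (by rw [pow_succ, pow_two]; exact x0_cube) (by rw [pow_two]; exact e0_sq) ?_
  intro h
  apply e1_ne
  rw [e1, h]
  group

end Cfsg.Agent.H480
end

-- part: H480/SporCoOne
section
/-!
# Nilpotent minimal covers: `Co1` (helper480, S3925, S3926)
-/

set_option autoImplicit false

namespace Cfsg.Agent.H480

open Subgroup Equiv

theorem centralizer_zpowers_eq {S : Type*} [Group S] (z : S) :
    centralizer ((zpowers z : Subgroup S) : Set S) = centralizer ({z} : Set S) := by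
  rw [zpowers_eq_closure, centralizer_closure]

theorem Kill.of_prod_sub {S : Type*} [Group S] [Finite S] {r : ℕ} (hr : r.Prime) {V : Subgroup S}
    (hV : Nat.card ↥V = r) {X : Type*} [Group X]
    (e : ↥(centralizer (V : Set S)) ≃* Multiplicative (ZMod r) × X)
    {σ : X} (hσ : (orderOf σ).Coprime r) (hC : ∀ y : X, y ^ r = 1 → y * σ = σ * y → y = 1)
    (hN : ∀ N : Subgroup X, N.Normal → N ≠ ⊥ → ¬ Group.IsNilpotent ↥N) (hσ1 : σ ≠ 1) : Kill S := by
  have hfr : Fact r.Prime := ⟨hr⟩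
  obtain ⟨z, hz⟩ := exists_prime_orderOf_dvd_card' (G := ↥V) r (by rw [hV])
  have hzV : zpowers (z : S) = V := by
    apply eq_of_le_of_card_ge
    · rw [zpowers_le]
      exact z.2
    · rw [hV, Nat.card_zpowers, orderOf_coe, hz]
  have hz' : orderOf (z : S) = r := by rw [orderOf_coe]; exact hz
  obtain ⟨w, hw⟩ : ∃ w : S, w = z := ⟨_, rfl⟩
  rw [← hw] at hzV hz'
  rw [← hzV, centralizer_zpowers_eq] at e
  exact Kill.of_prod' hr hz' e hσ hC hN hσ1

theorem kill_co1 : Kill Cfsg.Spor.Co1 := by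
  obtain ⟨z, hz, Q, hQn, hF, hQ, hcard, ⟨e⟩, hnwc⟩ := Cfsg.Agent.S5388.result
  have hfin : Finite Cfsg.Spor.Co1 := inferInstance
  obtain ⟨⟨V, hV, ⟨f⟩⟩, -⟩ := Cfsg.Agent.S5386.result z hz Q hF hQ hcard e hnwc
  have h3 : orderOf (swap (0 : Fin 7) 1 * swap 1 2) = 3 :=
    orderOf_eq_prime (by decide) (by decide)
  refine Kill.of_prod_sub (by norm_num) hV f
    (σ := ⟨swap 0 1 * swap 1 2, by
      rw [Equiv.Perm.mem_alternatingGroup, Equiv.Perm.sign_mul, Equiv.Perm.sign_swap (by decide),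
        Equiv.Perm.sign_swap (by decide)]; rfl⟩) ?_ ?_ (alt_normal_not_nilpotent (by norm_num)) ?_
  · rw [← orderOf_coe, h3]
    norm_num
  · intro y hy hyσ
    by_contra hy1
    have h1 : (swap (0 : Fin 7) 1 * swap 1 2) = 1 := by
      refine eq_one_of_comm_cycle (a := (y : Perm (Fin 7))) (p := 7) (m := 3) (by norm_num) ?_ (by simp)
        (by norm_num) (by decide) (by norm_num) (congrArg Subtype.val hyσ)
      rw [orderOf_coe]
      exact orderOf_eq_prime hy hy1
    exact absurd h1 (by decide)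
  · intro h
    exact absurd (congrArg Subtype.val h) (by decide)

end Cfsg.Agent.H480
end

-- part: H480/SporAll
section
/-!
# Nilpotent minimal covers: the sporadic groups (helper480, S3925, S3926)
-/

set_option autoImplicit false

namespace Cfsg.Agent.H480

open Cfsg

universe u v

/-- **the sporadic groups** -/
theorem row_sporadic {S : Type v} [Group S] (h : IsSporadicGroup S) : Row.{u} S := by
  rcases h with h | h | h | h | h | h | h | h | h | h | h | h | h | h | h | h | h | h |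
      h | h | h | h | h | h | h | h
  · obtain ⟨e⟩ := h
    exact Row.of_kill (Kill.congr e.symm kill_m11)
  · obtain ⟨e⟩ := h
    exact Row.of_kill (Kill.congr e.symm kill_m12)
  · obtain ⟨e⟩ := h
    exact Row.congr e.symm row_m22
  · obtain ⟨e⟩ := h
    exact Row.congr e.symm row_m23
  · obtain ⟨e⟩ := h
    exact Row.of_kill (Kill.congr e.symm kill_m24)
  · obtain ⟨e⟩ := h
    exact Row.of_kill (Kill.congr e.symm kill_j1)
  · obtain ⟨e⟩ := h
    exact Row.of_kill (Kill.congr e.symm kill_j2)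
  · exact Row.of_kill (kill_j3 h)
  · obtain ⟨e⟩ := h
    exact Row.of_kill (Kill.congr e.symm kill_j4)
  · obtain ⟨e⟩ := h
    exact Row.of_kill (Kill.congr e.symm kill_co1)
  · obtain ⟨e⟩ := h
    exact Row.congr e.symm row_co2
  · obtain ⟨e⟩ := h
    exact Row.of_kill (Kill.congr e.symm kill_co3)
  · obtain ⟨e⟩ := h
    exact Row.of_kill (Kill.congr e.symm kill_mcl)
  · obtain ⟨e⟩ := h
    exact Row.congr e.symm row_hs
  · obtain ⟨e⟩ := h
    exact Row.of_kill (Kill.congr e.symm kill_suz)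
  · obtain ⟨e⟩ := h
    exact Row.of_kill (Kill.congr e.symm HeRow.kill_he)
  · obtain ⟨e⟩ := h
    exact Row.of_kill (Kill.congr e.symm RuRow.kill_ru)
  · obtain ⟨e⟩ := h
    exact Row.of_kill (Kill.congr e.symm ONRow.kill_on)
  · obtain ⟨e⟩ := h
    exact Row.of_kill (Kill.congr e.symm kill_ly)
  · obtain ⟨e⟩ := h
    exact Row.of_kill (Kill.congr e.symm kill_fi22)
  · obtain ⟨e⟩ := h
    exact Row.of_kill (Kill.congr e.symm kill_fi23)
  · obtain ⟨e⟩ := h
    exact Row.of_kill (Kill.congr e.symm kill_fi24)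
  · obtain ⟨e⟩ := h
    exact Row.of_kill (Kill.congr e.symm kill_hn)
  · obtain ⟨e⟩ := h
    exact Row.of_kill (Kill.congr e.symm kill_th)
  · obtain ⟨e⟩ := h
    exact Row.of_kill (Kill.congr e.symm kill_b)
  · obtain ⟨e⟩ := h
    exact Row.of_kill (Kill.congr e.symm kill_m)

end Cfsg.Agent.H480
end
end
end
end
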